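import Cfsg.Agent.H10.FO.Defs

set_option autoImplicit false

/-! FO-NORM13 for helper10's S2079 project. -/

namespace Cfsg.Agent.H20.FO

open Subgroup

universe u

theorem sixth_roots (r : ℕ) (hr : r < 13) (h : r ^ 6 % 13 = 1) :
    r ∈ ({1, 3, 4, 9, 10, 12} : Finset ℕ) := by
  interval_cases r <;> simp_all

theorem norm13 : Cfsg.Agent.H10.FO.StNorm13.{u} := by
  intro G _ _ x m hG hm hx13 hx1 hC k hk
  classical
  have hp : Fact (Nat.Prime 13) := ⟨by norm_num⟩
  have hord : orderOf x = 13 := orderOf_eq_prime hx13 hx1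
  have hPcard : Nat.card (zpowers x) = 13 := by rw [Nat.card_zpowers, hord]
  have hxP : x ∈ zpowers x := mem_zpowers x
  have hPpow : ∀ y ∈ zpowers x, ∃ i : ℕ, y = x ^ i := by
    intro y hy
    rw [← mem_powers_iff_mem_zpowers] at hy
    obtain ⟨i, rfl⟩ := hy
    exact ⟨i, rfl⟩
  have hCP : centralizer ((zpowers x : Subgroup G) : Set G) = zpowers x := by
    apply le_antisymm
    · intro g hg
      obtain ⟨i, rfl⟩ := hC g (hg x hxP).symm
      exact pow_mem hxP i
    · intro g hg y hy
      obtain ⟨i, rfl⟩ := hPpow g hg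
      obtain ⟨j, rfl⟩ := hPpow y hy
      rw [← pow_add, ← pow_add, add_comm]
  have hm13 : ¬ 13 ∣ m := by omega
  have hPp : IsPGroup 13 (zpowers x) := IsPGroup.of_card (n := 1) (by rw [hPcard]; norm_num)
  obtain ⟨Q, hPQ⟩ := hPp.exists_le_sylow
  have hQcard : Nat.card (Q : Subgroup G) = 13 := by
    have hm0 : m ≠ 0 := by rintro rfl; exact hm13 (dvd_zero 13)
    rw [Sylow.card_eq_multiplicity, hG, Nat.factorization_mul (by norm_num) hm0]
    simp [Nat.factorization_eq_zero_of_not_dvd hm13,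
      (by norm_num : Nat.Prime 13).factorization_self]
  have hQP : zpowers x = (Q : Subgroup G) :=
    Subgroup.eq_of_le_of_card_ge hPQ (by rw [hQcard, hPcard])
  have hn1 : Nat.card (Sylow 13 G) = (normalizer ((Q : Subgroup G) : Set G)).index :=
    Sylow.card_eq_index_normalizer Q
  have hn2 : Nat.card (Sylow 13 G) ≡ 1 [MOD 13] := card_sylow_modEq_one 13 G
  rw [← hQP] at hn1
  have hCN : centralizer ((zpowers x : Subgroup G) : Set G) ≤
      normalizer ((zpowers x : Subgroup G) : Set G) := centralizer_le_normalizer _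
  have hs12 : (centralizer ((zpowers x : Subgroup G) : Set G)).relIndex
      (normalizer ((zpowers x : Subgroup G) : Set G)) ∣ 12 := by
    have key := card_dvd_of_injective _
      (QuotientGroup.kerLift_injective (zpowers x).normalizerMonoidHom)
    rw [normalizerMonoidHom_ker, ← index, ← relIndex] at key
    have hcyc : IsCyclic (zpowers x) := isCyclic_of_prime_card hPcard
    rw [IsCyclic.card_mulAut, hPcard, Nat.totient_prime (by norm_num : Nat.Prime 13)] at key
    exact key
  have hNcard : Nat.card (centralizer ((zpowers x : Subgroup G) : Set G)) *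
      (centralizer ((zpowers x : Subgroup G) : Set G)).relIndex
        (normalizer ((zpowers x : Subgroup G) : Set G)) =
      Nat.card (normalizer ((zpowers x : Subgroup G) : Set G)) := by
    have := Subgroup.card_mul_index ((centralizer ((zpowers x : Subgroup G) : Set G)).subgroupOf
      (normalizer ((zpowers x : Subgroup G) : Set G)))
    rw [← this]
    congr 1
    exact (Nat.card_congr (Subgroup.subgroupOfEquivOfLe hCN).toEquiv).symm
  rw [hCP] at hs12 hNcard
  rw [hPcard] at hNcard
  have h5 := (normalizer ((zpowers x : Subgroup G) : Set G)).card_mul_index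
  rw [hG, ← hn1, ← hNcard] at h5
  have hs6 : (zpowers x).relIndex (normalizer ((zpowers x : Subgroup G) : Set G)) = 6 := by
    have hmem : (zpowers x).relIndex (normalizer ((zpowers x : Subgroup G) : Set G)) ∈
        Nat.divisors 12 := Nat.mem_divisors.2 ⟨hs12, by norm_num⟩
    have hd : Nat.divisors 12 = {1, 2, 3, 4, 6, 12} := by decide
    rw [hd] at hmem
    simp only [Finset.mem_insert, Finset.mem_singleton] at hmem
    have hn2' : Nat.card (Sylow 13 G) % 13 = 1 := hn2
    have h6 : (zpowers x).relIndex (normalizer ((zpowers x : Subgroup G) : Set G)) *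
        Nat.card (Sylow 13 G) = m := by
      have h13 : 13 * ((zpowers x).relIndex (normalizer ((zpowers x : Subgroup G) : Set G)) *
          Nat.card (Sylow 13 G)) = 13 * m := by rw [← h5]; ring
      exact Nat.eq_of_mul_eq_mul_left (by norm_num) h13
    have h7 : ((zpowers x).relIndex (normalizer ((zpowers x : Subgroup G) : Set G)) *
        Nat.card (Sylow 13 G)) % 13 = 6 := by rw [h6]; exact hm
    rw [Nat.mul_mod, hn2'] at h7
    rcases hmem with h | h | h | h | h | h <;> rw [h] at h7 <;> omega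
  have hRcard : Nat.card (zpowers x).normalizerMonoidHom.range = 6 := by
    rw [← Subgroup.index_ker, normalizerMonoidHom_ker, hCP]
    exact hs6
  have hT : ∀ τ : (zpowers x).normalizerMonoidHom.range,
      (((τ.1 ⟨x, hxP⟩ : zpowers x) : G)) ∈
        (({1, 3, 4, 9, 10, 12} : Finset ℕ)).image (fun j => x ^ j) := by
    intro τ
    have h6 : τ.1 ^ 6 = 1 := by
      have h := pow_card_eq_one' (G := (zpowers x).normalizerMonoidHom.range) (x := τ)
      rw [hRcard] at h
      exact_mod_cast congrArg Subtype.val h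
    obtain ⟨j, hj⟩ := hPpow _ (τ.1 ⟨x, hxP⟩).2
    have hpow : ∀ n : ℕ, (((τ.1 ^ n) ⟨x, hxP⟩ : zpowers x) : G) = x ^ (j ^ n) := by
      intro n
      induction n with
      | zero => simp
      | succ n ih =>
        rw [pow_succ', MulAut.mul_apply]
        have h1 : (τ.1 ^ n) ⟨x, hxP⟩ = (⟨x, hxP⟩ : zpowers x) ^ (j ^ n) :=
          Subtype.ext (by rw [ih]; simp)
        rw [h1, map_pow]
        simp only [SubmonoidClass.coe_pow, hj]
        rw [← pow_mul, pow_succ']
    have h1 := hpow 6
    rw [h6] at h1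
    simp only [MulAut.one_apply] at h1
    have hmod : j ^ 6 ≡ 1 [MOD 13] := by
      rw [← hord]
      apply (pow_eq_pow_iff_modEq (x := x)).1
      rw [pow_one]; exact h1.symm
    have hj13 : (j % 13) ^ 6 % 13 = 1 := by
      have h2 : j ^ 6 % 13 = 1 := hmod
      rwa [Nat.pow_mod] at h2
    refine Finset.mem_image.2 ⟨j % 13, sixth_roots _ (Nat.mod_lt _ (by norm_num)) hj13, ?_⟩
    rw [hj, ← hord, pow_mod_orderOf]
  let f : (zpowers x).normalizerMonoidHom.range →
      ((({1, 3, 4, 9, 10, 12} : Finset ℕ)).image (fun j => x ^ j) : Finset G) :=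
    fun τ => ⟨_, hT τ⟩
  have hf : Function.Injective f := by
    intro τ₁ τ₂ h
    have h0 : ((f τ₁ : G)) = ((f τ₂ : G)) := by rw [h]
    have h' : ((τ₁.1 ⟨x, hxP⟩ : zpowers x) : G) = ((τ₂.1 ⟨x, hxP⟩ : zpowers x) : G) := h0
    apply Subtype.ext
    apply MulEquiv.ext
    intro y
    obtain ⟨i, hi⟩ := hPpow y.1 y.2
    have hy : y = (⟨x, hxP⟩ : zpowers x) ^ i := Subtype.ext (by simp [hi])
    rw [hy, map_pow, map_pow]
    congr 1
    exact Subtype.ext h'
  have hbij := hf.bijective_of_nat_card_le (by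
    rw [hRcard, Nat.card_eq_fintype_card, Fintype.card_coe]
    exact Finset.card_image_le.trans (by decide))
  have hkT : x ^ k ∈ (({1, 3, 4, 9, 10, 12} : Finset ℕ)).image (fun j => x ^ j) := by
    refine Finset.mem_image.2 ⟨k % 13, sixth_roots _ (Nat.mod_lt _ (by norm_num)) ?_, ?_⟩
    · rwa [Nat.pow_mod] at hk
    · show x ^ (k % 13) = x ^ k
      rw [← hord, pow_mod_orderOf]
  obtain ⟨τ, hτ⟩ := hbij.2 ⟨x ^ k, hkT⟩
  obtain ⟨ν, hν⟩ := τ.2
  refine ⟨ν.1, ?_⟩
  have h := congrArg Subtype.val hτ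
  have h2 : ((τ.1 ⟨x, hxP⟩ : zpowers x) : G) = x ^ k := h
  rw [← hν] at h2
  exact h2

example : ∀ (G : Type u) [Group G] [Finite G] (x : G) (m : ℕ),
    Nat.card G = 13 * m → m % 13 = 6 → x ^ 13 = 1 → x ≠ 1 →
    (∀ g : G, g * x = x * g → ∃ i : ℕ, g = x ^ i) →
    ∀ k : ℕ, k ^ 6 % 13 = 1 → ∃ ν : G, ν * x * ν⁻¹ = x ^ k := norm13.{u}

end Cfsg.Agent.H20.FO

#print axioms Cfsg.Agent.H20.FO.norm13
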