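import Mathlib

/-!
helper20: S1238-BF for helper76 — Burnside's fusion lemma for elements centralizing a Sylow
2-subgroup: fusion is controlled by the normalizer.
-/

set_option autoImplicit false

namespace Cfsg.Agent.H20.TwoRank

theorem burnside_center {G : Type*} [Group G] [Finite G] (S : Sylow 2 G) (a b g : G)
    (ha : ∀ x ∈ (S : Subgroup G), a * x = x * a) (hb : ∀ x ∈ (S : Subgroup G), b * x = x * b)
    (haS : a ∈ (S : Subgroup G)) (hbS : b ∈ (S : Subgroup G)) (hg : g * a * g⁻¹ = b) :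
    ∃ n : G, (∀ x, x ∈ (S : Subgroup G) ↔ n * x * n⁻¹ ∈ (S : Subgroup G)) ∧ n * a * n⁻¹ = b := by
  classical
  set C : Subgroup G := Subgroup.centralizer {b} with hC
  have hmemC : ∀ x, x ∈ C ↔ x * b = b * x := by
    intro x
    rw [hC, Subgroup.mem_centralizer_iff]
    constructor
    · intro h; exact (h b rfl).symm
    · intro h y hy
      rw [Set.mem_singleton_iff] at hy
      rw [hy]; exact h.symm
  have hSC : (S : Subgroup G) ≤ C := fun x hx => (hmemC x).2 (hb x hx).symm
  have hmem : ∀ x, x ∈ ((g • S : Sylow 2 G) : Subgroup G) ↔ g⁻¹ * x * g ∈ (S : Subgroup G) := by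
    intro x
    rw [Sylow.coe_subgroup_smul, Subgroup.mem_pointwise_smul_iff_inv_smul_mem, MulAut.smul_def]
    simp
  have hgSC : ((g • S : Sylow 2 G) : Subgroup G) ≤ C := by
    intro x hx
    rw [hmem] at hx
    rw [hmemC, ← hg]
    have h1 := ha _ hx
    calc x * (g * a * g⁻¹) = g * ((g⁻¹ * x * g) * a) * g⁻¹ := by group
      _ = g * (a * (g⁻¹ * x * g)) * g⁻¹ := by rw [h1]
      _ = g * a * g⁻¹ * x := by group
  obtain ⟨c, hc⟩ := MulAction.exists_smul_eq C ((g • S : Sylow 2 G).subtype hgSC) (S.subtype hSC)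
  have key : ∀ y (hy : y ∈ C), y ∈ (S : Subgroup G) ↔
      g⁻¹ * (c : G)⁻¹ * y * c * g ∈ (S : Subgroup G) := by
    intro y hy
    have h1 : (⟨y, hy⟩ : C) ∈ ((S.subtype hSC : Sylow 2 C) : Subgroup C) ↔
        y ∈ (S : Subgroup G) := by
      rw [Sylow.coe_subtype, Subgroup.mem_subgroupOf]
    rw [← h1, ← hc, Sylow.coe_subgroup_smul, Subgroup.mem_pointwise_smul_iff_inv_smul_mem,
      MulAut.smul_def, Sylow.coe_subtype, Subgroup.mem_subgroupOf, hmem]
    have e : g⁻¹ * (((MulAut.conj c)⁻¹ (⟨y, hy⟩ : C) : C) : G) * g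
        = g⁻¹ * (c : G)⁻¹ * y * c * g := by
      simp [mul_assoc]
    rw [e]
  have hcb := (hmemC c).1 c.2
  refine ⟨(c : G) * g, ?_, ?_⟩
  · intro x
    have hconj : g⁻¹ * (c : G)⁻¹ * ((c : G) * g * x * ((c : G) * g)⁻¹) * c * g = x := by group
    constructor
    · intro hx
      have hy : (c : G) * g * x * ((c : G) * g)⁻¹ ∈ C := by
        have h2 : g * x * g⁻¹ ∈ ((g • S : Sylow 2 G) : Subgroup G) := by
          rw [hmem]
          have e : g⁻¹ * (g * x * g⁻¹) * g = x := by group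
          rw [e]; exact hx
        have h3 : (c : G) * (g * x * g⁻¹) * (c : G)⁻¹ ∈ C :=
          C.mul_mem (C.mul_mem c.2 (hgSC h2)) (C.inv_mem c.2)
        have e : (c : G) * g * x * ((c : G) * g)⁻¹ = (c : G) * (g * x * g⁻¹) * (c : G)⁻¹ := by
          group
        rw [e]; exact h3
      rw [key _ hy, hconj]
      exact hx
    · intro hx
      have h2 := (key _ (hSC hx)).1 hx
      rw [hconj] at h2
      exact h2
  · calc (c : G) * g * a * ((c : G) * g)⁻¹ = c * (g * a * g⁻¹) * (c : G)⁻¹ := by group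
      _ = c * b * (c : G)⁻¹ := by rw [hg]
      _ = b := by rw [hcb]; group

end Cfsg.Agent.H20.TwoRank
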