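import Mathlib
import Cfsg.Agent.H81.ExDefs

/-!
# Piece EX-P3 (for helper81): the prime is 3, and `N ≰ C`
-/

set_option autoImplicit false

universe u

namespace Cfsg.Agent.H20.Ex

open Cfsg Cfsg.Agent.H81.Ex

/-- piece EX-P3 -/
theorem p3 : StP3.{u} := by
  intro X _ _ Q C U N J hQn hQC hQN hNU hodd hprime h6 hCJ hw
  obtain ⟨x, hxN, j, hjJ, hxj⟩ := hw
  have hxC : x ∉ C := fun h => hxj (hCJ x h j hjJ)
  refine ⟨?_, fun h => hxC (h hxN)⟩
  by_contra hne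
  apply hxC
  have hpdvd : Q.relIndex N ∣ Q.relIndex U :=
    ⟨N.relIndex U, (Subgroup.relIndex_mul_relIndex Q N U hQN hNU).symm⟩
  have hpodd : Odd (Q.relIndex N) := Odd.of_dvd_nat hodd hpdvd
  have hxp : x ^ (Q.relIndex N) ∈ Q := by
    have := hQn
    have h1 := Subgroup.pow_index_mem (Q.subgroupOf N) (⟨x, hxN⟩ : ↥N)
    rw [Subgroup.mem_subgroupOf] at h1
    have h2 : (((⟨x, hxN⟩ : ↥N) ^ (Q.subgroupOf N).index : ↥N) : X) = x ^ (Q.relIndex N) := by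
      rw [Subgroup.coe_pow]
      rfl
    rw [h2] at h1
    exact h1
  have hcop : Nat.gcd (Q.relIndex N) 6 = 1 := by
    have h2 : Nat.Coprime (Q.relIndex N) 2 := Nat.coprime_two_right.mpr hpodd
    have h3 : Nat.Coprime (Q.relIndex N) 3 := (Nat.coprime_primes hprime Nat.prime_three).mpr hne
    exact Nat.Coprime.mul_right h2 h3
  have hb := Nat.gcd_eq_gcd_ab (Q.relIndex N) 6
  rw [hcop] at hb
  have hx : x = (x ^ (Q.relIndex N)) ^ (Nat.gcdA (Q.relIndex N) 6)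
      * (x ^ 6) ^ (Nat.gcdB (Q.relIndex N) 6) := by
    rw [← zpow_natCast x (Q.relIndex N), ← zpow_natCast x 6, ← zpow_mul, ← zpow_mul, ← zpow_add]
    have e : ((Q.relIndex N : ℕ) : ℤ) * Nat.gcdA (Q.relIndex N) 6
        + ((6 : ℕ) : ℤ) * Nat.gcdB (Q.relIndex N) 6 = 1 := by
      rw [← hb]
      rfl
    rw [e, zpow_one]
  rw [hx]
  exact C.mul_mem (C.zpow_mem (hQC hxp) _) (C.zpow_mem (h6 x (hNU hxN)) _)

example : Cfsg.Agent.H81.Ex.StP3.{u} := p3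

end Cfsg.Agent.H20.Ex

#print axioms Cfsg.Agent.H20.Ex.p3
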