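import Mathlib
import Cfsg.Agent.H81.ExDefs

/-!
# Piece EX-WNE (for helper81): `W_K ≠ 1`
-/

set_option autoImplicit false

universe u

namespace Cfsg.Agent.H20.Ex

open Cfsg Cfsg.Agent.H81.Ex
open scoped commutatorElement

/-- piece EX-WNE -/
theorem wne : StWne.{u} := by
  intro X _ _ V K _ hV hVK hPC hKgen hKC hW
  obtain ⟨-, hV2⟩ := hV
  apply hKC
  -- `V ⊓ K ≤ O₂(K)`
  have hVKP : V ⊓ K ≤ pCoreOf 2 K := by
    have h1 : V.subgroupOf K ≤ pCore 2 ↥K := by
      apply le_sSup
      refine ⟨inferInstance, ?_⟩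
      intro g
      refine ⟨1, ?_⟩
      have hg : ((g : ↥K) : X) ∈ V := Subgroup.mem_subgroupOf.mp g.2
      have h2 := hV2 _ hg
      apply Subtype.ext
      apply Subtype.ext
      rw [pow_one]
      simpa using h2
    have h3 := Subgroup.map_mono (f := K.subtype) h1
    rw [Subgroup.subgroupOf_map_subtype] at h3
    exact h3
  -- `V ⊓ K ≤ Ω₁Z(O₂(K))`
  have hVKO : V ⊓ K ≤ omegaCenterOf (pCoreOf 2 K) := by
    intro z hz
    have hzV : z ∈ V := (Subgroup.mem_inf.mp hz).1
    apply Subgroup.subset_closure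
    refine ⟨Subgroup.mem_inf.mpr ⟨hVKP hz, ?_⟩, hV2 z hzV⟩
    rw [Subgroup.mem_centralizer_iff]
    intro h hh
    have h1 := hPC hh
    rw [Subgroup.mem_centralizer_iff] at h1
    exact (h1 z hzV).symm
  -- `K` centralizes `V ⊓ K`
  have hcent : ∀ z ∈ V ⊓ K, ∀ k ∈ K, z * k = k * z := by
    intro z hz k hk
    have h1 : ⁅z, k⁆ ∈ wOf K := Subgroup.commutator_mem_commutator (hVKO hz) hk
    rw [hW, Subgroup.mem_bot, commutatorElement_def] at h1
    calc z * k = (z * k * z⁻¹ * k⁻¹) * (k * z) := by group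
      _ = k * z := by rw [h1, one_mul]
  -- squares of elements of `K` centralize `V`
  have hsq : ∀ k ∈ K, k * k ∈ Subgroup.centralizer (V : Set X) := by
    intro k hk
    rw [Subgroup.mem_centralizer_iff]
    intro v hv
    have hv' : v ∈ V := hv
    obtain ⟨z, hzdef⟩ : ∃ z : X, z = k * v * k⁻¹ * v⁻¹ := ⟨_, rfl⟩
    have hzV : z ∈ V := by
      rw [hzdef]
      exact V.mul_mem (Subgroup.Normal.conj_mem inferInstance v hv' k) (V.inv_mem hv')
    have hzK : z ∈ K := by
      have h1 := (Subgroup.mem_normalizer_iff.mp (hVK hv') k⁻¹).mp (K.inv_mem hk)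
      have e : z = k * (v * k⁻¹ * v⁻¹) := by
        rw [hzdef]
        group
      rw [e]
      exact K.mul_mem hk h1
    have hzk := hcent z (Subgroup.mem_inf.mpr ⟨hzV, hzK⟩) k hk
    have hzz : z * z = 1 := by
      have := hV2 z hzV
      rwa [pow_two] at this
    have e1 : k * v = z * v * k := by
      rw [hzdef]
      group
    calc v * (k * k) = (z * z) * v * k * k := by rw [hzz]; group
      _ = z * (z * v * k) * k := by group
      _ = z * (k * v) * k := by rw [e1]
      _ = (z * k) * v * k := by group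
      _ = (k * z) * v * k := by rw [hzk]
      _ = k * (z * v * k) := by group
      _ = k * (k * v) := by rw [e1]
      _ = k * k * v := by group
  -- elements of odd order of `K` centralize `V`
  rw [← hKgen, Subgroup.closure_le]
  rintro g ⟨hgK, m, hm⟩
  have e1 : g = (g * g) ^ (m + 1) := by
    rw [← pow_two, ← pow_mul]
    have e2 : 2 * (m + 1) = orderOf g + 1 := by omega
    rw [e2, pow_succ, pow_orderOf_eq_one, one_mul]
  rw [SetLike.mem_coe, e1]
  exact Subgroup.pow_mem _ (hsq g hgK) _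

example : Cfsg.Agent.H81.Ex.StWne.{u} := wne

end Cfsg.Agent.H20.Ex

#print axioms Cfsg.Agent.H20.Ex.wne
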