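import Mathlib
import Cfsg.Agent.S0916

/-!
# helper20: maximal `p`-subgroups of a subgroup (Sylow subgroups of a subgroup, as subgroups of `G`)

* `IsMaxP p K D` : `D` is a `p`-subgroup of `K`, maximal among the `p`-subgroups of `K`.
* `isMaxP_of_sylow_map`, `IsMaxP.exists_sylow` : this is the same as being the image of a Sylow
  `p`-subgroup of `K`.
* `IsMaxP.card_le`, `isMaxP_of_card` : the cardinality characterisation.
* `isMaxP_of_subgroupOf`, `isMaxP_subgroupOf` : for `l ∈ N_G(D)`, `D` is a maximal `p`-subgroup of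
  `C_G(l)` iff it is a maximal `p`-subgroup of `C_{N_G(D)}(l)`.
-/

set_option autoImplicit false
set_option linter.style.haveILetI false
set_option linter.unusedSectionVars false

namespace Cfsg.Agent.H20

universe u

variable {G : Type u} [Group G] {p : ℕ}

/-- `D` is a maximal `p`-subgroup of `K`. -/
def IsMaxP (p : ℕ) (K D : Subgroup G) : Prop :=
  D ≤ K ∧ IsPGroup p D ∧ ∀ Q : Subgroup G, IsPGroup p Q → D ≤ Q → Q ≤ K → Q = D

theorem isMaxP_of_sylow_map (K D : Subgroup G) (S : Sylow p K)
    (hS : D = (S : Subgroup K).map K.subtype) : IsMaxP p K D := by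
  refine ⟨?_, ?_, ?_⟩
  · rw [hS]; exact Subgroup.map_subtype_le _
  · rw [hS]; exact S.isPGroup'.map _
  · intro Q hQ hDQ hQK
    exact Cfsg.Agent.S0916.max_of_sylow_map K D S hS.symm Q hQK hQ hDQ

theorem IsMaxP.exists_sylow [Fact p.Prime] [Finite G] {K D : Subgroup G} (h : IsMaxP p K D) :
    ∃ S : Sylow p K, D = (S : Subgroup K).map K.subtype := by
  obtain ⟨hDK, hD, hmax⟩ := h
  have h1 : IsPGroup p (D.subgroupOf K) := hD.comap_subtype
  obtain ⟨S, hS⟩ := h1.exists_le_sylow
  refine ⟨S, ?_⟩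
  have h2 : D ≤ (S : Subgroup K).map K.subtype := by
    rw [← Subgroup.map_subgroupOf_eq_of_le hDK]
    exact Subgroup.map_mono hS
  exact (hmax _ (S.isPGroup'.map _) h2 (Subgroup.map_subtype_le _)).symm

theorem IsMaxP.card_le [Fact p.Prime] [Finite G] {K D : Subgroup G} (h : IsMaxP p K D)
    (Q : Subgroup G) (hQ : IsPGroup p Q) (hQK : Q ≤ K) : Nat.card Q ≤ Nat.card D := by
  obtain ⟨S, hS⟩ := h.exists_sylow
  have h1 : IsPGroup p (Q.subgroupOf K) := hQ.comap_subtype
  obtain ⟨S', hS'⟩ := h1.exists_le_sylow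
  have e1 : Nat.card Q = Nat.card (Q.subgroupOf K) :=
    (Nat.card_congr (Subgroup.subgroupOfEquivOfLe hQK).toEquiv).symm
  have e2 : Nat.card D = Nat.card (S : Subgroup K) := by
    rw [hS, Subgroup.card_subtype]
  have e3 : Nat.card (S' : Subgroup K) = Nat.card (S : Subgroup K) := by
    rw [Sylow.card_eq_multiplicity, Sylow.card_eq_multiplicity]
  rw [e1, e2, ← e3]
  exact Subgroup.card_le_of_le hS'

theorem isMaxP_of_card [Finite G] {K D : Subgroup G} (hDK : D ≤ K) (hD : IsPGroup p D)
    (hc : ∀ Q : Subgroup G, IsPGroup p Q → Q ≤ K → Nat.card Q ≤ Nat.card D) : IsMaxP p K D := by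
  refine ⟨hDK, hD, fun Q hQ hDQ hQK => ?_⟩
  exact (Subgroup.eq_of_le_of_card_ge hDQ (hc Q hQ hQK)).symm

/-- If `D` (inside its normalizer `N`) is a maximal `p`-subgroup of `C_N(l)`, then `D` is a maximal
`p`-subgroup of `C_G(l)`. -/
theorem isMaxP_of_subgroupOf [Fact p.Prime] [Finite G] (D : Subgroup G)
    (l : Subgroup.normalizer (D : Set G))
    (h : IsMaxP p (Subgroup.centralizer ({l} : Set (Subgroup.normalizer (D : Set G))))
      (D.subgroupOf (Subgroup.normalizer (D : Set G)))) :
    IsMaxP p (Subgroup.centralizer ({(l : G)} : Set G)) D := by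
  obtain ⟨hDK, hD, hmax⟩ := h
  have hDN : D ≤ Subgroup.normalizer (D : Set G) := Subgroup.le_normalizer
  have hDp : IsPGroup p D := by
    have := hD.map (Subgroup.normalizer (D : Set G)).subtype
    rwa [Subgroup.map_subgroupOf_eq_of_le hDN] at this
  have hDC : D ≤ Subgroup.centralizer ({(l : G)} : Set G) := by
    intro d hd
    have h1 : (⟨d, hDN hd⟩ : Subgroup.normalizer (D : Set G)) ∈
        Subgroup.centralizer ({l} : Set (Subgroup.normalizer (D : Set G))) :=
      hDK (by rw [Subgroup.mem_subgroupOf]; exact hd)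
    rw [Subgroup.mem_centralizer_singleton_iff] at h1 ⊢
    exact congrArg Subtype.val h1
  refine ⟨hDC, hDp, fun R hR hDR hRC => ?_⟩
  by_contra hne
  have hlt : D < R := lt_of_le_of_ne hDR (fun h => hne h.symm)
  obtain ⟨x, hxR, hxD, hxN⟩ := Cfsg.Agent.S0916.exists_normalizing D R hR hlt
  set R' : Subgroup (Subgroup.normalizer (D : Set G)) :=
    R.subgroupOf (Subgroup.normalizer (D : Set G)) with hR'
  have hR'p : IsPGroup p R' := hR.comap_subtype
  have hDR' : D.subgroupOf (Subgroup.normalizer (D : Set G)) ≤ R' := by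
    intro d hd
    rw [hR', Subgroup.mem_subgroupOf]
    rw [Subgroup.mem_subgroupOf] at hd
    exact hDR hd
  have hR'C : R' ≤ Subgroup.centralizer ({l} : Set (Subgroup.normalizer (D : Set G))) := by
    intro r hr
    rw [hR', Subgroup.mem_subgroupOf] at hr
    have := hRC hr
    rw [Subgroup.mem_centralizer_singleton_iff] at this ⊢
    exact Subtype.ext this
  have heq := hmax R' hR'p hDR' hR'C
  have hx' : (⟨x, hxN⟩ : Subgroup.normalizer (D : Set G)) ∈ R' := by
    rw [hR', Subgroup.mem_subgroupOf]; exact hxR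
  rw [heq, Subgroup.mem_subgroupOf] at hx'
  exact hxD hx'

/-- If `D` is a maximal `p`-subgroup of `C_G(l)`, `l ∈ N = N_G(D)`, then `D` is a maximal
`p`-subgroup of `C_N(l)`. -/
theorem isMaxP_subgroupOf (D : Subgroup G) (l : Subgroup.normalizer (D : Set G))
    (h : IsMaxP p (Subgroup.centralizer ({(l : G)} : Set G)) D) :
    IsMaxP p (Subgroup.centralizer ({l} : Set (Subgroup.normalizer (D : Set G))))
      (D.subgroupOf (Subgroup.normalizer (D : Set G))) := by
  obtain ⟨hDK, hD, hmax⟩ := h
  have hDN : D ≤ Subgroup.normalizer (D : Set G) := Subgroup.le_normalizer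
  refine ⟨?_, hD.comap_subtype, fun Q hQ hDQ hQC => ?_⟩
  · intro d hd
    rw [Subgroup.mem_subgroupOf] at hd
    have := hDK hd
    rw [Subgroup.mem_centralizer_singleton_iff] at this ⊢
    exact Subtype.ext this
  · have h1 : D ≤ Q.map (Subgroup.normalizer (D : Set G)).subtype := by
      intro d hd
      exact ⟨⟨d, hDN hd⟩, hDQ (by rw [Subgroup.mem_subgroupOf]; exact hd), rfl⟩
    have h2 : Q.map (Subgroup.normalizer (D : Set G)).subtype ≤
        Subgroup.centralizer ({(l : G)} : Set G) := by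
      rintro _ ⟨q, hq, rfl⟩
      have := hQC hq
      rw [Subgroup.mem_centralizer_singleton_iff] at this ⊢
      exact congrArg Subtype.val this
    have h3 := hmax _ (hQ.map _) h1 h2
    apply le_antisymm _ hDQ
    intro q hq
    rw [Subgroup.mem_subgroupOf]
    have : (q : G) ∈ Q.map (Subgroup.normalizer (D : Set G)).subtype := ⟨q, hq, rfl⟩
    exact h3.le this

end Cfsg.Agent.H20
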