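import Mathlib
import Cfsg.Prelude.Def_Blocks
import Cfsg.Agent.H20.MaxP
import Cfsg.Agent.H20.BrauerMap
import Cfsg.Agent.H20.MinMax
import Cfsg.Agent.H20.DefectOrder
import Cfsg.Agent.H80.MaxDefect
import Cfsg.Agent.S0906
import Cfsg.Agent.S0917
import Cfsg.Agent.S4653

/-!
# helper20: Brauer's first main theorem

`N = N_G(D)` for a `p`-subgroup `D`.

* `brMap_classSum_of_isMaxP` : if `D` is a maximal `p`-subgroup of `C_G(l)`, `l ∈ N`, the Brauer map
  sends the class sum of `l` in `G` to the class sum of `l` in `N`.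
* `first_main_i` : a block of `N` with defect group `D` induces a block of `G` with defect group `D`.
* `first_main_exists` : a block of `G` with defect group `D` is induced from a block of `N` with
  defect group `D`.
* `first_main_unique` : that block of `N` is unique.
-/

set_option autoImplicit false
set_option linter.style.haveILetI false
set_option linter.unusedSectionVars false

namespace Cfsg.Agent.H20

open Cfsg Cfsg.Agent.H4

open scoped BigOperators

universe u

variable {G : Type u} [Group G] [Fintype G] {p : ℕ} [Fact p.Prime] {M : Ideal AlgInt}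

/-- An `N_G(D)`-conjugate of an element of `C_G(D)` lies in `C_G(D)`. -/
theorem conj_mem_centralizer_of_normalizer (D : Subgroup G) {n l : G}
    (hn : n ∈ Subgroup.normalizer (D : Set G)) (hl : l ∈ Subgroup.centralizer (D : Set G)) :
    n * l * n⁻¹ ∈ Subgroup.centralizer (D : Set G) := by
  rw [Subgroup.mem_centralizer_iff] at hl ⊢
  intro d hd
  have h1 : n⁻¹ * d * n ∈ D := by
    have := (Subgroup.mem_normalizer_iff'.mp hn (n⁻¹ * d)).mpr (by simpa using hd)
    simpa [mul_assoc] using this
  have h2 := hl _ h1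
  calc d * (n * l * n⁻¹) = n * ((n⁻¹ * d * n) * l) * n⁻¹ := by group
    _ = n * (l * (n⁻¹ * d * n)) * n⁻¹ := by rw [h2]
    _ = n * l * n⁻¹ * d := by group

/-- If `D` is a maximal `p`-subgroup of `C_G(l)` with `l ∈ N = N_G(D)`, then the elements of the
`G`-class of `l` lying in `C_G(D)` form the `N`-class of `l`. -/
theorem brMap_classSum_of_isMaxP (D : Subgroup G) [Fintype (Subgroup.normalizer (D : Set G))]
    (l : Subgroup.normalizer (D : Set G))
    (h : IsMaxP p (Subgroup.centralizer ({(l : G)} : Set G)) D) :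
    brMap D (Subgroup.normalizer (D : Set G)) (classSum (l : G)) = classSum l := by
  classical
  obtain ⟨hDC, hD, hmax⟩ := h
  have hlC : (l : G) ∈ Subgroup.centralizer (D : Set G) := by
    rw [Subgroup.mem_centralizer_iff]
    intro d hd
    have := hDC hd
    rw [Subgroup.mem_centralizer_singleton_iff] at this
    exact this
  apply MonoidAlgebra.coeff_injective
  ext x
  rw [coeff_brMap, coeff_classSum, coeff_classSum]
  by_cases hx : IsConj l x
  · rw [if_pos hx]
    obtain ⟨n, hn⟩ := isConj_iff.mp hx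
    have hxe : (x : G) = (n : G) * (l : G) * (n : G)⁻¹ := by
      rw [← hn]; rfl
    have h1 : (x : G) ∈ Subgroup.centralizer (D : Set G) := by
      rw [hxe]
      exact conj_mem_centralizer_of_normalizer D n.2 hlC
    have h2 : IsConj (l : G) (x : G) := isConj_iff.mpr ⟨(n : G), hxe.symm⟩
    rw [if_pos h1, if_pos h2]
  · rw [if_neg hx]
    by_cases h1 : (x : G) ∈ Subgroup.centralizer (D : Set G)
    · rw [if_pos h1]
      by_cases h2 : IsConj (l : G) (x : G)
      · exfalso
        apply hx
        obtain ⟨t, ht⟩ := isConj_iff.mp h2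
        obtain ⟨n, hnN, hn⟩ := Cfsg.Agent.H80.exists_normalizer_conj p D hD (l : G) hlC
          (fun Q hQ hDQ hQl => hmax Q hQ hDQ (fun y hy => by
            rw [Subgroup.mem_centralizer_singleton_iff]; exact hQl y hy)) t (by rw [ht]; exact h1)
        refine isConj_iff.mpr ⟨⟨n, hnN⟩, ?_⟩
        apply Subtype.ext
        show n * (l : G) * n⁻¹ = (x : G)
        rw [hn, ht]
      · rw [if_neg h2]
    · rw [if_neg h1]

/-- If `D` is a maximal `p`-subgroup of `C_G(l)` with `l ∈ N = N_G(D)`, then the Brauer central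
character of a class function `ξ` of `N` at `l` is its central character at `l`. -/
theorem brauerCentralChar_eq_of_isMaxP (D : Subgroup G)
    (l : Subgroup.normalizer (D : Set G))
    (h : IsMaxP p (Subgroup.centralizer ({(l : G)} : Set G)) D)
    (ξ : Subgroup.normalizer (D : Set G) → ℂ)
    (hξ : IsClassFunction (Subgroup.normalizer (D : Set G)) ξ) :
    brauerCentralChar D (Subgroup.normalizer (D : Set G)) ξ (l : G) = centralChar ξ l := by
  classical
  letI : Fintype (Subgroup.normalizer (D : Set G)) := Fintype.ofFinite _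
  rw [← omega_brMap_classSum, brMap_classSum_of_isMaxP D l h, omega_classSum ξ hξ]

/-- The Brauer congruence gives block induction. -/
theorem isInducedBlock_of_brauer (hM : IsPModular p M) (P H : Subgroup G) (hP : IsPGroup p P)
    (hPH : P ≤ H) (hHN : H ≤ Subgroup.normalizer (P : Set G)) (ξ₀ : IrrCharacter H)
    (χ₀ : IrrCharacter G)
    (h : ∀ g : G, MemLocalIdeal M
      (brauerCentralChar P H (ξ₀ : H → ℂ) g - centralChar (χ₀ : G → ℂ) g)) :
    IsInducedBlock M H (blockOf M (ξ₀ : H → ℂ)) (blockOf M (χ₀ : G → ℂ)) := by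
  classical
  letI : Fintype H := Fintype.ofFinite _
  have hMp := isPrime_of_isPModular hM
  refine ⟨⟨ξ₀, rfl⟩, ⟨χ₀, rfl⟩, fun ξ hξ χ hχ g => ?_⟩
  have t1 := inducedCentralChar_sub_brauerCentralChar_mem hM P H hP hPH hHN ξ g
  have t2 : MemLocalIdeal M (brauerCentralChar P H (ξ : H → ℂ) g -
      brauerCentralChar P H (ξ₀ : H → ℂ) g) := by
    have h1 := omega_sub_omega_memLocalIdeal hMp (ξ₀ : H → ℂ) (ξ : H → ℂ)
      (irr_isClassFunction ξ₀) (irr_isClassFunction ξ) hξ
      (brMap_mem (P := P) (H := H) hHN (classSum_mem (localRing M hMp) g))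
    rw [omega_brMap_classSum, omega_brMap_classSum] at h1
    have h2 := memLocalIdeal_neg h1
    rwa [neg_sub] at h2
  have t3 := h g
  have t4 : MemLocalIdeal M (centralChar (χ₀ : G → ℂ) g - centralChar (χ : G → ℂ) g) := hχ g
  have t5 := memLocalIdeal_add hMp (memLocalIdeal_add hMp (memLocalIdeal_add hMp t1 t2) t3) t4
  convert t5 using 1
  ring

/-- **First main theorem, part (i)**: a block of `N_G(D)` with defect group `D` induces a block of
`G` with defect group `D`. -/
theorem first_main_i (hM : IsPModular p M) (D : Subgroup G) (hD : IsPGroup p D)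
    (ξ₀ : IrrCharacter (Subgroup.normalizer (D : Set G)))
    (hdef : IsDefectGroup p M (blockOf M (ξ₀ : Subgroup.normalizer (D : Set G) → ℂ))
      (D.subgroupOf (Subgroup.normalizer (D : Set G)))) :
    ∃ χ₀ : IrrCharacter G, IsDefectGroup p M (blockOf M (χ₀ : G → ℂ)) D ∧
      IsInducedBlock M (Subgroup.normalizer (D : Set G))
        (blockOf M (ξ₀ : Subgroup.normalizer (D : Set G) → ℂ)) (blockOf M (χ₀ : G → ℂ)) := by
  classical
  letI : Fintype (Subgroup.normalizer (D : Set G)) := Fintype.ofFinite _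
  have hMp := isPrime_of_isPModular hM
  have hDN : D ≤ Subgroup.normalizer (D : Set G) := Subgroup.le_normalizer
  have hCN : Subgroup.centralizer (D : Set G) ≤ Subgroup.normalizer (D : Set G) :=
    Subgroup.centralizer_le_normalizer _
  obtain ⟨χ₀, hind, hbr⟩ := exists_isInducedBlock hM hD hDN hCN le_rfl ξ₀
  refine ⟨χ₀, ?_, hind⟩
  obtain ⟨l, hl, Q, hQ⟩ := hdef
  have hmaxN : IsMaxP p (Subgroup.centralizer ({l} : Set (Subgroup.normalizer (D : Set G))))
      (D.subgroupOf (Subgroup.normalizer (D : Set G))) := isMaxP_of_sylow_map _ _ Q hQ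
  have hmaxG : IsMaxP p (Subgroup.centralizer ({(l : G)} : Set G)) D :=
    isMaxP_of_subgroupOf D l hmaxN
  have hk : ¬ MemLocalIdeal M (centralChar (χ₀ : G → ℂ) (l : G)) := by
    intro hc
    have h1 := hbr (l : G)
    rw [brauerCentralChar_eq_of_isMaxP D l hmaxG _ (irr_isClassFunction ξ₀)] at h1
    have h2 := memLocalIdeal_sub hMp (memLocalIdeal_add hMp h1 hc) (memLocalIdeal_zero hMp)
    rw [sub_add_cancel, sub_zero] at h2
    exact hl.2.2 ξ₀ (Cfsg.Agent.H80.mem_blockOf_self hMp ξ₀) h2
  obtain ⟨E, hE, hDE⟩ := Cfsg.Agent.S0917.result p M hM (Subgroup.normalizer (D : Set G)) _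
    ⟨ξ₀, rfl⟩ _ ⟨χ₀, rfl⟩ hind (D.subgroupOf (Subgroup.normalizer (D : Set G))) ⟨l, hl, Q, hQ⟩
  rw [Subgroup.map_subgroupOf_eq_of_le hDN] at hDE
  have hE' := hE
  obtain ⟨y, hy, S, hS⟩ := hE'
  have hEp : IsPGroup p E := by rw [hS]; exact S.isPGroup'.map _
  have hEy : E ≤ Subgroup.centralizer ({y} : Set G) := by
    rw [hS]; exact Subgroup.map_subtype_le _
  obtain ⟨x, hx, hEx⟩ := exists_conj_centralized_of_block hM χ₀ (l : G) y hk hy.2.1 E hEp hEy
  obtain ⟨SD, hSD⟩ := hmaxG.exists_sylow
  obtain ⟨x', hx'⟩ := exists_le_conj_sylow_centralizer E hEp (l : G) x hx hEx SD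
  rw [← hSD] at hx'
  have hcard : Nat.card E ≤ Nat.card D := by
    calc Nat.card E ≤ Nat.card (D.map (MulAut.conj x').toMonoidHom) := Subgroup.card_le_of_le hx'
      _ = Nat.card D := Subgroup.card_map_of_injective (MulAut.conj x').injective
  have hDE' : D = E := Subgroup.eq_of_le_of_card_ge hDE hcard
  rw [hDE']; exact hE

/-- **First main theorem, existence**: a block of `G` with defect group `D` is induced from a block
of `N_G(D)` with defect group `D`. -/
theorem first_main_exists (hM : IsPModular p M) (D : Subgroup G) (hD : IsPGroup p D)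
    (χ₀ : IrrCharacter G) (hdef : IsDefectGroup p M (blockOf M (χ₀ : G → ℂ)) D) :
    ∃ ξ₀ : IrrCharacter (Subgroup.normalizer (D : Set G)),
      IsDefectGroup p M (blockOf M (ξ₀ : Subgroup.normalizer (D : Set G) → ℂ))
        (D.subgroupOf (Subgroup.normalizer (D : Set G))) ∧
      IsInducedBlock M (Subgroup.normalizer (D : Set G))
        (blockOf M (ξ₀ : Subgroup.normalizer (D : Set G) → ℂ)) (blockOf M (χ₀ : G → ℂ)) := by
  classical
  letI : Fintype (Subgroup.normalizer (D : Set G)) := Fintype.ofFinite _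
  have hMp := isPrime_of_isPModular hM
  have hDN : D ≤ Subgroup.normalizer (D : Set G) := Subgroup.le_normalizer
  have hCN : Subgroup.centralizer (D : Set G) ≤ Subgroup.normalizer (D : Set G) :=
    Subgroup.centralizer_le_normalizer _
  have hdef' := hdef
  obtain ⟨y, hy, S, hS⟩ := hdef'
  have hDy : D ≤ Subgroup.centralizer ({y} : Set G) := by
    rw [hS]; exact Subgroup.map_subtype_le _
  have hyC : y ∈ Subgroup.centralizer (D : Set G) := by
    rw [Subgroup.mem_centralizer_iff]
    intro d hd
    have := hDy hd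
    rw [Subgroup.mem_centralizer_singleton_iff] at this
    exact this
  -- the Brauer image of the block idempotent
  have heR : blockElt (blockOf M (χ₀ : G → ℂ)) ∈ cfSubring G (localRing M hMp) :=
    blockElt_mem hMp χ₀
  set β := brMap D (Subgroup.normalizer (D : Set G)) (blockElt (blockOf M (χ₀ : G → ℂ))) with hβ
  have hβR : β ∈ cfSubring (Subgroup.normalizer (D : Set G)) (localRing M hMp) :=
    brMap_mem le_rfl heR
  have hβy : β.coeff ⟨y, hCN hyC⟩ = blockCoeff (blockOf M (χ₀ : G → ℂ)) y := by
    rw [hβ, coeff_brMap, if_pos hyC, coeff_blockElt]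
  have hβ2 : CoeffIdeal M (β * β - β) := by
    intro c
    have h1 := coeff_brMap_mul_sub_mem hM hD hCN heR heR c
    rw [Cfsg.Agent.H81.blockElt_mul_self] at h1
    have h2 := memLocalIdeal_neg h1
    rw [← hβ] at h2
    convert h2 using 1
    rw [MonoidAlgebra.coeff_sub, MonoidAlgebra.coeff_sub]
    simp
  have hpow : ∀ n : ℕ, CoeffIdeal M (β ^ (n + 1) - β) := by
    intro n
    induction n with
    | zero =>
      rw [zero_add, pow_one, sub_self]
      exact coeffIdeal_zero hMp
    | succ k ih =>
      have e1 : β ^ (k + 1 + 1) - β = β * (β ^ (k + 1) - β) + (β * β - β) := by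
        rw [pow_succ' β (k + 1), mul_sub]
        abel
      rw [e1]
      exact (CoeffIdeal.mul_left hMp hβR ih).add hMp hβ2
  have hex : ∃ ξ₁ : IrrCharacter (Subgroup.normalizer (D : Set G)),
      ¬ MemLocalIdeal M (omega (ξ₁ : Subgroup.normalizer (D : Set G) → ℂ) β) := by
    by_contra hno
    push Not at hno
    obtain ⟨n, hn0, hn⟩ := Cfsg.Agent.H80.exists_pow_coeff_memLocalIdeal hMp hβR hno
    obtain ⟨k, rfl⟩ : ∃ k, n = k + 1 := ⟨n - 1, by omega⟩
    have h1 := hpow k ⟨y, hCN hyC⟩
    have h2 := hn ⟨y, hCN hyC⟩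
    have h3 := memLocalIdeal_sub hMp h2 h1
    rw [MonoidAlgebra.coeff_sub, Finsupp.sub_apply, sub_sub_cancel, hβy] at h3
    exact hy.2.1 h3
  obtain ⟨ξ₁, hξ₁⟩ := hex
  obtain ⟨χ₁, hχ₁⟩ := (isModHom_brauer hM hD hCN le_rfl ξ₁).exists_irr
  have hχ₁B : χ₁ ∈ blockOf M (χ₀ : G → ℂ) := by
    by_contra hnot
    have h1 := hχ₁ _ heR
    rw [omega_blockElt, if_neg hnot, sub_zero] at h1
    exact hξ₁ h1
  have hblk : blockOf M (χ₁ : G → ℂ) = blockOf M (χ₀ : G → ℂ) :=
    Cfsg.Agent.H80.blockOf_eq_of_mem hMp hχ₁B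
  have hind : IsInducedBlock M (Subgroup.normalizer (D : Set G))
      (blockOf M (ξ₁ : Subgroup.normalizer (D : Set G) → ℂ)) (blockOf M (χ₀ : G → ℂ)) := by
    rw [← hblk]
    apply isInducedBlock_of_brauer hM D (Subgroup.normalizer (D : Set G)) hD hDN le_rfl ξ₁ χ₁
    intro g
    have h1 := hχ₁ (classSum g) (classSum_mem _ g)
    rwa [omega_brMap_classSum, omega_classSum _ (irr_isClassFunction χ₁)] at h1
  -- the defect group of the block of `ξ₁`
  obtain ⟨l, hl⟩ := Cfsg.Agent.S0906.result p M hM
    (blockOf M (ξ₁ : Subgroup.normalizer (D : Set G) → ℂ)) ⟨ξ₁, rfl⟩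
  haveI hnorm : (D.subgroupOf (Subgroup.normalizer (D : Set G))).Normal :=
    Subgroup.normal_in_normalizer
  have hDNp : IsPGroup p (D.subgroupOf (Subgroup.normalizer (D : Set G))) := hD.comap_subtype
  have hlC : l ∈ Subgroup.centralizer
      ((D.subgroupOf (Subgroup.normalizer (D : Set G)) :
        Subgroup (Subgroup.normalizer (D : Set G))) : Set (Subgroup.normalizer (D : Set G))) := by
    by_contra hnot
    have h0 := Cfsg.Agent.S4653.result p M hM (D.subgroupOf (Subgroup.normalizer (D : Set G)))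
      hDNp (blockOf M (ξ₁ : Subgroup.normalizer (D : Set G) → ℂ)) ⟨ξ₁, rfl⟩ l hnot
    apply hl.2.1
    rw [h0]
    exact memLocalIdeal_zero hMp
  have hDl : D.subgroupOf (Subgroup.normalizer (D : Set G)) ≤
      Subgroup.centralizer ({l} : Set (Subgroup.normalizer (D : Set G))) := by
    intro d hd
    rw [Subgroup.mem_centralizer_iff] at hlC
    rw [Subgroup.mem_centralizer_singleton_iff]
    exact hlC d hd
  obtain ⟨Q', hQ'⟩ := exists_sylow_centralizer_ge l
    (D.subgroupOf (Subgroup.normalizer (D : Set G))) hDNp hDl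
  have hD' : IsDefectGroup p M (blockOf M (ξ₁ : Subgroup.normalizer (D : Set G) → ℂ))
      ((Q' : Subgroup (Subgroup.centralizer ({l} : Set (Subgroup.normalizer (D : Set G))))).map
        (Subgroup.centralizer ({l} : Set (Subgroup.normalizer (D : Set G)))).subtype) :=
    ⟨l, hl, Q', rfl⟩
  obtain ⟨E, hE, hD'E⟩ := Cfsg.Agent.S0917.result p M hM (Subgroup.normalizer (D : Set G)) _
    ⟨ξ₁, rfl⟩ _ ⟨χ₀, rfl⟩ hind _ hD'
  have hcE := card_defectGroup hM χ₀ E hE
  have hcD := card_defectGroup hM χ₀ D hdef
  have hcard : Nat.card ((Q' : Subgroup (Subgroup.centralizer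
        ({l} : Set (Subgroup.normalizer (D : Set G))))).map
        (Subgroup.centralizer ({l} : Set (Subgroup.normalizer (D : Set G)))).subtype) ≤
      Nat.card (D.subgroupOf (Subgroup.normalizer (D : Set G))) := by
    calc Nat.card ((Q' : Subgroup (Subgroup.centralizer
          ({l} : Set (Subgroup.normalizer (D : Set G))))).map
          (Subgroup.centralizer ({l} : Set (Subgroup.normalizer (D : Set G)))).subtype)
        = Nat.card (((Q' : Subgroup (Subgroup.centralizer
          ({l} : Set (Subgroup.normalizer (D : Set G))))).map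
          (Subgroup.centralizer ({l} : Set (Subgroup.normalizer (D : Set G)))).subtype).map
            (Subgroup.normalizer (D : Set G)).subtype) := (Subgroup.card_subtype _ _).symm
      _ ≤ Nat.card E := Subgroup.card_le_of_le hD'E
      _ = Nat.card D := by rw [hcE, hcD]
      _ = Nat.card (D.subgroupOf (Subgroup.normalizer (D : Set G))) :=
        (Nat.card_congr (Subgroup.subgroupOfEquivOfLe hDN).toEquiv).symm
  have heq := Subgroup.eq_of_le_of_card_ge hQ' hcard
  exact ⟨ξ₁, ⟨l, hl, Q', heq⟩, hind⟩

/-- **First main theorem, uniqueness**: if the block of `ξ₁` (of `N_G(D)`) has defect group `D` and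
induces `B`, then every block of `N_G(D)` inducing `B` equals it. -/
theorem first_main_unique (hM : IsPModular p M) (D : Subgroup G) (hD : IsPGroup p D)
    (χ₀ : IrrCharacter G) (ξ₁ ξ₂ : IrrCharacter (Subgroup.normalizer (D : Set G)))
    (h1 : IsDefectGroup p M (blockOf M (ξ₁ : Subgroup.normalizer (D : Set G) → ℂ))
      (D.subgroupOf (Subgroup.normalizer (D : Set G))))
    (hi1 : IsInducedBlock M (Subgroup.normalizer (D : Set G))
      (blockOf M (ξ₁ : Subgroup.normalizer (D : Set G) → ℂ)) (blockOf M (χ₀ : G → ℂ)))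
    (hi2 : IsInducedBlock M (Subgroup.normalizer (D : Set G))
      (blockOf M (ξ₂ : Subgroup.normalizer (D : Set G) → ℂ)) (blockOf M (χ₀ : G → ℂ))) :
    blockOf M (ξ₂ : Subgroup.normalizer (D : Set G) → ℂ) =
      blockOf M (ξ₁ : Subgroup.normalizer (D : Set G) → ℂ) := by
  classical
  letI : Fintype (Subgroup.normalizer (D : Set G)) := Fintype.ofFinite _
  have hMp := isPrime_of_isPModular hM
  have hDN : D ≤ Subgroup.normalizer (D : Set G) := Subgroup.le_normalizer
  obtain ⟨l₁, hl₁, Q₁, hQ₁⟩ := h1
  haveI hnorm : (D.subgroupOf (Subgroup.normalizer (D : Set G))).Normal :=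
    Subgroup.normal_in_normalizer
  have hDNp : IsPGroup p (D.subgroupOf (Subgroup.normalizer (D : Set G))) := hD.comap_subtype
  have he₁R : blockElt (blockOf M (ξ₁ : Subgroup.normalizer (D : Set G) → ℂ)) ∈
      cfSubring (Subgroup.normalizer (D : Set G)) (localRing M hMp) := blockElt_mem hMp ξ₁
  have hξ₁self := Cfsg.Agent.H80.mem_blockOf_self hMp ξ₁
  have hξ₂self := Cfsg.Agent.H80.mem_blockOf_self hMp ξ₂
  have hχ₀self := Cfsg.Agent.H80.mem_blockOf_self hMp χ₀
  have key : MemLocalIdeal M
      (omega (ξ₁ : Subgroup.normalizer (D : Set G) → ℂ)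
          (blockElt (blockOf M (ξ₁ : Subgroup.normalizer (D : Set G) → ℂ))) -
        omega (ξ₂ : Subgroup.normalizer (D : Set G) → ℂ)
          (blockElt (blockOf M (ξ₁ : Subgroup.normalizer (D : Set G) → ℂ)))) := by
    unfold omega
    rw [Finset.sum_div, Finset.sum_div, ← Finset.sum_sub_distrib]
    apply sum_mem_of_conj_closed (localIdeal M hMp)
      (fun g => (blockElt (blockOf M (ξ₁ : Subgroup.normalizer (D : Set G) → ℂ))).coeff g *
          (ξ₁ : Subgroup.normalizer (D : Set G) → ℂ) g /
            (ξ₁ : Subgroup.normalizer (D : Set G) → ℂ) 1 -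
        (blockElt (blockOf M (ξ₁ : Subgroup.normalizer (D : Set G) → ℂ))).coeff g *
          (ξ₂ : Subgroup.normalizer (D : Set G) → ℂ) g /
            (ξ₂ : Subgroup.normalizer (D : Set G) → ℂ) 1)
    · intro g x
      show (blockElt (blockOf M (ξ₁ : Subgroup.normalizer (D : Set G) → ℂ))).coeff (x * g * x⁻¹) *
          (ξ₁ : Subgroup.normalizer (D : Set G) → ℂ) (x * g * x⁻¹) /
            (ξ₁ : Subgroup.normalizer (D : Set G) → ℂ) 1 -
        (blockElt (blockOf M (ξ₁ : Subgroup.normalizer (D : Set G) → ℂ))).coeff (x * g * x⁻¹) *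
          (ξ₂ : Subgroup.normalizer (D : Set G) → ℂ) (x * g * x⁻¹) /
            (ξ₂ : Subgroup.normalizer (D : Set G) → ℂ) 1 = _
      rw [he₁R.1, irr_isClassFunction ξ₁, irr_isClassFunction ξ₂]
    · intro h
      rw [mem_localIdeal]
      have hform : ((Subgroup.centralizer ({h} : Set (Subgroup.normalizer (D : Set G)))).index : ℂ) *
          ((blockElt (blockOf M (ξ₁ : Subgroup.normalizer (D : Set G) → ℂ))).coeff h *
            (ξ₁ : Subgroup.normalizer (D : Set G) → ℂ) h /
              (ξ₁ : Subgroup.normalizer (D : Set G) → ℂ) 1 -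
          (blockElt (blockOf M (ξ₁ : Subgroup.normalizer (D : Set G) → ℂ))).coeff h *
            (ξ₂ : Subgroup.normalizer (D : Set G) → ℂ) h /
              (ξ₂ : Subgroup.normalizer (D : Set G) → ℂ) 1) =
          (blockElt (blockOf M (ξ₁ : Subgroup.normalizer (D : Set G) → ℂ))).coeff h *
            (centralChar (ξ₁ : Subgroup.normalizer (D : Set G) → ℂ) h -
              centralChar (ξ₂ : Subgroup.normalizer (D : Set G) → ℂ) h) := by
        unfold centralChar
        ring
      rw [hform]
      by_cases hc : MemLocalIdeal M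
          ((blockElt (blockOf M (ξ₁ : Subgroup.normalizer (D : Set G) → ℂ))).coeff h)
      · exact memLocalIdeal_mul_right hMp hc (memLocalRing_sub hMp
          (centralChar_memLocalRing hMp ξ₁ h) (centralChar_memLocalRing hMp ξ₂ h))
      · apply memLocalIdeal_mul_left hMp (he₁R.2 h)
        rw [coeff_blockElt] at hc
        have hhC : h ∈ Subgroup.centralizer
            ((D.subgroupOf (Subgroup.normalizer (D : Set G)) :
              Subgroup (Subgroup.normalizer (D : Set G))) :
                Set (Subgroup.normalizer (D : Set G))) := by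
          by_contra hnot
          have h0 := Cfsg.Agent.S4653.result p M hM
            (D.subgroupOf (Subgroup.normalizer (D : Set G)))
            hDNp (blockOf M (ξ₁ : Subgroup.normalizer (D : Set G) → ℂ)) ⟨ξ₁, rfl⟩ h hnot
          apply hc
          rw [h0]
          exact memLocalIdeal_zero hMp
        have hDh : D.subgroupOf (Subgroup.normalizer (D : Set G)) ≤
            Subgroup.centralizer ({h} : Set (Subgroup.normalizer (D : Set G))) := by
          intro d hd
          rw [Subgroup.mem_centralizer_iff] at hhC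
          rw [Subgroup.mem_centralizer_singleton_iff]
          exact hhC d hd
        have hmaxN : IsMaxP p (Subgroup.centralizer ({h} : Set (Subgroup.normalizer (D : Set G))))
            (D.subgroupOf (Subgroup.normalizer (D : Set G))) := by
          apply isMaxP_of_card hDh hDNp
          intro Q hQ hQh
          have hk : ¬ MemLocalIdeal M
              (centralChar (ξ₁ : Subgroup.normalizer (D : Set G) → ℂ) l₁) :=
            hl₁.2.2 ξ₁ hξ₁self
          obtain ⟨x, hx, hQx⟩ := exists_conj_centralized_of_block hM ξ₁ l₁ h hk hc Q hQ hQh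
          obtain ⟨x', hx'⟩ := exists_le_conj_sylow_centralizer Q hQ l₁ x hx hQx Q₁
          rw [← hQ₁] at hx'
          calc Nat.card Q ≤ Nat.card ((D.subgroupOf (Subgroup.normalizer (D : Set G))).map
                (MulAut.conj x').toMonoidHom) := Subgroup.card_le_of_le hx'
            _ = Nat.card (D.subgroupOf (Subgroup.normalizer (D : Set G))) :=
              Subgroup.card_map_of_injective (MulAut.conj x').injective
        have hmaxG := isMaxP_of_subgroupOf D h hmaxN
        have e1 := brauerCentralChar_eq_of_isMaxP D h hmaxG _ (irr_isClassFunction ξ₁)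
        have e2 := brauerCentralChar_eq_of_isMaxP D h hmaxG _ (irr_isClassFunction ξ₂)
        have a1 := inducedCentralChar_sub_brauerCentralChar_mem hM D
          (Subgroup.normalizer (D : Set G)) hD hDN le_rfl ξ₁ (h : G)
        have a2 := inducedCentralChar_sub_brauerCentralChar_mem hM D
          (Subgroup.normalizer (D : Set G)) hD hDN le_rfl ξ₂ (h : G)
        have b1 := hi1.2.2 ξ₁ hξ₁self χ₀ hχ₀self (h : G)
        have b2 := hi2.2.2 ξ₂ hξ₂self χ₀ hχ₀self (h : G)
        rw [e1] at a1
        rw [e2] at a2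
        have hfin := memLocalIdeal_add hMp
          (memLocalIdeal_sub hMp (memLocalIdeal_sub hMp b1 a1) b2) a2
        convert hfin using 1
        ring
    · intro g _ x; exact Finset.mem_univ _
  rw [omega_blockElt, omega_blockElt, if_pos hξ₁self] at key
  by_contra hne
  have hnot : ξ₂ ∉ blockOf M (ξ₁ : Subgroup.normalizer (D : Set G) → ℂ) :=
    fun hmem => hne (Cfsg.Agent.H80.blockOf_eq_of_mem hMp hmem)
  rw [if_neg hnot, sub_zero] at key
  exact not_memLocalIdeal_one hMp key

end Cfsg.Agent.H20
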