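import Mathlib
import Cfsg.Prelude.Def_Blocks
import Cfsg.Agent.H20.SecondMain
import Cfsg.Agent.H20.BlockInd
import Cfsg.Agent.H81.IndBlock

/-!
# helper20: block parts of induced characters

* `blockPart_eq` : unfolding `blockPart` with the ambient `Fintype` instance.
* `blockPart_indFun_one` : if `ω_ξ^G ≡ ω_{χ₀}`, then the value at `1` of the `B`-part of `ξ^G` is
  a natural number `n = ξ^G(1) · u` with `u` a local integer, `u ≡ 1` or `0` modulo the local
  ideal according as `χ₀ ∈ B` or not.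
* `factorization_of_local_unit`, `factorization_of_local_ideal` : the `p`-adic consequences.
-/

set_option autoImplicit false
set_option linter.style.haveILetI false
set_option linter.unusedSectionVars false

namespace Cfsg.Agent.H20

open Cfsg Cfsg.Agent.H4

open scoped BigOperators

universe u

variable {G : Type u} [Group G] [Fintype G] {p : ℕ} {M : Ideal AlgInt}

theorem blockPart_eq (B : Set (IrrCharacter G)) (ϑ : G → ℂ) (g : G) :
    blockPart B ϑ g = ∑ᶠ χ ∈ B, classInner ϑ (χ : G → ℂ) * (χ : G → ℂ) g := by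
  unfold blockPart
  have : Fintype.ofFinite G = (inferInstance : Fintype G) := Subsingleton.elim _ _
  rw [this]

open scoped Classical in
/-- The value at `1` of the `B`-part of an induced character `ξ^G`, when `ω_ξ^G ≡ ω_{χ₀}`. -/
theorem blockPart_indFun_one (hM : M.IsPrime) (H : Subgroup G) [Fintype H] (ξ : IrrCharacter H)
    (χ₀ : IrrCharacter G)
    (hind : ∀ g : G, MemLocalIdeal M
      (inducedCentralChar H (ξ : H → ℂ) g - centralChar (χ₀ : G → ℂ) g))
    (B : Set (IrrCharacter G)) (hB : IsPBlock M B) :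
    ∃ (n : ℕ) (u : ℂ), blockPart B (indFun H (ξ : H → ℂ)) 1 = (n : ℂ) ∧
      (n : ℂ) = ((H.index * charDegree (ξ : H → ℂ) : ℕ) : ℂ) * u ∧ MemLocalRing M u ∧
      MemLocalIdeal M (u - (if χ₀ ∈ B then 1 else 0)) ∧
      indFun H (ξ : H → ℂ) 1 = ((H.index * charDegree (ξ : H → ℂ) : ℕ) : ℂ) := by
  letI := fintypeIrr G
  obtain ⟨χ₁, rfl⟩ := hB
  obtain ⟨θ, hθ⟩ : ∃ θ : G → ℂ, θ = indFun H (ξ : H → ℂ) := ⟨_, rfl⟩
  rw [← hθ]
  have hθcf : IsClassFunction G θ := hθ ▸ indFun_isClassFunction H _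
  have hGpos : Nat.card G ≠ 0 := (Nat.card_pos (α := G)).ne'
  have hHpos : Nat.card H ≠ 0 := (Nat.card_pos (α := H)).ne'
  have hcardmul : Nat.card H * H.index = Nat.card G := Subgroup.card_mul_index H
  have hθ1 : θ 1 = ((H.index * charDegree (ξ : H → ℂ) : ℕ) : ℂ) := by
    rw [hθ, indFun_one, (Cfsg.Agent.H81.irr_charDegree ξ).1]
    have hH : (Nat.card H : ℂ) ≠ 0 := by exact_mod_cast hHpos
    have : (Nat.card G : ℂ) = (Nat.card H : ℂ) * (H.index : ℂ) := by
      rw [← Nat.cast_mul, hcardmul]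
    rw [this]
    push_cast
    field_simp
  have hθ1ne : θ 1 ≠ 0 := by
    rw [hθ1]
    have h1 : H.index ≠ 0 := Subgroup.index_ne_zero_of_finite
    have h2 := (Cfsg.Agent.H81.irr_charDegree ξ).2
    exact_mod_cast Nat.mul_ne_zero h1 h2.ne'
  have hmult : ∀ χ : IrrCharacter G, ∃ a : ℕ, classInner θ (χ : G → ℂ) = (a : ℂ) := fun χ =>
    hθ ▸ classInner_isCharacter_nat
      (isCharacter_indFun H _ (Cfsg.Agent.H80.isCharacter_of_irr ξ))
      (Cfsg.Agent.H80.isCharacter_of_irr χ)
  choose mult hmult using hmult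
  have hz := blockElt_mem hM χ₁
  refine ⟨∑ χ : IrrCharacter G, if χ ∈ blockOf M (χ₁ : G → ℂ) then
      mult χ * charDegree (χ : G → ℂ) else 0,
    omega (ξ : H → ℂ) (Cfsg.Agent.H80.truncTo H (blockElt (blockOf M (χ₁ : G → ℂ)))),
    ?_, ?_, ?_, ?_, hθ1⟩
  · rw [blockPart_eq, finsum_mem_irr]
    push_cast
    apply Finset.sum_congr rfl
    intro χ _
    by_cases hχ : χ ∈ blockOf M (χ₁ : G → ℂ)
    · rw [if_pos hχ, if_pos hχ, hmult χ, (Cfsg.Agent.H81.irr_charDegree χ).1]
    · rw [if_neg hχ, if_neg hχ]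
  · have h2 := sum_coeff_mul_classFunction hθcf (blockElt (blockOf M (χ₁ : G → ℂ)))
    have h3 : ∑ g : G, (blockElt (blockOf M (χ₁ : G → ℂ))).coeff g * θ g =
        θ 1 * omega θ (blockElt (blockOf M (χ₁ : G → ℂ))) := by
      unfold omega
      field_simp
    have h4 : omega θ (blockElt (blockOf M (χ₁ : G → ℂ))) =
        omega (ξ : H → ℂ) (Cfsg.Agent.H80.truncTo H (blockElt (blockOf M (χ₁ : G → ℂ)))) := by
      rw [hθ]
      exact omega_indFun H _ (irr_one_ne_zero ξ) hz.1
    rw [← hθ1, ← h4, ← h3, h2]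
    push_cast
    apply Finset.sum_congr rfl
    intro χ _
    rw [omega_blockElt]
    by_cases hχ : χ ∈ blockOf M (χ₁ : G → ℂ)
    · rw [if_pos hχ, if_pos hχ, hmult χ, (Cfsg.Agent.H81.irr_charDegree χ).1, mul_one]
    · rw [if_neg hχ, if_neg hχ, mul_zero, mul_zero]
  · exact omega_memLocalRing hM ξ (Cfsg.Agent.H80.truncTo_mem_cfSubring
      (Cfsg.Agent.H80.cfSubring_le_invSubring H _ hz))
  · have h5 := omega_truncTo_sub_omega_mem hM H ξ χ₀ hind hz
    rwa [omega_blockElt] at h5

/-- If `n = N u` with `u` a local integer congruent to `1`, then `n ≠ 0` and `n`, `N` have the same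
`p`-part. -/
theorem factorization_of_local_unit [Fact p.Prime] (hM : IsPModular p M) {n N : ℕ} (hN : N ≠ 0)
    {u : ℂ} (h : (n : ℂ) = (N : ℂ) * u) (hu : MemLocalRing M u)
    (hu1 : MemLocalIdeal M (u - 1)) : n ≠ 0 ∧ n.factorization p = N.factorization p := by
  have hp : p.Prime := Fact.out
  have hMp := isPrime_of_isPModular hM
  have hNC : (N : ℂ) ≠ 0 := by exact_mod_cast hN
  have hpC : (p : ℂ) ≠ 0 := by exact_mod_cast hp.ne_zero
  have hn : n ≠ 0 := by
    rintro rfl
    have hu0 : u = 0 := by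
      have : (N : ℂ) * u = 0 := by rw [← h]; simp
      exact (mul_eq_zero.mp this).resolve_left hNC
    rw [hu0, zero_sub] at hu1
    have := memLocalIdeal_neg hu1
    rw [neg_neg] at this
    exact not_memLocalIdeal_one hMp this
  refine ⟨hn, ?_⟩
  have en := Nat.ordProj_mul_ordCompl_eq_self n p
  have eN := Nat.ordProj_mul_ordCompl_eq_self N p
  have hn' := Nat.not_dvd_ordCompl hp hn
  have hN' := Nat.not_dvd_ordCompl hp hN
  set a := n.factorization p with ha
  set c := N.factorization p with hc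
  set n' := n / p ^ a with hn'def
  set N' := N / p ^ c with hN'def
  have hC : (p : ℂ) ^ a * (n' : ℂ) = (p : ℂ) ^ c * (N' : ℂ) * u := by
    have : ((p ^ a * n' : ℕ) : ℂ) = ((p ^ c * N' : ℕ) : ℂ) * u := by rw [en, eN]; exact h
    push_cast at this
    exact this
  rcases lt_trichotomy a c with hlt | heq | hgt
  · exfalso
    obtain ⟨d, hd⟩ : ∃ d, c = a + (d + 1) := ⟨c - a - 1, by omega⟩
    have e : (n' : ℂ) = (p : ℂ) * ((p : ℂ) ^ d * (N' : ℂ) * u) := by
      have hpa : (p : ℂ) ^ a ≠ 0 := pow_ne_zero _ hpC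
      apply mul_left_cancel₀ hpa
      rw [hC, hd]
      ring
    have hmem : MemLocalIdeal M (n' : ℂ) := by
      rw [e]
      apply memLocalIdeal_mul_right hMp (memLocalIdeal_natCast_self hM)
      have h1 : MemLocalRing M ((p : ℂ) ^ d * (N' : ℂ)) := by
        have := memLocalRing_natCast hMp (p ^ d * N')
        push_cast at this
        exact this
      exact (localRing M hMp).mul_mem h1 hu
    exact hn' ((memLocalIdeal_natCast_iff hM n').mp hmem)
  · exact heq
  · exfalso
    obtain ⟨d, hd⟩ : ∃ d, a = c + (d + 1) := ⟨a - c - 1, by omega⟩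
    have e : (N' : ℂ) * u = (p : ℂ) * ((p : ℂ) ^ d * (n' : ℂ)) := by
      have hpc : (p : ℂ) ^ c ≠ 0 := pow_ne_zero _ hpC
      apply mul_left_cancel₀ hpc
      rw [← mul_assoc, ← hC, hd]
      ring
    have hmem : MemLocalIdeal M ((N' : ℂ) * u) := by
      rw [e]
      apply memLocalIdeal_mul_right hMp (memLocalIdeal_natCast_self hM)
      have := memLocalRing_natCast hMp (p ^ d * n')
      push_cast at this
      exact this
    have hmem2 : MemLocalIdeal M ((N' : ℂ) * (u - 1)) :=
      memLocalIdeal_mul_left hMp (memLocalRing_natCast hMp N') hu1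
    have hmem3 := memLocalIdeal_sub hMp hmem hmem2
    have e3 : (N' : ℂ) * u - (N' : ℂ) * (u - 1) = (N' : ℂ) := by ring
    rw [e3] at hmem3
    exact hN' ((memLocalIdeal_natCast_iff hM N').mp hmem3)

/-- If `n = N u` with `u` in the local ideal, then `n = 0` or the `p`-part of `n` is strictly
larger than that of `N`. -/
theorem factorization_of_local_ideal [Fact p.Prime] (hM : IsPModular p M) {n N : ℕ}
    {u : ℂ} (h : (n : ℂ) = (N : ℂ) * u) (hu : MemLocalIdeal M u) :
    n = 0 ∨ N.factorization p < n.factorization p := by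
  have hp : p.Prime := Fact.out
  have hMp := isPrime_of_isPModular hM
  have hpC : (p : ℂ) ≠ 0 := by exact_mod_cast hp.ne_zero
  by_cases hn : n = 0
  · exact Or.inl hn
  right
  by_contra hle
  push Not at hle
  have en := Nat.ordProj_mul_ordCompl_eq_self n p
  have eN := Nat.ordProj_mul_ordCompl_eq_self N p
  have hn' := Nat.not_dvd_ordCompl hp hn
  set a := n.factorization p with ha
  set c := N.factorization p with hc
  set n' := n / p ^ a with hn'def
  set N' := N / p ^ c with hN'def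
  have hC : (p : ℂ) ^ a * (n' : ℂ) = (p : ℂ) ^ c * (N' : ℂ) * u := by
    have : ((p ^ a * n' : ℕ) : ℂ) = ((p ^ c * N' : ℕ) : ℂ) * u := by rw [en, eN]; exact h
    push_cast at this
    exact this
  obtain ⟨d, hd⟩ : ∃ d, c = a + d := ⟨c - a, by omega⟩
  have e : (n' : ℂ) = ((p : ℂ) ^ d * (N' : ℂ)) * u := by
    have hpa : (p : ℂ) ^ a ≠ 0 := pow_ne_zero _ hpC
    apply mul_left_cancel₀ hpa
    rw [hC, hd]
    ring
  have hmem : MemLocalIdeal M (n' : ℂ) := by
    rw [e]
    apply memLocalIdeal_mul_left hMp _ hu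
    have := memLocalRing_natCast hMp (p ^ d * N')
    push_cast at this
    exact this
  exact hn' ((memLocalIdeal_natCast_iff hM n').mp hmem)

end Cfsg.Agent.H20
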