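import Mathlib
import Cfsg.Prelude.Def_Blocks
import Cfsg.Agent.H20.DefectOrder

/-!
# helper20: character values at `x y` for a `p`-element `x` commuting with `y`

* `memLocalIdeal_sub_one_of_pow_eq_one` : a `p`-power root of unity is `≡ 1` mod the local ideal.
* `irr_mul_sub_of_commute` : `χ(x y) ≡ χ(y)` for a `p`-element `x` commuting with `y`.
* `centralizer_mul_le_of_coprime` : `C(x y) ≤ C(y)` for `x` a `p`-element commuting with the
  `p`-regular `y`.
* `not_memLocalIdeal_irr_mul_of_height_zero`, `not_memLocalIdeal_centralChar_mul` : the two parts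
  of the lemma on `χ(x y)` for `y` a defect class and `x` in a Sylow `p`-subgroup of `C(y)`.
-/

set_option autoImplicit false
set_option linter.style.haveILetI false
set_option linter.unusedSectionVars false

namespace Cfsg.Agent.H20

open Cfsg Cfsg.Agent.H4

universe u

/-- A `p`-power root of unity is congruent to `1` modulo the local ideal. -/
theorem memLocalIdeal_sub_one_of_pow_eq_one {p : ℕ} {M : Ideal AlgInt} (hM : IsPModular p M)
    {ω : ℂ} {k : ℕ} (h : ω ^ p ^ k = 1) : MemLocalIdeal M (ω - 1) := by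
  have hp := hM.1
  haveI := hM.2.1
  haveI : Fact p.Prime := ⟨hp⟩
  have hMp := isPrime_of_isPModular hM
  have hint : IsIntegral ℤ ω := IsIntegral.of_pow (pow_pos hp.pos k) (h ▸ isIntegral_one)
  obtain ⟨a, ha⟩ : ∃ a : AlgInt, (a : ℂ) = ω := ⟨⟨ω, hint⟩, rfl⟩
  have hak : a ^ p ^ k = 1 := Subtype.ext (by push_cast; rw [ha]; exact h)
  letI : Field (AlgInt ⧸ M) := Ideal.Quotient.field M
  haveI : CharP (AlgInt ⧸ M) p := (CharP.charP_iff_prime_eq_zero hp).mpr (by
    have : (Ideal.Quotient.mk M) (p : AlgInt) = 0 := Ideal.Quotient.eq_zero_iff_mem.mpr hM.2.2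
    simpa using this)
  have h0 : ((Ideal.Quotient.mk M) a - 1) ^ p ^ k = 0 := by
    rw [sub_pow_char_pow, one_pow, ← map_pow, hak, map_one, sub_self]
  have h1 : (Ideal.Quotient.mk M) (a - 1) = 0 := by
    rw [map_sub, map_one]
    exact (pow_eq_zero_iff (pow_ne_zero k hp.ne_zero)).mp h0
  have h2 : a - 1 ∈ M := Ideal.Quotient.eq_zero_iff_mem.mp h1
  have := memLocalIdeal_of_mem hMp h2
  rw [← ha]
  simpa using this

section Central

variable {H : Type u} [Group H] [Fintype H]

theorem irr_central_pow (φ : IrrCharacter H) {z : H} (hz : z ∈ Subgroup.center H) (n : ℕ) :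
    (φ : H → ℂ) (z ^ n) = ((φ : H → ℂ) z / (φ : H → ℂ) 1) ^ n * (φ : H → ℂ) 1 := by
  induction n with
  | zero => simp
  | succ n ih =>
    rw [pow_succ', irr_central_mul φ hz, ih]
    ring

theorem irr_central_mul_sub {p : ℕ} {M : Ideal AlgInt} (hM : IsPModular p M)
    (φ : IrrCharacter H) {z : H} (hz : z ∈ Subgroup.center H) {k : ℕ} (hzk : z ^ p ^ k = 1)
    (u : H) : MemLocalIdeal M ((φ : H → ℂ) (z * u) - (φ : H → ℂ) u) := by
  have hMp := isPrime_of_isPModular hM
  have h0 := irr_one_ne_zero φ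
  have h1 := irr_central_pow φ hz (p ^ k)
  rw [hzk] at h1
  have h2 : ((φ : H → ℂ) z / (φ : H → ℂ) 1) ^ p ^ k = 1 := by
    have : ((φ : H → ℂ) z / (φ : H → ℂ) 1) ^ p ^ k * (φ : H → ℂ) 1 = 1 * (φ : H → ℂ) 1 := by
      rw [← h1, one_mul]
    exact mul_right_cancel₀ h0 this
  have h3 := memLocalIdeal_sub_one_of_pow_eq_one hM h2
  rw [irr_central_mul φ hz u]
  have e : (φ : H → ℂ) z / (φ : H → ℂ) 1 * (φ : H → ℂ) u - (φ : H → ℂ) u
      = ((φ : H → ℂ) z / (φ : H → ℂ) 1 - 1) * (φ : H → ℂ) u := by ring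
  rw [e]
  exact memLocalIdeal_mul_right hMp h3
    (memLocalRing_algInt hMp ⟨_, Cfsg.Agent.H81.irr_isIntegral φ u⟩)

theorem character_central_mul_sub {p : ℕ} {M : Ideal AlgInt} (hM : IsPModular p M)
    (θ : H → ℂ) (hθ : IsCharacter H θ) {z : H} (hz : z ∈ Subgroup.center H) {k : ℕ}
    (hzk : z ^ p ^ k = 1) (u : H) : MemLocalIdeal M (θ (z * u) - θ u) := by
  classical
  letI := fintypeIrr H
  have hMp := isPrime_of_isPModular hM
  obtain ⟨m, rfl⟩ := isCharacter_iff.mp hθ
  have h1 : ∀ x : H, (∑ᶠ ψ : IrrCharacter H, (m ψ : ℂ) • (ψ : H → ℂ)) x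
      = ∑ ψ : IrrCharacter H, (m ψ : ℂ) * (ψ : H → ℂ) x := by
    intro x
    rw [finsum_eq_sum_of_fintype, Finset.sum_apply]
    rfl
  rw [h1, h1, ← Finset.sum_sub_distrib]
  apply memLocalIdeal_sum hMp
  intro φ _
  rw [← mul_sub]
  exact memLocalIdeal_mul_left hMp (memLocalRing_natCast hMp _)
    (irr_central_mul_sub hM φ hz hzk u)

end Central

section Group

variable {G : Type u} [Group G] [Fintype G]

/-- `χ(x y) ≡ χ(y)` modulo the local ideal for a `p`-element `x` commuting with `y`. -/
theorem irr_mul_sub_of_commute {p : ℕ} {M : Ideal AlgInt} (hM : IsPModular p M)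
    (χ : IrrCharacter G) (x y : G) (hxy : Commute x y) {k : ℕ} (hx : x ^ p ^ k = 1) :
    MemLocalIdeal M ((χ : G → ℂ) (x * y) - (χ : G → ℂ) y) := by
  haveI : Fintype (Subgroup.centralizer ({x} : Set G)) := Fintype.ofFinite _
  have hxC : x ∈ Subgroup.centralizer ({x} : Set G) :=
    Subgroup.mem_centralizer_singleton_iff.mpr rfl
  have hyC : y ∈ Subgroup.centralizer ({x} : Set G) :=
    Subgroup.mem_centralizer_singleton_iff.mpr hxy.eq.symm
  have hz : (⟨x, hxC⟩ : Subgroup.centralizer ({x} : Set G)) ∈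
      Subgroup.center (Subgroup.centralizer ({x} : Set G)) := by
    rw [Subgroup.mem_center_iff]
    intro c
    apply Subtype.ext
    exact Subgroup.mem_centralizer_singleton_iff.mp c.2
  exact character_central_mul_sub hM
    (fun h : Subgroup.centralizer ({x} : Set G) => (χ : G → ℂ) h)
    (isCharacter_restrict _ (Cfsg.Agent.H80.isCharacter_of_irr χ)) hz (k := k)
    (Subtype.ext (by simpa using hx)) ⟨y, hyC⟩

omit [Fintype G] in
/-- `C(x y) ≤ C(y)` for a `p`-element `x` commuting with the `p`-regular element `y`. -/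
theorem centralizer_mul_le_of_coprime {p : ℕ} (hp : p.Prime) (x y : G) (hxy : Commute x y)
    {k : ℕ} (hx : x ^ p ^ k = 1) (hy : ¬ p ∣ orderOf y) :
    Subgroup.centralizer ({x * y} : Set G) ≤ Subgroup.centralizer ({y} : Set G) := by
  intro c hc
  rw [Subgroup.mem_centralizer_singleton_iff] at hc ⊢
  have hco : (p ^ k).Coprime (orderOf y) :=
    Nat.Coprime.pow_left k ((Nat.Prime.coprime_iff_not_dvd hp).mpr hy)
  obtain ⟨m, hm⟩ := exists_pow_eq_self_of_coprime hco
  have e : ((x * y) ^ p ^ k) ^ m = y := by rw [hxy.mul_pow, hx, one_mul, hm]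
  have hcomm : Commute c (x * y) := hc
  rw [← e]
  exact ((hcomm.pow_right _).pow_right _).eq

/-- Height-zero characters do not vanish mod the ideal at `x y`, `y` a defect class and `x` a
`p`-element centralizing `y`. -/
theorem not_memLocalIdeal_irr_mul_of_height_zero {p : ℕ} {M : Ideal AlgInt} (hM : IsPModular p M)
    (χ₀ : IrrCharacter G) (y : G) (hy : IsDefectClass M (blockOf M (χ₀ : G → ℂ)) y)
    (x : G) (hxy : Commute x y) {k : ℕ} (hx : x ^ p ^ k = 1)
    (χ : IrrCharacter G) (hχ : χ ∈ blockOf M (χ₀ : G → ℂ))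
    (h0 : blockHeight p (blockOf M (χ₀ : G → ℂ)) (χ : G → ℂ) = 0) :
    ¬ MemLocalIdeal M ((χ : G → ℂ) (x * y)) := by
  have hMp := isPrime_of_isPModular hM
  have hsInf := sInf_factorization_eq_of_isDefectClass hM χ₀ y hy
  unfold blockHeight at h0
  have h1 : (charDegree (χ : G → ℂ)).factorization p
      ≤ sInf ((fun ψ : IrrCharacter G => (charDegree (ψ : G → ℂ)).factorization p) ''
      blockOf M (χ₀ : G → ℂ)) := Nat.sub_eq_zero_iff_le.mp h0
  have h2 : sInf ((fun ψ : IrrCharacter G => (charDegree (ψ : G → ℂ)).factorization p) ''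
      blockOf M (χ₀ : G → ℂ)) ≤ (charDegree (χ : G → ℂ)).factorization p :=
    Nat.sInf_le (Set.mem_image_of_mem _ hχ)
  have h3 : ((Subgroup.centralizer ({y} : Set G)).index).factorization p
      = (charDegree (χ : G → ℂ)).factorization p := by
    rw [← hsInf]; exact le_antisymm h2 h1
  have h4 : ¬ MemLocalIdeal M ((χ : G → ℂ) y) := fun h =>
    hy.2.2 χ hχ ((centralChar_memLocalIdeal_iff_of_factorization_eq hM χ y h3).mpr h)
  intro h5
  apply h4
  have h6 := memLocalIdeal_sub hMp h5 (irr_mul_sub_of_commute hM χ x y hxy hx)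
  rwa [sub_sub_cancel] at h6

/-- For `x` in the centre of a Sylow `p`-subgroup of `C(y)`, `y` a defect class of `B`, the
central characters of `B` at `x y` are not in the local ideal. -/
theorem not_memLocalIdeal_centralChar_mul {p : ℕ} {M : Ideal AlgInt} (hM : IsPModular p M)
    [Fact p.Prime]
    (χ₀ : IrrCharacter G) (y : G) (hy : IsDefectClass M (blockOf M (χ₀ : G → ℂ)) y)
    (P : Sylow p (Subgroup.centralizer ({y} : Set G)))
    (x : Subgroup.centralizer ({y} : Set G))
    (hx : x ∈ (P : Subgroup (Subgroup.centralizer ({y} : Set G))))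
    (hxc : ∀ w ∈ (P : Subgroup (Subgroup.centralizer ({y} : Set G))), x * w = w * x)
    (χ : IrrCharacter G) (hχ : χ ∈ blockOf M (χ₀ : G → ℂ)) :
    ¬ MemLocalIdeal M (centralChar (χ : G → ℂ) ((x : G) * y)) := by
  have hp : p.Prime := hM.1
  have hMp := isPrime_of_isPModular hM
  have hsInf := sInf_factorization_eq_of_isDefectClass hM χ₀ y hy
  obtain ⟨k, hk⟩ := P.isPGroup' ⟨x, hx⟩
  have hxk : (x : G) ^ p ^ k = 1 := by
    have := congrArg (fun v : (P : Subgroup (Subgroup.centralizer ({y} : Set G))) =>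
      ((v : Subgroup.centralizer ({y} : Set G)) : G)) hk
    simpa using this
  have hxy : Commute (x : G) y := Subgroup.mem_centralizer_singleton_iff.mp x.2
  have hyreg := not_dvd_orderOf_of_isDefectClass hM χ₀ y hy
  have hle1 : Subgroup.centralizer ({(x : G) * y} : Set G) ≤ Subgroup.centralizer ({y} : Set G) :=
    centralizer_mul_le_of_coprime hp (x : G) y hxy hxk hyreg
  have hle2 : (P : Subgroup (Subgroup.centralizer ({y} : Set G))).map
      (Subgroup.centralizer ({y} : Set G)).subtype ≤ Subgroup.centralizer ({(x : G) * y} : Set G) := by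
    rintro _ ⟨w, hw, rfl⟩
    rw [Subgroup.mem_centralizer_singleton_iff]
    have h1 : Commute (w : G) (x : G) := by
      have := congrArg (fun v : Subgroup.centralizer ({y} : Set G) => (v : G)) (hxc w hw)
      exact this.symm
    have h2 : Commute (w : G) y := Subgroup.mem_centralizer_singleton_iff.mp w.2
    exact (h1.mul_right h2).eq
  -- equality of the `p`-parts of the centralizer orders
  have hcP : Nat.card ((P : Subgroup (Subgroup.centralizer ({y} : Set G))).map
      (Subgroup.centralizer ({y} : Set G)).subtype)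
      = p ^ (Nat.card (Subgroup.centralizer ({y} : Set G))).factorization p := by
    rw [Subgroup.card_map_of_injective (Subgroup.subtype_injective _), Sylow.card_eq_multiplicity]
  have hd1 := Subgroup.card_dvd_of_le hle2
  rw [hcP] at hd1
  have hd2 := Subgroup.card_dvd_of_le hle1
  have hf1 : (Nat.card (Subgroup.centralizer ({y} : Set G))).factorization p
      ≤ (Nat.card (Subgroup.centralizer ({(x : G) * y} : Set G))).factorization p :=
    (Nat.Prime.pow_dvd_iff_le_factorization hp Nat.card_pos.ne').mp hd1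
  have hf2 : (Nat.card (Subgroup.centralizer ({(x : G) * y} : Set G))).factorization p
      ≤ (Nat.card (Subgroup.centralizer ({y} : Set G))).factorization p :=
    (Nat.factorization_le_iff_dvd Nat.card_pos.ne' Nat.card_pos.ne').mpr hd2 p
  have hidx : ∀ g : G, ((Subgroup.centralizer ({g} : Set G)).index).factorization p
      = (Nat.card G).factorization p
        - (Nat.card (Subgroup.centralizer ({g} : Set G))).factorization p := by
    intro g
    have hcard := Subgroup.card_mul_index (Subgroup.centralizer ({g} : Set G))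
    rw [← hcard, Nat.factorization_mul Nat.card_pos.ne' Subgroup.index_ne_zero_of_finite]
    simp
  have hidx_eq : ((Subgroup.centralizer ({(x : G) * y} : Set G)).index).factorization p
      = ((Subgroup.centralizer ({y} : Set G)).index).factorization p := by
    rw [hidx, hidx, le_antisymm hf2 hf1]
  -- a height zero character
  have hne : ((fun ψ : IrrCharacter G => (charDegree (ψ : G → ℂ)).factorization p) ''
      blockOf M (χ₀ : G → ℂ)).Nonempty :=
    ⟨_, χ₀, Cfsg.Agent.H80.sameBlock_refl hMp _, rfl⟩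
  obtain ⟨ψ, hψ, hψe⟩ := Nat.sInf_mem hne
  have hψ0 : blockHeight p (blockOf M (χ₀ : G → ℂ)) (ψ : G → ℂ) = 0 := by
    unfold blockHeight
    rw [Nat.sub_eq_zero_iff_le]
    exact le_of_eq hψe
  have h1 := not_memLocalIdeal_irr_mul_of_height_zero hM χ₀ y hy (x : G) hxy hxk ψ hψ hψ0
  have h2 : ¬ MemLocalIdeal M (centralChar (ψ : G → ℂ) ((x : G) * y)) := by
    intro h
    apply h1
    refine (centralChar_memLocalIdeal_iff_of_factorization_eq hM ψ _ ?_).mp h
    rw [hidx_eq, ← hsInf]
    exact hψe.symm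
  intro h3
  apply h2
  have h4 := memLocalIdeal_sub hMp (hχ ((x : G) * y)) (hψ ((x : G) * y))
  have h5 := memLocalIdeal_add hMp h3 h4
  have e : centralChar (χ : G → ℂ) ((x : G) * y) +
      (centralChar (χ₀ : G → ℂ) ((x : G) * y) - centralChar (χ : G → ℂ) ((x : G) * y) -
        (centralChar (χ₀ : G → ℂ) ((x : G) * y) - centralChar (ψ : G → ℂ) ((x : G) * y)))
      = centralChar (ψ : G → ℂ) ((x : G) * y) := by ring
  rwa [e] at h5

omit [Fintype G] in
/-- `x y` is `p`-singular for a nontrivial `p`-element `x` commuting with the `p`-regular `y`. -/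
theorem dvd_orderOf_mul_of_pElement {p : ℕ} (hp : p.Prime) (x y : G) (hxy : Commute x y)
    {k : ℕ} (hx : x ^ p ^ k = 1) (hx1 : x ≠ 1) (hy : ¬ p ∣ orderOf y) : p ∣ orderOf (x * y) := by
  obtain ⟨j, hj, hjx⟩ := (Nat.dvd_prime_pow hp).mp (orderOf_dvd_of_pow_eq_one hx)
  have hj0 : j ≠ 0 := by
    rintro rfl
    rw [pow_zero, orderOf_eq_one_iff] at hjx
    exact hx1 hjx
  have hco : (orderOf x).Coprime (orderOf y) := by
    rw [hjx]
    exact Nat.Coprime.pow_left j ((Nat.Prime.coprime_iff_not_dvd hp).mpr hy)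
  rw [hxy.orderOf_mul_eq_mul_orderOf_of_coprime hco, hjx]
  exact Dvd.dvd.mul_right (dvd_pow_self p hj0) _

end Group

end Cfsg.Agent.H20
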