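import Mathlib
import Cfsg.Prelude.Def_Blocks
import Cfsg.Agent.H20.FirstMain
import Cfsg.Agent.H20.PElement
import Cfsg.Agent.H81.DefZero
import Cfsg.Agent.H82.Irr
import Cfsg.Agent.H84.BlockDom
import Cfsg.Agent.H84.BrauerIV

/-!
# helper20: the canonical character of the Brauer correspondent in `N_G(D)`

* `irr_eq_zero_of_quotient_singular` : an irreducible character `θ` with the normal `p`-subgroup
  `Q` in its kernel and of `p`-defect zero as a character of `H ⧸ Q` vanishes at every `h` whose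
  image in `H ⧸ Q` is `p`-singular.
* `isPPart_mem_of_quotient_regular` : if the image of `h` in `H ⧸ Q` is `p`-regular, the `p`-part of
  `h` lies in `Q`.
* `exists_normalizer_char` : for a block `B` of `G` with defect group `D`, there is
  `θ ∈ Irr(N_G(D))` with `D ≤ ker θ`, vanishing off the elements that are `p`-regular modulo `D`,
  whose induced central character is the central character of `B`.
* `exists_conj_ppart_center` : if `ω_B(K_g) ≠ 0` then some conjugate of `g` centralizes `D` and has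
  its `p`-part in `Z(D)`.
-/

set_option autoImplicit false
set_option linter.style.haveILetI false
set_option linter.unusedSectionVars false

namespace Cfsg.Agent.H20

open Cfsg Cfsg.Agent.H4

open scoped BigOperators

universe u

section Quotient

variable {H : Type u} [Group H] [Finite H] {p : ℕ} [Fact p.Prime] {M : Ideal AlgInt}

/-- An irreducible character with the normal subgroup `Q` in its kernel which has `p`-defect zero
as a character of `H ⧸ Q` vanishes at the elements whose image in `H ⧸ Q` is `p`-singular. -/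
theorem irr_eq_zero_of_quotient_singular (hM : IsPModular p M) (Q : Subgroup H) [Q.Normal]
    (θ : IrrCharacter H) (hker : ∀ x ∈ Q, (θ : H → ℂ) x = (θ : H → ℂ) 1)
    (hdeg : (Nat.card H).factorization p ≤
      (Nat.card Q).factorization p + (charDegree (θ : H → ℂ)).factorization p)
    (h : H) (hh : p ∣ orderOf (h : H ⧸ Q)) : (θ : H → ℂ) h = 0 := by
  have hp : p.Prime := Fact.out
  obtain ⟨θ', hθ'⟩ := Cfsg.Agent.H82.exists_deflate Q θ hker
  have hdeg' : charDegree (θ' : H ⧸ Q → ℂ) = charDegree (θ : H → ℂ) := by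
    rw [← hθ', Cfsg.Agent.H82.charDegree_inflate]
  have hcard : Nat.card H = Nat.card (H ⧸ Q) * Nat.card Q :=
    Subgroup.card_eq_card_quotient_mul_card_subgroup Q
  have hfac : (Nat.card H).factorization p =
      (Nat.card (H ⧸ Q)).factorization p + (Nat.card Q).factorization p := by
    rw [hcard, Nat.factorization_mul Nat.card_pos.ne' Nat.card_pos.ne']
    rfl
  have hle : (Nat.card (H ⧸ Q)).factorization p ≤ (charDegree (θ : H → ℂ)).factorization p := by
    omega
  have hpow : p ^ (Nat.card (H ⧸ Q)).factorization p ∣ charDegree (θ' : H ⧸ Q → ℂ) := by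
    rw [hdeg']
    exact (pow_dvd_pow p hle).trans (Nat.ordProj_dvd _ _)
  have hnd := Cfsg.Agent.H81.not_dvd_div_of_pow_dvd hp θ' hpow
  have hB := Cfsg.Agent.H81.blockOf_eq_singleton_of_defect_zero hM θ' hnd
  have h0 := Cfsg.Agent.H81.vanish_of_blockOf_eq_singleton hM θ' hB (h : H ⧸ Q) hh
  rw [← hθ', Cfsg.Agent.H82.inflate_apply]
  exact h0

/-- If the image of `h` in `H ⧸ Q` is `p`-regular, the `p`-part of `h` lies in `Q`. -/
theorem isPPart_mem_of_quotient_regular (Q : Subgroup H) [Q.Normal] (h z : H)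
    (hz : IsPPart p h z) (hreg : ¬ p ∣ orderOf (h : H ⧸ Q)) : z ∈ Q := by
  have hp : p.Prime := Fact.out
  obtain ⟨y, hzy, hcomm, ⟨k, hk⟩, hy⟩ := hz
  have h1 : orderOf (z : H ⧸ Q) ∣ p ^ k := by
    apply orderOf_dvd_of_pow_eq_one
    rw [← QuotientGroup.mk_pow, ← hk, pow_orderOf_eq_one, QuotientGroup.mk_one]
  obtain ⟨j, hj, hj'⟩ := (Nat.dvd_prime_pow hp).mp h1
  have h2 : orderOf (y : H ⧸ Q) ∣ orderOf y := by
    apply orderOf_dvd_of_pow_eq_one
    rw [← QuotientGroup.mk_pow, pow_orderOf_eq_one, QuotientGroup.mk_one]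
  have hcop : (orderOf (z : H ⧸ Q)).Coprime (orderOf (y : H ⧸ Q)) := by
    rw [hj']
    apply Nat.Coprime.pow_left
    rw [Nat.Prime.coprime_iff_not_dvd hp]
    exact fun hd => hy (hd.trans h2)
  have hcomm' : Commute (z : H ⧸ Q) (y : H ⧸ Q) := by
    show (z : H ⧸ Q) * (y : H ⧸ Q) = (y : H ⧸ Q) * (z : H ⧸ Q)
    rw [← QuotientGroup.mk_mul, ← QuotientGroup.mk_mul, hcomm.eq]
  have h3 := hcomm'.orderOf_mul_eq_mul_orderOf_of_coprime hcop
  rw [← QuotientGroup.mk_mul, hzy] at h3
  rcases Nat.eq_zero_or_pos j with hj0 | hjpos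
  · rw [hj0, pow_zero, orderOf_eq_one_iff] at hj'
    exact (QuotientGroup.eq_one_iff z).mp hj'
  · exfalso
    apply hreg
    rw [h3, hj']
    exact Dvd.dvd.mul_right (dvd_pow_self p hjpos.ne') _

end Quotient

section Main

variable {G : Type u} [Group G] [Fintype G] {p : ℕ} [Fact p.Prime] {M : Ideal AlgInt}

theorem isPGroup_of_isDefectGroup {B : Set (IrrCharacter G)} {D : Subgroup G}
    (hD : IsDefectGroup p M B D) : IsPGroup p D := by
  obtain ⟨y, hy, S, rfl⟩ := hD
  exact S.isPGroup'.map _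

/-- For a block `B` of `G` with defect group `D` there is an irreducible character `θ` of
`N = N_G(D)` whose induced central character is that of `B`, with `D` in its kernel, vanishing at
the elements of `N` that are `p`-singular modulo `D`. -/
theorem exists_normalizer_char (hM : IsPModular p M) (χ₀ : IrrCharacter G) (D : Subgroup G)
    (hD : IsDefectGroup p M (blockOf M (χ₀ : G → ℂ)) D) :
    ∃ θ : IrrCharacter (Subgroup.normalizer (D : Set G)),
      (∀ g : G, MemLocalIdeal M
        (inducedCentralChar (Subgroup.normalizer (D : Set G))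
          (θ : Subgroup.normalizer (D : Set G) → ℂ) g - centralChar (χ₀ : G → ℂ) g)) ∧
      (∀ x ∈ D.subgroupOf (Subgroup.normalizer (D : Set G)),
        (θ : Subgroup.normalizer (D : Set G) → ℂ) x =
          (θ : Subgroup.normalizer (D : Set G) → ℂ) 1) ∧
      (∀ h : Subgroup.normalizer (D : Set G),
        p ∣ orderOf (h : Subgroup.normalizer (D : Set G) ⧸
          D.subgroupOf (Subgroup.normalizer (D : Set G))) →
        (θ : Subgroup.normalizer (D : Set G) → ℂ) h = 0) := by
  classical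
  letI : Fintype (Subgroup.normalizer (D : Set G)) := Fintype.ofFinite _
  have hp : p.Prime := Fact.out
  have hMp := isPrime_of_isPModular hM
  have hDp := isPGroup_of_isDefectGroup hD
  obtain ⟨ξ₀, hdef, hind⟩ := first_main_exists hM D hDp χ₀ hD
  obtain ⟨θ, hθb, hθker⟩ := Cfsg.Agent.H84.exists_mem_block_ker hM
    (D.subgroupOf (Subgroup.normalizer (D : Set G))) hDp.comap_subtype ξ₀
  refine ⟨θ, fun g => hind.2.2 θ hθb χ₀ (Cfsg.Agent.H80.mem_blockOf_self hMp χ₀) g, hθker, ?_⟩
  intro h hh
  apply irr_eq_zero_of_quotient_singular hM (D.subgroupOf (Subgroup.normalizer (D : Set G)))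
    θ hθker _ h hh
  have hcard := card_defectGroup hM ξ₀ (D.subgroupOf (Subgroup.normalizer (D : Set G))) hdef
  rw [hcard, hp.factorization_pow, Finsupp.single_eq_same]
  unfold blockDefect
  have hle : sInf ((fun χ : IrrCharacter (Subgroup.normalizer (D : Set G)) =>
      (charDegree (χ : Subgroup.normalizer (D : Set G) → ℂ)).factorization p) ''
        blockOf M (ξ₀ : Subgroup.normalizer (D : Set G) → ℂ)) ≤
      (charDegree (θ : Subgroup.normalizer (D : Set G) → ℂ)).factorization p :=
    Nat.sInf_le ⟨θ, hθb, rfl⟩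
  omega

/-- If the central character of the block `B` with defect group `P` does not vanish modulo the
local ideal at `g`, then some conjugate of `g` centralizes `P` and has its `p`-part in `Z(P)`. -/
theorem exists_conj_ppart_center (hM : IsPModular p M) (χ₀ : IrrCharacter G) (P : Subgroup G)
    (hP : IsDefectGroup p M (blockOf M (χ₀ : G → ℂ)) P) (g : G)
    (hg : ¬ MemLocalIdeal M (centralChar (χ₀ : G → ℂ) g)) :
    ∃ x : G, IsConj g x ∧ x ∈ Subgroup.centralizer (P : Set G) ∧
      ∀ z : G, IsPPart p x z → z ∈ P ∧ ∀ w ∈ P, z * w = w * z := by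
  classical
  letI : Fintype (Subgroup.normalizer (P : Set G)) := Fintype.ofFinite _
  have hp : p.Prime := Fact.out
  have hMp := isPrime_of_isPModular hM
  have hPp := isPGroup_of_isDefectGroup hP
  have hPN : P ≤ Subgroup.normalizer (P : Set G) := Subgroup.le_normalizer
  obtain ⟨θ, hθ1, hθ2, hθ3⟩ := exists_normalizer_char hM χ₀ P hP
  have h1 : ¬ MemLocalIdeal M (brauerCentralChar P (Subgroup.normalizer (P : Set G))
      (θ : Subgroup.normalizer (P : Set G) → ℂ) g) := by
    intro hc
    have a1 := inducedCentralChar_sub_brauerCentralChar_mem hM P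
      (Subgroup.normalizer (P : Set G)) hPp hPN le_rfl θ g
    have a2 := hθ1 g
    have a3 := memLocalIdeal_sub hMp (memLocalIdeal_add hMp a1 hc) a2
    apply hg
    convert a3 using 1
    ring
  have h2 : brauerCentralChar P (Subgroup.normalizer (P : Set G))
      (θ : Subgroup.normalizer (P : Set G) → ℂ) g ≠ 0 := by
    intro h0
    rw [h0] at h1
    exact h1 (memLocalIdeal_zero hMp)
  unfold brauerCentralChar at h2
  obtain ⟨h, hmem, hne⟩ := exists_ne_zero_of_finsum_mem_ne_zero h2
  obtain ⟨hconj, hcent⟩ := hmem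
  have hθh : (θ : Subgroup.normalizer (P : Set G) → ℂ) h ≠ 0 := by
    intro h0
    apply hne
    rw [h0, zero_div]
  have hreg : ¬ p ∣ orderOf (h : Subgroup.normalizer (P : Set G) ⧸
      P.subgroupOf (Subgroup.normalizer (P : Set G))) := fun hd => hθh (hθ3 h hd)
  refine ⟨(h : G), hconj, hcent, ?_⟩
  intro z hz
  obtain ⟨m, hm⟩ := Cfsg.Agent.H84.exists_pow_eq_of_isPPart hp hz
  obtain ⟨y, hzy, hcomm, ⟨k, hk⟩, hy⟩ := hz
  -- transport the `p`-part to the normalizer
  have hy' : y = ((h ^ m)⁻¹ * h : Subgroup.normalizer (P : Set G)) := by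
    have : y = z⁻¹ * (h : G) := by rw [← hzy]; group
    rw [this, ← hm]
    rfl
  have hzN : IsPPart p h (h ^ m) := by
    refine ⟨(h ^ m)⁻¹ * h, by group, ?_, ⟨k, ?_⟩, ?_⟩
    · show h ^ m * ((h ^ m)⁻¹ * h) = (h ^ m)⁻¹ * h * h ^ m
      apply Subtype.ext
      have := hcomm.eq
      rw [hy', ← hm] at this
      exact this
    · rw [← hk, ← hm]
      exact (Subgroup.orderOf_coe (h ^ m)).symm
    · rw [← Subgroup.orderOf_coe, ← hy']
      exact hy
  have hmem' := isPPart_mem_of_quotient_regular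
    (P.subgroupOf (Subgroup.normalizer (P : Set G))) h (h ^ m) hzN hreg
  rw [Subgroup.mem_subgroupOf] at hmem'
  have hzP : z ∈ P := by
    rw [← hm]
    exact hmem'
  refine ⟨hzP, fun w hw => ?_⟩
  have hcw : w * (h : G) = (h : G) * w := (Subgroup.mem_centralizer_iff.mp hcent) w hw
  have hcw' : Commute w (h : G) := hcw
  rw [← hm]
  exact ((hcw'.pow_right m).eq).symm

/-- A `p`-part (in `G`) of an element of a subgroup `H` is a `p`-part in `H`. -/
theorem isPPart_subgroup (H : Subgroup G) (h : H) (z : G) (hz : IsPPart p (h : G) z) :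
    ∃ z' : H, (z' : G) = z ∧ IsPPart p h z' := by
  have hp : p.Prime := Fact.out
  obtain ⟨m, hm⟩ := Cfsg.Agent.H84.exists_pow_eq_of_isPPart hp hz
  obtain ⟨y, hzy, hcomm, ⟨k, hk⟩, hy⟩ := hz
  have hy' : y = ((h ^ m)⁻¹ * h : H) := by
    have : y = z⁻¹ * (h : G) := by rw [← hzy]; group
    rw [this, ← hm]
    rfl
  refine ⟨h ^ m, hm, (h ^ m)⁻¹ * h, by group, ?_, ⟨k, ?_⟩, ?_⟩
  · show h ^ m * ((h ^ m)⁻¹ * h) = (h ^ m)⁻¹ * h * h ^ m
    apply Subtype.ext
    have := hcomm.eq
    rw [hy', ← hm] at this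
    exact this
  · rw [← hk, ← hm]
    exact (Subgroup.orderOf_coe (h ^ m)).symm
  · rw [← Subgroup.orderOf_coe, ← hy']
    exact hy

/-- If the induced central character of `ξ ∈ Irr(H)` at `g` is not in the local ideal, then some
element of `H` conjugate to `g` has central character (of `ξ`) outside the local ideal. -/
theorem exists_of_inducedCentralChar_not_mem (hM : M.IsPrime) (H : Subgroup G)
    (ξ : IrrCharacter H) (g : G)
    (h : ¬ MemLocalIdeal M (inducedCentralChar H (ξ : H → ℂ) g)) :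
    ∃ k : H, IsConj g (k : G) ∧ ¬ MemLocalIdeal M (centralChar (ξ : H → ℂ) k) := by
  classical
  letI : Fintype H := Fintype.ofFinite H
  by_contra hno
  push Not at hno
  apply h
  have e : inducedCentralChar H (ξ : H → ℂ) g =
      ∑ k : H, (if IsConj g (k : G) then (ξ : H → ℂ) k / (ξ : H → ℂ) 1 else 0) := by
    unfold inducedCentralChar
    rw [finsum_mem_eq_finite_toFinset_sum _ (Set.toFinite _), ← Finset.sum_filter]
    apply Finset.sum_congr
    · ext k; simp
    · intro k _; rfl
  rw [e]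
  apply sum_mem_of_conj_closed (localIdeal M hM)
    (fun k : H => if IsConj g (k : G) then (ξ : H → ℂ) k / (ξ : H → ℂ) 1 else 0)
  · intro k x
    have hiff : IsConj g ((x * k * x⁻¹ : H) : G) ↔ IsConj g (k : G) := by
      have hc : IsConj (k : G) ((x * k * x⁻¹ : H) : G) :=
        isConj_iff.mpr ⟨(x : G), rfl⟩
      exact ⟨fun h1 => h1.trans hc.symm, fun h1 => h1.trans hc⟩
    show (if IsConj g ((x * k * x⁻¹ : H) : G) then
        (ξ : H → ℂ) (x * k * x⁻¹) / (ξ : H → ℂ) 1 else 0) = _
    rw [irr_isClassFunction ξ]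
    by_cases hk : IsConj g (k : G)
    · rw [if_pos hk, if_pos (hiff.mpr hk)]
    · rw [if_neg hk, if_neg (fun h1 => hk (hiff.mp h1))]
  · intro k
    rw [mem_localIdeal]
    by_cases hk : IsConj g (k : G)
    · rw [if_pos hk]
      have := hno k hk
      unfold centralChar at this
      convert this using 1
      ring
    · rw [if_neg hk, mul_zero]
      exact memLocalIdeal_zero hM
  · intro k _ x; exact Finset.mem_univ _

/-- If the block of `ξ₀ ∈ Irr(H)` with defect group `D` induces the block of `χ₀` with defect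
group `P`, then every element of `Z(P)` is `G`-conjugate to an element of `Z(D)`. -/
theorem exists_conj_mem_center_defectGroup (hM : IsPModular p M) (H : Subgroup G)
    (ξ₀ : IrrCharacter H) (χ₀ : IrrCharacter G)
    (hind : IsInducedBlock M H (blockOf M (ξ₀ : H → ℂ)) (blockOf M (χ₀ : G → ℂ)))
    (D : Subgroup H) (hD : IsDefectGroup p M (blockOf M (ξ₀ : H → ℂ)) D)
    (P : Subgroup G) (hP : IsDefectGroup p M (blockOf M (χ₀ : G → ℂ)) P)
    (x : G) (hx : x ∈ P) (hxc : ∀ w ∈ P, x * w = w * x) :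
    ∃ g : G, g * x * g⁻¹ ∈ D.map H.subtype ∧
      ∀ w ∈ D.map H.subtype, (g * x * g⁻¹) * w = w * (g * x * g⁻¹) := by
  classical
  letI : Fintype H := Fintype.ofFinite H
  have hp : p.Prime := Fact.out
  have hMp := isPrime_of_isPModular hM
  have hPp := isPGroup_of_isDefectGroup hP
  obtain ⟨y, hy, S, hS⟩ := hP
  have hx' : x ∈ (S : Subgroup (Subgroup.centralizer ({y} : Set G))).map
      (Subgroup.centralizer ({y} : Set G)).subtype := by rw [← hS]; exact hx
  obtain ⟨x', hx'S, hx'x⟩ := hx'
  have hx'x' : (x' : G) = x := hx'x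
  have hxc' : ∀ w ∈ (S : Subgroup (Subgroup.centralizer ({y} : Set G))), x' * w = w * x' := by
    intro w hw
    apply Subtype.ext
    have hwP : (w : G) ∈ P := by rw [hS]; exact ⟨w, hw, rfl⟩
    have := hxc (w : G) hwP
    rw [← hx'x'] at this
    exact this
  have h1 := not_memLocalIdeal_centralChar_mul hM χ₀ y hy S x' hx'S hxc' χ₀
    (Cfsg.Agent.H80.mem_blockOf_self hMp χ₀)
  rw [hx'x'] at h1
  have h2 : ¬ MemLocalIdeal M (inducedCentralChar H (ξ₀ : H → ℂ) (x * y)) := by
    intro hc
    have a1 := hind.2.2 ξ₀ (Cfsg.Agent.H80.mem_blockOf_self hMp ξ₀) χ₀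
      (Cfsg.Agent.H80.mem_blockOf_self hMp χ₀) (x * y)
    have a2 := memLocalIdeal_sub hMp hc a1
    rw [sub_sub_cancel] at a2
    exact h1 a2
  obtain ⟨k, hk, hkc⟩ := exists_of_inducedCentralChar_not_mem hMp H ξ₀ (x * y) h2
  obtain ⟨h', hkh', -, hpart⟩ := exists_conj_ppart_center hM ξ₀ D hD k hkc
  -- `h'` is `G`-conjugate to `x * y`
  have hconj : IsConj (x * y) (h' : G) := by
    obtain ⟨c, hc⟩ := isConj_iff.mp hkh'
    have : IsConj (k : G) (h' : G) := isConj_iff.mpr ⟨(c : G), by rw [← hc]; rfl⟩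
    exact hk.trans this
  obtain ⟨t, ht⟩ := isConj_iff.mp hconj
  -- `x` commutes with `y`, is a `p`-element, `y` is `p`-regular
  have hxy : Commute x y := by
    have := x'.2
    rw [Subgroup.mem_centralizer_singleton_iff] at this
    rw [← hx'x']
    exact this
  obtain ⟨kx, hkx⟩ := (IsPGroup.iff_orderOf.mp hPp) ⟨x, hx⟩
  have hkx' : orderOf x = p ^ kx := by
    rw [← hkx]; exact Subgroup.orderOf_coe (⟨x, hx⟩ : P)
  have hyreg := not_dvd_orderOf_of_isDefectClass hM χ₀ y hy
  have hz : IsPPart p (h' : G) (t * x * t⁻¹) := by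
    refine ⟨t * y * t⁻¹, ?_, ?_, ⟨kx, ?_⟩, ?_⟩
    · rw [← ht]; group
    · show t * x * t⁻¹ * (t * y * t⁻¹) = t * y * t⁻¹ * (t * x * t⁻¹)
      have := hxy.eq
      calc t * x * t⁻¹ * (t * y * t⁻¹) = t * (x * y) * t⁻¹ := by group
        _ = t * (y * x) * t⁻¹ := by rw [this]
        _ = t * y * t⁻¹ * (t * x * t⁻¹) := by group
    · rw [← hkx']
      exact orderOf_injective (MulAut.conj t).toMonoidHom (MulAut.conj t).injective x
    · have : orderOf (t * y * t⁻¹) = orderOf y :=
        orderOf_injective (MulAut.conj t).toMonoidHom (MulAut.conj t).injective y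
      rw [this]
      exact hyreg
  obtain ⟨z', hz'z, hz'⟩ := isPPart_subgroup H h' (t * x * t⁻¹) hz
  obtain ⟨hz'D, hz'c⟩ := hpart z' hz'
  refine ⟨t, ?_, ?_⟩
  · rw [← hz'z]
    exact ⟨z', hz'D, rfl⟩
  · rintro _ ⟨w, hw, rfl⟩
    rw [← hz'z]
    have := hz'c w hw
    exact congrArg Subtype.val this

end Main

end Cfsg.Agent.H20
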