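import Mathlib
import Cfsg.Prelude.Def_Blocks
import Cfsg.Agent.H20.LocalChar
import Cfsg.Agent.H20.IndPart
import Cfsg.Agent.H82.Normal
import Cfsg.Agent.H82.Irr
import Cfsg.Agent.H80.Brauer
import Cfsg.Agent.H20.FirstMain
import Cfsg.Agent.H20.DefectOrder
import Cfsg.Agent.H20.PElement
import Cfsg.Agent.H20.SecondMain
import Cfsg.Agent.H81.IndBlock
import Cfsg.Agent.H81.Proj

/-!
# helper20: height zero characters and the `p`-regular inner product

* `regElt p χ` : the central element `∑_{g p-regular} χ(g⁻¹) g`; `omega ψ (regElt p χ)` is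
  `|G| [χ, ψ]° / ψ(1)`.
* `blockCoeff_eq_sum_ker` : for a normal `p`-subgroup `Q` and a `p`-regular `c ∈ C(Q)`, the
  coefficient of a block idempotent at `c` only involves the characters of the block with `Q` in
  their kernel.
* `not_memLocalIdeal_omega_regElt` : for `χ` of height zero, `|G| [χ, χ]° / χ(1)` is a unit
  modulo the local ideal.
-/

set_option autoImplicit false
set_option linter.style.haveILetI false
set_option linter.unusedSectionVars false

namespace Cfsg.Agent.H20

open Cfsg Cfsg.Agent.H4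

open scoped BigOperators ComplexConjugate

universe u

section Local

variable {p : ℕ} {M : Ideal AlgInt}

/-- A quotient of natural numbers `a / n` with `ν_p(n) ≤ ν_p(a)` is a local integer. -/
theorem memLocalRing_natCast_div (hM : IsPModular p M) {a n : ℕ} (hn : n ≠ 0)
    (h : n.factorization p ≤ a.factorization p) : MemLocalRing M ((a : ℂ) / (n : ℂ)) := by
  have hp : p.Prime := hM.1
  have hMp := isPrime_of_isPModular hM
  have hpC : (p : ℂ) ≠ 0 := by exact_mod_cast hp.ne_zero
  have en := Nat.ordProj_mul_ordCompl_eq_self n p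
  have hn' := Nat.not_dvd_ordCompl hp hn
  have hdvd : p ^ n.factorization p ∣ a := (pow_dvd_pow p h).trans (Nat.ordProj_dvd a p)
  obtain ⟨a', ha'⟩ := hdvd
  have e : (a : ℂ) / (n : ℂ) = (a' : ℂ) * ((n / p ^ n.factorization p : ℕ) : ℂ)⁻¹ := by
    have hn'C : ((n / p ^ n.factorization p : ℕ) : ℂ) ≠ 0 := by
      intro h0
      have : (n / p ^ n.factorization p : ℕ) = 0 := by exact_mod_cast h0
      rw [this] at hn'
      exact hn' (dvd_zero p)
    have hnC : (n : ℂ) = (p : ℂ) ^ n.factorization p * ((n / p ^ n.factorization p : ℕ) : ℂ) := by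
      conv_lhs => rw [← en]
      push_cast
      ring
    rw [hnC, ha']
    push_cast
    field_simp
  rw [e]
  exact memLocalRing_mul hMp (memLocalRing_natCast hMp a') (memLocalRing_inv_natCast hM hn')

end Local

section RegElt

variable {G : Type u} [Group G] [Fintype G] {p : ℕ} {M : Ideal AlgInt}

open scoped Classical in
/-- The central element `∑_{g p-regular} χ(g⁻¹) g`. -/
noncomputable def regElt (p : ℕ) (χ : G → ℂ) : MonoidAlgebra ℂ G :=
  ∑ g : G, MonoidAlgebra.single g (if p ∣ orderOf g then 0 else χ g⁻¹)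

open scoped Classical in
theorem coeff_regElt (p : ℕ) (χ : G → ℂ) (g : G) :
    (regElt p χ).coeff g = if p ∣ orderOf g then 0 else χ g⁻¹ := by
  unfold regElt
  rw [MonoidAlgebra.coeff_sum, Finsupp.finsetSum_apply]
  simp only [MonoidAlgebra.coeff_single, Finsupp.single_apply]
  rw [Finset.sum_ite_eq' Finset.univ g]
  simp

theorem regElt_mem (hM : M.IsPrime) (p : ℕ) (χ : IrrCharacter G) :
    regElt p (χ : G → ℂ) ∈ cfSubring G (localRing M hM) := by
  classical
  refine ⟨fun g h => ?_, fun g => ?_⟩
  · rw [coeff_regElt, coeff_regElt]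
    have e1 : orderOf (h * g * h⁻¹) = orderOf g :=
      orderOf_injective (MulAut.conj h).toMonoidHom (MulAut.conj h).injective g
    have e2 : (h * g * h⁻¹)⁻¹ = h * g⁻¹ * h⁻¹ := by group
    rw [e1, e2, irr_isClassFunction χ]
  · rw [coeff_regElt]
    split_ifs
    · exact (localRing M hM).zero_mem
    · exact memLocalRing_algInt hM ⟨_, Cfsg.Agent.H81.irr_isIntegral χ g⁻¹⟩

end RegElt

section Dom

variable {G : Type u} [Group G] [Fintype G] {p : ℕ} {M : Ideal AlgInt}

theorem card_filter_mem_subgroup (Q : Subgroup G) [DecidablePred (· ∈ Q)] :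
    (Finset.univ.filter (· ∈ Q)).card = Nat.card Q := by
  rw [Nat.card_eq_fintype_card, Fintype.card_subtype]

/-- The sum of an irreducible character over a coset of a normal subgroup. -/
theorem irr_sum_normal_translate (ψ : IrrCharacter G) (Q : Subgroup G) [Q.Normal]
    [DecidablePred (· ∈ Q)] (c : G) :
    ∑ u ∈ Finset.univ.filter (· ∈ Q), (ψ : G → ℂ) (c * u) =
      if (∀ x ∈ Q, (ψ : G → ℂ) x = (ψ : G → ℂ) 1) then (Nat.card Q : ℂ) * (ψ : G → ℂ) c
      else 0 := by
  classical
  split_ifs with h
  · have h1 : ∀ u ∈ Finset.univ.filter (· ∈ Q), (ψ : G → ℂ) (c * u) = (ψ : G → ℂ) c := by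
      intro u hu
      rw [Finset.mem_filter] at hu
      exact (Cfsg.Agent.H82.irr_mul_of_mem_irrKer ψ
        ((Cfsg.Agent.H82.mem_irrKer ψ u).mpr (h u hu.2)) c).2
    rw [Finset.sum_congr rfl h1, Finset.sum_const, card_filter_mem_subgroup, nsmul_eq_mul]
  · push Not at h
    obtain ⟨x, hx, hne⟩ := h
    obtain ⟨n, ρ, hirr, hchar, -, -, -⟩ := Cfsg.Agent.H82.irr_rep ψ
    haveI := hirr
    have hρx : ρ x ≠ 1 := by
      intro h1
      apply hne
      have := (Cfsg.Agent.H82.char_eq_one_iff ρ x).mpr h1
      rw [hchar] at this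
      exact this
    have hsum := Cfsg.Agent.H82.sum_rep_normal_eq_zero ρ Q ⟨x, hx, hρx⟩
    have h2 : ∀ u : G, (ψ : G → ℂ) (c * u) = LinearMap.trace ℂ _ (ρ c * ρ u) := by
      intro u
      have : (ψ : G → ℂ) (c * u) = ρ.character (c * u) := by rw [hchar]
      rw [this, ← map_mul]
      rfl
    simp_rw [h2]
    rw [← map_sum, ← Finset.mul_sum, hsum, mul_zero, map_zero]

open scoped Classical in
/-- For a normal `p`-subgroup `Q` and a `p`-regular `c ∈ C(Q)`, the coefficient at `c` of a block
idempotent only involves the characters of the block having `Q` in their kernel. -/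
theorem blockCoeff_eq_sum_ker (hM : IsPModular p M) (Q : Subgroup G) [Q.Normal]
    (hQ : IsPGroup p Q) (ξ₀ : IrrCharacter G) (c : G) (hc : ¬ p ∣ orderOf c)
    (hcQ : c ∈ Subgroup.centralizer (Q : Set G)) :
    blockCoeff (blockOf M (ξ₀ : G → ℂ)) c = (Nat.card G : ℂ)⁻¹ *
      @Finset.sum _ _ _ (@Finset.univ _ (fintypeIrr G))
        (fun ψ : IrrCharacter G =>
          if ψ ∈ blockOf M (ξ₀ : G → ℂ) ∧ (∀ x ∈ Q, (ψ : G → ℂ) x = (ψ : G → ℂ) 1)
          then (Nat.card Q : ℂ) * ((ψ : G → ℂ) 1 * (ψ : G → ℂ) c⁻¹) else 0) := by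
  classical
  letI := fintypeIrr G
  have hp : p.Prime := hM.1
  have h1 : ∑ u ∈ Finset.univ.filter (· ∈ Q), blockCoeff (blockOf M (ξ₀ : G → ℂ)) (c * u)
      = blockCoeff (blockOf M (ξ₀ : G → ℂ)) c := by
    rw [Finset.sum_eq_single (1 : G)]
    · rw [mul_one]
    · intro u hu hu1
      rw [Finset.mem_filter] at hu
      apply blockCoeff_eq_zero_of_singular hM
      have hcomm : Commute u c := by
        rw [Subgroup.mem_centralizer_iff] at hcQ
        exact hcQ u hu.2
      rw [← hcomm.eq]
      obtain ⟨k, hk⟩ := hQ ⟨u, hu.2⟩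
      have hpow : u ^ p ^ k = 1 := by
        have := congrArg Subtype.val hk
        simpa using this
      exact dvd_orderOf_mul_of_pElement hp u c hcomm hpow hu1 hc
    · intro h
      exact absurd (Finset.mem_filter.mpr ⟨Finset.mem_univ _, Q.one_mem⟩) h
  rw [← h1]
  simp_rw [blockCoeff_eq]
  rw [← Finset.mul_sum, Finset.sum_comm]
  congr 1
  apply Finset.sum_congr rfl
  intro ψ _
  by_cases hψ : ψ ∈ blockOf M (ξ₀ : G → ℂ)
  · simp only [hψ, if_true, true_and]
    rw [← Finset.mul_sum]
    have h3 : ∑ u ∈ Finset.univ.filter (· ∈ Q), conj ((ψ : G → ℂ) (c * u))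
        = conj (∑ u ∈ Finset.univ.filter (· ∈ Q), (ψ : G → ℂ) (c * u)) := by
      rw [map_sum]
    rw [h3, irr_sum_normal_translate ψ Q c]
    split_ifs with hk
    · rw [map_mul, Complex.conj_natCast, irr_conj]
      ring
    · rw [map_zero, mul_zero]
  · simp [hψ]

end Dom

section Idem

variable {G : Type u} [Group G] [Fintype G] {p : ℕ} {M : Ideal AlgInt}

/-- A central element that is idempotent modulo the local ideal and killed modulo the local ideal by
every central character has all its coefficients in the local ideal. -/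
theorem coeffIdeal_of_idem (hMp : M.IsPrime) {u : MonoidAlgebra ℂ G}
    (hu : u ∈ cfSubring G (localRing M hMp)) (h2 : CoeffIdeal M (u * u - u))
    (hω : ∀ θ : IrrCharacter G, MemLocalIdeal M (omega (θ : G → ℂ) u)) : CoeffIdeal M u := by
  have hpow : ∀ n : ℕ, CoeffIdeal M (u ^ (n + 1) - u) := by
    intro n
    induction n with
    | zero =>
      rw [zero_add, pow_one, sub_self]
      exact coeffIdeal_zero hMp
    | succ k ih =>
      have e1 : u ^ (k + 1 + 1) - u = u * (u ^ (k + 1) - u) + (u * u - u) := by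
        rw [pow_succ' u (k + 1), mul_sub]
        abel
      rw [e1]
      exact (CoeffIdeal.mul_left hMp hu ih).add hMp h2
  obtain ⟨n, hn0, hn⟩ := Cfsg.Agent.H80.exists_pow_coeff_memLocalIdeal hMp hu hω
  obtain ⟨k, rfl⟩ : ∃ k, n = k + 1 := ⟨n - 1, by omega⟩
  have e : u = u ^ (k + 1) - (u ^ (k + 1) - u) := by abel
  rw [e]
  exact CoeffIdeal.sub hMp hn (hpow k)

end Idem

section BrauerIdem

variable {G : Type u} [Group G] [Fintype G] {p : ℕ} [Fact p.Prime] {M : Ideal AlgInt}

/-- The Brauer map at the defect group `D` sends the idempotent of a block with defect group `D` to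
the idempotent of its Brauer correspondent, modulo the local ideal. -/
theorem coeffIdeal_brMap_blockElt_sub (hM : IsPModular p M) (D : Subgroup G) (hD : IsPGroup p D)
    [Fintype (Subgroup.normalizer (D : Set G))]
    (χ₀ : IrrCharacter G)
    (ξ₀ : IrrCharacter (Subgroup.normalizer (D : Set G)))
    (hdefN : IsDefectGroup p M (blockOf M (ξ₀ : Subgroup.normalizer (D : Set G) → ℂ))
      (D.subgroupOf (Subgroup.normalizer (D : Set G))))
    (hind : IsInducedBlock M (Subgroup.normalizer (D : Set G))
      (blockOf M (ξ₀ : Subgroup.normalizer (D : Set G) → ℂ)) (blockOf M (χ₀ : G → ℂ))) :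
    CoeffIdeal M (brMap D (Subgroup.normalizer (D : Set G)) (blockElt (blockOf M (χ₀ : G → ℂ)))
      - blockElt (blockOf M (ξ₀ : Subgroup.normalizer (D : Set G) → ℂ))) := by
  classical
  have hMp := isPrime_of_isPModular hM
  have hDN : D ≤ Subgroup.normalizer (D : Set G) := Subgroup.le_normalizer
  have hCN : Subgroup.centralizer (D : Set G) ≤ Subgroup.normalizer (D : Set G) :=
    Subgroup.centralizer_le_normalizer _
  have heBR : blockElt (blockOf M (χ₀ : G → ℂ)) ∈ cfSubring G (localRing M hMp) :=
    blockElt_mem hMp χ₀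
  set β := brMap D (Subgroup.normalizer (D : Set G)) (blockElt (blockOf M (χ₀ : G → ℂ))) with hβ
  set e := blockElt (blockOf M (ξ₀ : Subgroup.normalizer (D : Set G) → ℂ)) with he
  have hβR : β ∈ cfSubring (Subgroup.normalizer (D : Set G)) (localRing M hMp) :=
    brMap_mem le_rfl heBR
  have heR : e ∈ cfSubring (Subgroup.normalizer (D : Set G)) (localRing M hMp) :=
    blockElt_mem hMp ξ₀
  have hβ2 : CoeffIdeal M (β * β - β) := by
    intro c
    have h1 := coeff_brMap_mul_sub_mem hM hD hCN heBR heBR c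
    rw [Cfsg.Agent.H81.blockElt_mul_self] at h1
    have h2 := memLocalIdeal_neg h1
    rw [← hβ] at h2
    convert h2 using 1
    rw [MonoidAlgebra.coeff_sub, MonoidAlgebra.coeff_sub]
    simp
  have hχ₀self := Cfsg.Agent.H80.mem_blockOf_self hMp χ₀
  have hin : ∀ ξ : IrrCharacter (Subgroup.normalizer (D : Set G)),
      ξ ∈ blockOf M (ξ₀ : Subgroup.normalizer (D : Set G) → ℂ) →
      MemLocalIdeal M (omega (ξ : Subgroup.normalizer (D : Set G) → ℂ) β - 1) := by
    intro ξ hξ
    obtain ⟨χ₁, hχ₁⟩ := (isModHom_brauer hM hD hCN le_rfl ξ).exists_irr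
    have hχ₁B : χ₁ ∈ blockOf M (χ₀ : G → ℂ) := by
      intro g
      have h1 := hχ₁ (classSum g) (classSum_mem _ g)
      rw [omega_brMap_classSum, omega_classSum _ (irr_isClassFunction χ₁)] at h1
      have h2 := inducedCentralChar_sub_brauerCentralChar_mem hM D
          (Subgroup.normalizer (D : Set G)) hD hDN le_rfl ξ g
      have h3 := hind.2.2 ξ hξ χ₀ hχ₀self g
      have h4 := memLocalIdeal_sub hMp (memLocalIdeal_add hMp h2 h1) h3
      convert h4 using 1
      ring
    have h5 := hχ₁ _ heBR
    rwa [omega_blockElt, if_pos hχ₁B] at h5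
  have hout : ∀ ξ : IrrCharacter (Subgroup.normalizer (D : Set G)),
      ξ ∉ blockOf M (ξ₀ : Subgroup.normalizer (D : Set G) → ℂ) →
      MemLocalIdeal M (omega (ξ : Subgroup.normalizer (D : Set G) → ℂ) β) := by
    intro ξ hξ
    obtain ⟨χ₁, hχ₁⟩ := (isModHom_brauer hM hD hCN le_rfl ξ).exists_irr
    have hχ₁B : χ₁ ∉ blockOf M (χ₀ : G → ℂ) := by
      intro hmem
      apply hξ
      have hblk : blockOf M (χ₁ : G → ℂ) = blockOf M (χ₀ : G → ℂ) :=
        Cfsg.Agent.H80.blockOf_eq_of_mem hMp hmem
      have hind' : IsInducedBlock M (Subgroup.normalizer (D : Set G))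
          (blockOf M (ξ : Subgroup.normalizer (D : Set G) → ℂ)) (blockOf M (χ₀ : G → ℂ)) := by
        rw [← hblk]
        apply isInducedBlock_of_brauer hM D (Subgroup.normalizer (D : Set G)) hD hDN le_rfl ξ χ₁
        intro g
        have h1 := hχ₁ (classSum g) (classSum_mem _ g)
        rwa [omega_brMap_classSum, omega_classSum _ (irr_isClassFunction χ₁)] at h1
      have hu := first_main_unique hM D hD χ₀ ξ₀ ξ hdefN hind hind'
      rw [← hu]
      exact Cfsg.Agent.H80.mem_blockOf_self hMp ξ
    have h5 := hχ₁ _ heBR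
    rwa [omega_blockElt, if_neg hχ₁B, sub_zero] at h5
  have hβcf : IsCF β := hβR.1
  have hecf : IsCF e := heR.1
  have h1eR : (1 - e) ∈ cfSubring (Subgroup.normalizer (D : Set G)) (localRing M hMp) :=
    Subring.sub_mem _ (Subring.one_mem _) heR
  have h1βR : (1 - β) ∈ cfSubring (Subgroup.normalizer (D : Set G)) (localRing M hMp) :=
    Subring.sub_mem _ (Subring.one_mem _) hβR
  have hee : e * e = e := Cfsg.Agent.H81.blockElt_mul_self _
  have hu : CoeffIdeal M (β * (1 - e)) := by
    apply coeffIdeal_of_idem hMp (Subring.mul_mem _ hβR h1eR)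
    · have hc : (1 - e) * β = β * (1 - e) := isCF_mul_comm h1eR.1 β
      have h1e : (1 - e) * (1 - e) = 1 - e := by
        simp only [mul_sub, sub_mul, mul_one, one_mul, hee]
        abel
      have e1 : β * (1 - e) * (β * (1 - e)) - β * (1 - e) = (1 - e) * (β * β - β) := by
        calc β * (1 - e) * (β * (1 - e)) - β * (1 - e)
            = β * ((1 - e) * β) * (1 - e) - β * (1 - e) := by simp only [mul_assoc]
          _ = β * (β * (1 - e)) * (1 - e) - β * (1 - e) := by rw [hc]
          _ = β * β * ((1 - e) * (1 - e)) - β * (1 - e) := by simp only [mul_assoc]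
          _ = β * β * (1 - e) - β * (1 - e) := by rw [h1e]
          _ = (β * β - β) * (1 - e) := (sub_mul _ _ _).symm
          _ = (1 - e) * (β * β - β) := (isCF_mul_comm h1eR.1 _).symm
      rw [e1]
      exact CoeffIdeal.mul_left hMp h1eR hβ2
    · intro θ
      rw [omega_mul θ hβcf, omega_sub, omega_one_irr, omega_blockElt]
      by_cases hθ : θ ∈ blockOf M (ξ₀ : Subgroup.normalizer (D : Set G) → ℂ)
      · rw [if_pos hθ, sub_self, mul_zero]
        exact memLocalIdeal_zero hMp
      · rw [if_neg hθ, sub_zero, mul_one]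
        exact hout θ hθ
  have hv : CoeffIdeal M ((1 - β) * e) := by
    apply coeffIdeal_of_idem hMp (Subring.mul_mem _ h1βR heR)
    · have hc : e * (1 - β) = (1 - β) * e := isCF_mul_comm hecf _
      have h1β : (1 - β) * (1 - β) - (1 - β) = β * β - β := by
        simp only [mul_sub, sub_mul, mul_one, one_mul]
        abel
      have e1 : (1 - β) * e * ((1 - β) * e) - (1 - β) * e = e * (β * β - β) := by
        calc (1 - β) * e * ((1 - β) * e) - (1 - β) * e
            = (1 - β) * (e * (1 - β)) * e - (1 - β) * e := by simp only [mul_assoc]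
          _ = (1 - β) * ((1 - β) * e) * e - (1 - β) * e := by rw [hc]
          _ = (1 - β) * (1 - β) * (e * e) - (1 - β) * e := by simp only [mul_assoc]
          _ = (1 - β) * (1 - β) * e - (1 - β) * e := by rw [hee]
          _ = ((1 - β) * (1 - β) - (1 - β)) * e := (sub_mul _ _ _).symm
          _ = (β * β - β) * e := by rw [h1β]
          _ = e * (β * β - β) := (isCF_mul_comm hecf _).symm
      rw [e1]
      exact CoeffIdeal.mul_left hMp heR hβ2
    · intro θ
      rw [omega_mul θ h1βR.1, omega_sub, omega_one_irr, omega_blockElt]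
      by_cases hθ : θ ∈ blockOf M (ξ₀ : Subgroup.normalizer (D : Set G) → ℂ)
      · rw [if_pos hθ, mul_one]
        have := memLocalIdeal_neg (hin θ hθ)
        rwa [neg_sub] at this
      · rw [if_neg hθ, mul_zero]
        exact memLocalIdeal_zero hMp
  have efin : β - e = β * (1 - e) - (1 - β) * e := by
    rw [mul_sub, sub_mul, mul_one, one_mul]
    abel
  rw [efin]
  exact CoeffIdeal.sub hMp hu hv

end BrauerIdem

section Count

variable {G : Type u} [Group G] [Fintype G] {p : ℕ} [Fact p.Prime] {M : Ideal AlgInt}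

theorem centralizer_singleton_inv_eq (g : G) :
    Subgroup.centralizer ({g⁻¹} : Set G) = Subgroup.centralizer ({g} : Set G) := by
  ext k
  rw [Subgroup.mem_centralizer_singleton_iff, Subgroup.mem_centralizer_singleton_iff]
  constructor
  · intro h
    calc k * g = g * (g⁻¹ * k) * g := by group
      _ = g * (k * g⁻¹) * g := by rw [h]
      _ = g * k := by group
  · intro h
    calc k * g⁻¹ = g⁻¹ * (g * k) * g⁻¹ := by group
      _ = g⁻¹ * (k * g) * g⁻¹ := by rw [h]
      _ = g⁻¹ * k := by group

/-- A maximal `p`-subgroup of `K` has order the `p`-part of `|K|`. -/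
theorem card_eq_of_isMaxP {K D : Subgroup G} (h : IsMaxP p K D) :
    Nat.card D = p ^ (Nat.card K).factorization p := by
  obtain ⟨S, hS⟩ := h.exists_sylow
  rw [hS, Subgroup.card_map_of_injective K.subtype_injective]
  exact S.card_eq_multiplicity

/-- Sylow counting: if `D` is a Sylow `p`-subgroup of `K`, then `|K : N_K(D)| ≡ 1` modulo `p`. -/
theorem relIndex_normalizer_modEq_one {K D : Subgroup G} (h : IsMaxP p K D) :
    (Subgroup.normalizer (D : Set G)).relIndex K ≡ 1 [MOD p] := by
  classical
  obtain ⟨S, hS⟩ := h.exists_sylow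
  have hle : D ≤ K := h.1
  have h1 : (Subgroup.normalizer (D : Set G)).relIndex K = Nat.card (Sylow p K) := by
    have e1 : D.subgroupOf K = (S : Subgroup K) := by
      rw [hS]
      exact Subgroup.comap_map_eq_self_of_injective K.subtype_injective _
    have e2 := Sylow.card_eq_index_normalizer S
    have e3 : (Subgroup.normalizer (D : Set G)).subgroupOf K =
        Subgroup.normalizer ((D.subgroupOf K : Subgroup K) : Set K) :=
      Subgroup.subgroupOf_normalizer_eq hle
    rw [e2]
    show ((Subgroup.normalizer (D : Set G)).subgroupOf K).index = _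
    rw [e3, e1]
    rfl
  rw [h1]
  exact card_sylow_modEq_one p K

/-- Sylow counting: if `D` is a Sylow `p`-subgroup of `C_G(l)`, `l ∈ N = N_G(D)`, then
`|G : N| |N : C_N(l)| = ρ |G : C_G(l)|` with `ρ ≡ 1` modulo `p`. -/
theorem index_normalizer_mul_index_centralizer (D : Subgroup G)
    (l : Subgroup.normalizer (D : Set G))
    (h : IsMaxP p (Subgroup.centralizer ({(l : G)} : Set G)) D) :
    ∃ ρ : ℕ, ρ ≡ 1 [MOD p] ∧
      (Subgroup.normalizer (D : Set G)).index *
          (Subgroup.centralizer ({l} : Set (Subgroup.normalizer (D : Set G)))).index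
        = ρ * (Subgroup.centralizer ({(l : G)} : Set G)).index := by
  classical
  refine ⟨(Subgroup.normalizer (D : Set G)).relIndex (Subgroup.centralizer ({(l : G)} : Set G)),
    relIndex_normalizer_modEq_one h, ?_⟩
  have h2 : (Subgroup.centralizer ({l} : Set (Subgroup.normalizer (D : Set G)))).index =
      (Subgroup.centralizer ({(l : G)} : Set G)).relIndex (Subgroup.normalizer (D : Set G)) := by
    have : Subgroup.centralizer ({l} : Set (Subgroup.normalizer (D : Set G))) =
        (Subgroup.centralizer ({(l : G)} : Set G)).subgroupOf (Subgroup.normalizer (D : Set G)) := by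
      ext k
      rw [Subgroup.mem_subgroupOf, Subgroup.mem_centralizer_singleton_iff,
        Subgroup.mem_centralizer_singleton_iff, Subtype.ext_iff]
      rfl
    rw [this]
    rfl
  rw [h2]
  rw [← Subgroup.inf_relIndex_left, mul_comm, Subgroup.relIndex_mul_index inf_le_left,
    ← Subgroup.inf_relIndex_right, Subgroup.relIndex_mul_index inf_le_right]

/-- A height-zero character of a block has degree of `p`-valuation `a - d`. -/
theorem factorization_charDegree_add_blockDefect (χ : IrrCharacter G)
    (h0 : blockHeight p (blockOf M (χ : G → ℂ)) (χ : G → ℂ) = 0)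
    (hχ : χ ∈ blockOf M (χ : G → ℂ)) :
    (charDegree (χ : G → ℂ)).factorization p + blockDefect p (blockOf M (χ : G → ℂ)) =
      (Nat.card G).factorization p := by
  unfold blockHeight at h0
  unfold blockDefect
  have h1 : sInf ((fun ψ : IrrCharacter G => (charDegree (ψ : G → ℂ)).factorization p) ''
      blockOf M (χ : G → ℂ)) ≤ (charDegree (χ : G → ℂ)).factorization p :=
    Nat.sInf_le ⟨χ, hχ, rfl⟩
  have h2 : (charDegree (χ : G → ℂ)).factorization p ≤ (Nat.card G).factorization p := by
    have hd := Cfsg.Agent.H81.irr_charDegree_dvd χ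
    have hpos := (Cfsg.Agent.H81.irr_charDegree χ).2
    exact (Nat.factorization_le_iff_dvd hpos.ne' Nat.card_pos.ne').mpr hd p
  omega

/-- Every character of a block has degree of `p`-valuation at least `a - d`. -/
theorem factorization_card_le_add_blockDefect (B : Set (IrrCharacter G)) (ψ : IrrCharacter G)
    (hψ : ψ ∈ B) :
    (Nat.card G).factorization p ≤
      (charDegree (ψ : G → ℂ)).factorization p + blockDefect p B := by
  unfold blockDefect
  have h1 : sInf ((fun ψ : IrrCharacter G => (charDegree (ψ : G → ℂ)).factorization p) '' B)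
      ≤ (charDegree (ψ : G → ℂ)).factorization p :=
    Nat.sInf_le ⟨ψ, hψ, rfl⟩
  omega

end Count

section Main

variable {G : Type u} [Group G] [Fintype G] {p : ℕ} [Fact p.Prime] {M : Ideal AlgInt}

theorem factorization_mul_apply {a b : ℕ} (ha : a ≠ 0) (hb : b ≠ 0) (q : ℕ) :
    (a * b).factorization q = a.factorization q + b.factorization q := by
  rw [Nat.factorization_mul ha hb]
  rfl

theorem factorization_sq_apply (a : ℕ) (q : ℕ) :
    (a ^ 2).factorization q = 2 * a.factorization q := by
  rw [Nat.factorization_pow]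
  rfl

theorem factorization_prime_pow_self (d : ℕ) : (p ^ d).factorization p = d := by
  have hp : p.Prime := Fact.out
  rw [hp.factorization_pow, Finsupp.single_eq_same]

/-- The weight of `ψ ∈ Irr(N_G(D))` in the height-zero formula. -/
noncomputable def hzWt (χ : IrrCharacter G) (D : Subgroup G)
    (ψ : IrrCharacter (Subgroup.normalizer (D : Set G))) : ℂ :=
  ((charDegree (ψ : Subgroup.normalizer (D : Set G) → ℂ) ^ 2 *
      (Subgroup.normalizer (D : Set G)).index * Nat.card D : ℕ) : ℂ) /
    ((Nat.card (Subgroup.normalizer (D : Set G)) * charDegree (χ : G → ℂ) : ℕ) : ℂ)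

open scoped Classical in
/-- The sum of the weights over the characters of the Brauer correspondent with the defect group in
their kernel. -/
noncomputable def hzLam (M : Ideal AlgInt) (χ : IrrCharacter G) (D : Subgroup G)
    (ξ₀ : IrrCharacter (Subgroup.normalizer (D : Set G))) : ℂ :=
  @Finset.sum _ _ _ (@Finset.univ _ (fintypeIrr (Subgroup.normalizer (D : Set G))))
    (fun ψ : IrrCharacter (Subgroup.normalizer (D : Set G)) =>
      if ψ ∈ blockOf M (ξ₀ : Subgroup.normalizer (D : Set G) → ℂ) ∧
        (∀ x ∈ D.subgroupOf (Subgroup.normalizer (D : Set G)),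
          (ψ : Subgroup.normalizer (D : Set G) → ℂ) x =
            (ψ : Subgroup.normalizer (D : Set G) → ℂ) 1)
      then hzWt χ D ψ else 0)

theorem card_subgroupOf_normalizer (D : Subgroup G) :
    Nat.card (D.subgroupOf (Subgroup.normalizer (D : Set G))) = Nat.card D :=
  Nat.card_congr (Subgroup.subgroupOfEquivOfLe Subgroup.le_normalizer).toEquiv

/-- The valuations needed in the height-zero formula. -/
theorem hz_valuations (hM : IsPModular p M) (χ : IrrCharacter G)
    (h0 : blockHeight p (blockOf M (χ : G → ℂ)) (χ : G → ℂ) = 0)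
    (D : Subgroup G) (hdef : IsDefectGroup p M (blockOf M (χ : G → ℂ)) D)
    (ξ₀ : IrrCharacter (Subgroup.normalizer (D : Set G)))
    (hdefN : IsDefectGroup p M (blockOf M (ξ₀ : Subgroup.normalizer (D : Set G) → ℂ))
      (D.subgroupOf (Subgroup.normalizer (D : Set G)))) :
    ∃ d : ℕ, Nat.card D = p ^ d ∧
      (charDegree (χ : G → ℂ)).factorization p + d = (Nat.card G).factorization p ∧
      ∀ ψ ∈ blockOf M (ξ₀ : Subgroup.normalizer (D : Set G) → ℂ),
        (Nat.card (Subgroup.normalizer (D : Set G))).factorization p ≤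
          (charDegree (ψ : Subgroup.normalizer (D : Set G) → ℂ)).factorization p + d := by
  classical
  letI : Fintype (Subgroup.normalizer (D : Set G)) := Fintype.ofFinite _
  have hp : p.Prime := hM.1
  have hMp := isPrime_of_isPModular hM
  refine ⟨blockDefect p (blockOf M (χ : G → ℂ)), card_defectGroup hM χ D hdef,
    factorization_charDegree_add_blockDefect χ h0 (Cfsg.Agent.H80.mem_blockOf_self hMp χ), ?_⟩
  intro ψ hψ
  have h1 := card_defectGroup hM ξ₀ _ hdefN
  rw [card_subgroupOf_normalizer, card_defectGroup hM χ D hdef] at h1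
  have h2 := Nat.pow_right_injective hp.two_le h1
  rw [h2]
  exact factorization_card_le_add_blockDefect _ ψ hψ

theorem hzWt_memLocalRing (hM : IsPModular p M) (χ : IrrCharacter G)
    (h0 : blockHeight p (blockOf M (χ : G → ℂ)) (χ : G → ℂ) = 0)
    (D : Subgroup G) (hdef : IsDefectGroup p M (blockOf M (χ : G → ℂ)) D)
    (ξ₀ : IrrCharacter (Subgroup.normalizer (D : Set G)))
    (hdefN : IsDefectGroup p M (blockOf M (ξ₀ : Subgroup.normalizer (D : Set G) → ℂ))
      (D.subgroupOf (Subgroup.normalizer (D : Set G))))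
    (ψ : IrrCharacter (Subgroup.normalizer (D : Set G)))
    (hψ : ψ ∈ blockOf M (ξ₀ : Subgroup.normalizer (D : Set G) → ℂ)) :
    MemLocalRing M (hzWt χ D ψ) := by
  classical
  obtain ⟨d, hd, hx, hall⟩ := hz_valuations hM χ h0 D hdef ξ₀ hdefN
  have hψv := hall ψ hψ
  have hχpos := (Cfsg.Agent.H81.irr_charDegree χ).2
  have hψpos := (Cfsg.Agent.H81.irr_charDegree ψ).2
  have hNpos : 0 < Nat.card (Subgroup.normalizer (D : Set G)) := Nat.card_pos
  have hidx : (Subgroup.normalizer (D : Set G)).index ≠ 0 := Subgroup.index_ne_zero_of_finite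
  have hGN := Subgroup.index_mul_card (Subgroup.normalizer (D : Set G))
  have ha : (Nat.card G).factorization p =
      ((Subgroup.normalizer (D : Set G)).index).factorization p +
        (Nat.card (Subgroup.normalizer (D : Set G))).factorization p := by
    rw [← hGN, factorization_mul_apply hidx hNpos.ne']
  unfold hzWt
  apply memLocalRing_natCast_div hM (Nat.mul_ne_zero hNpos.ne' hχpos.ne')
  rw [factorization_mul_apply hNpos.ne' hχpos.ne',
    factorization_mul_apply (Nat.mul_ne_zero (pow_ne_zero 2 hψpos.ne') hidx) (by rw [hd]; exact pow_ne_zero _ (Fact.out : p.Prime).ne_zero),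
    factorization_mul_apply (pow_ne_zero 2 hψpos.ne') hidx, factorization_sq_apply, hd,
    factorization_prime_pow_self]
  omega

theorem hzLam_memLocalRing (hM : IsPModular p M) (χ : IrrCharacter G)
    (h0 : blockHeight p (blockOf M (χ : G → ℂ)) (χ : G → ℂ) = 0)
    (D : Subgroup G) (hdef : IsDefectGroup p M (blockOf M (χ : G → ℂ)) D)
    (ξ₀ : IrrCharacter (Subgroup.normalizer (D : Set G)))
    (hdefN : IsDefectGroup p M (blockOf M (ξ₀ : Subgroup.normalizer (D : Set G) → ℂ))
      (D.subgroupOf (Subgroup.normalizer (D : Set G)))) :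
    MemLocalRing M (hzLam M χ D ξ₀) := by
  classical
  have hMp := isPrime_of_isPModular hM
  unfold hzLam
  apply memLocalRing_sum hMp
  intro ψ _
  split_ifs with h
  · exact hzWt_memLocalRing hM χ h0 D hdef ξ₀ hdefN ψ h.1
  · exact memLocalRing_zero hMp

/-- The main case of the height-zero formula: for a `p`-regular `l ∈ N_G(D)` with `D` a Sylow
`p`-subgroup of `C_G(l)`, the coefficient of the block idempotent at `l⁻¹` is congruent to
`Λ χ(l)`. -/
theorem hz_main_case (hM : IsPModular p M) (χ : IrrCharacter G)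
    (h0 : blockHeight p (blockOf M (χ : G → ℂ)) (χ : G → ℂ) = 0)
    (D : Subgroup G) (hdef : IsDefectGroup p M (blockOf M (χ : G → ℂ)) D)
    (ξ₀ : IrrCharacter (Subgroup.normalizer (D : Set G)))
    (hdefN : IsDefectGroup p M (blockOf M (ξ₀ : Subgroup.normalizer (D : Set G) → ℂ))
      (D.subgroupOf (Subgroup.normalizer (D : Set G))))
    (hind : IsInducedBlock M (Subgroup.normalizer (D : Set G))
      (blockOf M (ξ₀ : Subgroup.normalizer (D : Set G) → ℂ)) (blockOf M (χ : G → ℂ)))
    (l : Subgroup.normalizer (D : Set G)) (hl : ¬ p ∣ orderOf (l : G))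
    (hmax : IsMaxP p (Subgroup.centralizer ({(l : G)} : Set G)) D) :
    MemLocalIdeal M (blockCoeff (blockOf M (χ : G → ℂ)) (l : G)⁻¹ -
      hzLam M χ D ξ₀ * (χ : G → ℂ) (l : G)) := by
  classical
  letI : Fintype (Subgroup.normalizer (D : Set G)) := Fintype.ofFinite _
  letI := fintypeIrr (Subgroup.normalizer (D : Set G))
  have hp : p.Prime := hM.1
  have hMp := isPrime_of_isPModular hM
  have hDp : IsPGroup p D := hmax.2.1
  have hDN : D ≤ Subgroup.normalizer (D : Set G) := Subgroup.le_normalizer
  haveI hnorm : (D.subgroupOf (Subgroup.normalizer (D : Set G))).Normal :=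
    Subgroup.normal_in_normalizer
  have hDNp : IsPGroup p (D.subgroupOf (Subgroup.normalizer (D : Set G))) := hDp.comap_subtype
  have hχself := Cfsg.Agent.H80.mem_blockOf_self hMp χ
  -- `l` centralizes `D`
  have hlC : (l : G) ∈ Subgroup.centralizer (D : Set G) := by
    rw [Subgroup.mem_centralizer_iff]
    intro d hd
    have := hmax.1 hd
    rw [Subgroup.mem_centralizer_singleton_iff] at this
    exact this
  have hlinvC : ((l⁻¹ : Subgroup.normalizer (D : Set G)) : G) ∈
      Subgroup.centralizer (D : Set G) := by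
    rw [Subgroup.coe_inv]
    exact Subgroup.inv_mem _ hlC
  -- (A): the Brauer map
  have hA := coeffIdeal_brMap_blockElt_sub hM D hDp χ ξ₀ hdefN hind l⁻¹
  rw [MonoidAlgebra.coeff_sub, Finsupp.sub_apply] at hA
  rw [coeff_brMap, if_pos hlinvC, coeff_blockElt, coeff_blockElt, Subgroup.coe_inv] at hA
  -- (B): the coefficient of the correspondent
  have hlreg : ¬ p ∣ orderOf (l⁻¹ : Subgroup.normalizer (D : Set G)) := by
    rw [orderOf_inv, ← Subgroup.orderOf_coe]
    exact hl
  have hlinvCN : (l⁻¹ : Subgroup.normalizer (D : Set G)) ∈ Subgroup.centralizer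
      ((D.subgroupOf (Subgroup.normalizer (D : Set G)) :
        Subgroup (Subgroup.normalizer (D : Set G))) : Set (Subgroup.normalizer (D : Set G))) := by
    rw [Subgroup.mem_centralizer_iff]
    intro d hd
    have hd' : (d : G) ∈ D := Subgroup.mem_subgroupOf.mp hd
    rw [Subgroup.mem_centralizer_iff] at hlinvC
    apply Subtype.ext
    exact hlinvC _ hd'
  have hB := blockCoeff_eq_sum_ker hM (D.subgroupOf (Subgroup.normalizer (D : Set G))) hDNp ξ₀
    l⁻¹ hlreg hlinvCN
  rw [inv_inv, card_subgroupOf_normalizer] at hB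
  -- assemble
  have hsplit : blockCoeff (blockOf M (χ : G → ℂ)) (l : G)⁻¹ - hzLam M χ D ξ₀ * (χ : G → ℂ) (l : G)
      = (blockCoeff (blockOf M (χ : G → ℂ)) (l : G)⁻¹ -
          blockCoeff (blockOf M (ξ₀ : Subgroup.normalizer (D : Set G) → ℂ)) l⁻¹) +
        ∑ ψ : IrrCharacter (Subgroup.normalizer (D : Set G)),
          (if ψ ∈ blockOf M (ξ₀ : Subgroup.normalizer (D : Set G) → ℂ) ∧
            (∀ x ∈ D.subgroupOf (Subgroup.normalizer (D : Set G)),
              (ψ : Subgroup.normalizer (D : Set G) → ℂ) x =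
                (ψ : Subgroup.normalizer (D : Set G) → ℂ) 1)
          then ((Nat.card (Subgroup.normalizer (D : Set G)) : ℂ)⁻¹ * ((Nat.card D : ℂ) *
              ((ψ : Subgroup.normalizer (D : Set G) → ℂ) 1 *
                (ψ : Subgroup.normalizer (D : Set G) → ℂ) l)) -
            hzWt χ D ψ * (χ : G → ℂ) (l : G)) else 0) := by
    rw [hB]
    unfold hzLam
    rw [Finset.mul_sum, Finset.sum_mul]
    have key : ∀ (X S1 S2 S3 : ℂ), S2 - S1 = S3 → X - S1 = (X - S2) + S3 := by
      intro X S1 S2 S3 h
      rw [← h]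
      ring
    apply key
    rw [← Finset.sum_sub_distrib]
    apply Finset.sum_congr rfl
    intro ψ _
    split_ifs <;> ring
  rw [hsplit]
  apply memLocalIdeal_add hMp hA
  apply memLocalIdeal_sum hMp
  intro ψ _
  split_ifs with hψ
  swap
  · exact memLocalIdeal_zero hMp
  obtain ⟨hψb, -⟩ := hψ
  -- the numbers
  obtain ⟨d, hd, hx, hall⟩ := hz_valuations hM χ h0 D hdef ξ₀ hdefN
  have hψv := hall ψ hψb
  obtain ⟨ρ, hρ, hcount⟩ := index_normalizer_mul_index_centralizer D l hmax
  have hχ1 := (Cfsg.Agent.H81.irr_charDegree χ).1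
  have hχpos := (Cfsg.Agent.H81.irr_charDegree χ).2
  have hψ1 := (Cfsg.Agent.H81.irr_charDegree ψ).1
  have hψpos := (Cfsg.Agent.H81.irr_charDegree ψ).2
  have hNpos : 0 < Nat.card (Subgroup.normalizer (D : Set G)) := Nat.card_pos
  have hidx : (Subgroup.normalizer (D : Set G)).index ≠ 0 := Subgroup.index_ne_zero_of_finite
  have hiN : (Subgroup.centralizer ({l} : Set (Subgroup.normalizer (D : Set G)))).index ≠ 0 :=
    Subgroup.index_ne_zero_of_finite
  have hiG : (Subgroup.centralizer ({(l : G)} : Set G)).index ≠ 0 :=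
    Subgroup.index_ne_zero_of_finite
  have hDpos : Nat.card D ≠ 0 := Nat.card_pos.ne'
  -- valuation of `|N : C_N(l)|`
  have hmaxN := isMaxP_subgroupOf D l hmax
  have hcN := card_eq_of_isMaxP hmaxN
  rw [card_subgroupOf_normalizer, hd] at hcN
  have hdC := Nat.pow_right_injective hp.two_le hcN
  have hNfac : (Nat.card (Subgroup.normalizer (D : Set G))).factorization p =
      ((Subgroup.centralizer ({l} : Set (Subgroup.normalizer (D : Set G)))).index).factorization p
        + d := by
    rw [← Subgroup.index_mul_card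
      (Subgroup.centralizer ({l} : Set (Subgroup.normalizer (D : Set G)))),
      factorization_mul_apply hiN Nat.card_pos.ne', ← hdC]
  -- `q`
  have hq : MemLocalRing M
      (((charDegree (ψ : Subgroup.normalizer (D : Set G) → ℂ) ^ 2 * Nat.card D : ℕ) : ℂ) /
        ((Nat.card (Subgroup.normalizer (D : Set G)) *
          (Subgroup.centralizer ({l} : Set (Subgroup.normalizer (D : Set G)))).index : ℕ) : ℂ)) := by
    apply memLocalRing_natCast_div hM (Nat.mul_ne_zero hNpos.ne' hiN)
    rw [factorization_mul_apply hNpos.ne' hiN,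
      factorization_mul_apply (pow_ne_zero 2 hψpos.ne') hDpos, factorization_sq_apply, hd,
      factorization_prime_pow_self]
    omega
  -- `t`
  have ht : MemLocalIdeal M (centralChar (ψ : Subgroup.normalizer (D : Set G) → ℂ) l -
      centralChar (χ : G → ℂ) (l : G)) := by
    have e1 := brauerCentralChar_eq_of_isMaxP D l hmax _ (irr_isClassFunction ψ)
    have a1 := inducedCentralChar_sub_brauerCentralChar_mem hM D
      (Subgroup.normalizer (D : Set G)) hDp hDN le_rfl ψ (l : G)
    have b1 := hind.2.2 ψ hψb χ hχself (l : G)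
    rw [e1] at a1
    have := memLocalIdeal_sub hMp b1 a1
    convert this using 1
    ring
  -- `ρ - 1`
  have hρ1 : MemLocalIdeal M ((ρ : ℂ) - 1) := by
    have h1 : (p : ℤ) ∣ ((ρ : ℤ) - 1) := by
      have := (Nat.modEq_iff_dvd.mp hρ.symm)
      simpa using this
    have h2 := (memLocalIdeal_intCast_iff hM ((ρ : ℤ) - 1)).mpr h1
    push_cast at h2
    exact h2
  have hfin := memLocalIdeal_mul_left hMp hq (memLocalIdeal_sub hMp ht
    (memLocalIdeal_mul_right hMp hρ1 (centralChar_memLocalRing hMp χ (l : G))))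
  convert hfin using 1
  unfold hzWt centralChar
  rw [hψ1, hχ1]
  have hcountC : ((Subgroup.normalizer (D : Set G)).index : ℂ) *
      ((Subgroup.centralizer ({l} : Set (Subgroup.normalizer (D : Set G)))).index : ℂ) =
      (ρ : ℂ) * ((Subgroup.centralizer ({(l : G)} : Set G)).index : ℂ) := by
    exact_mod_cast hcount
  have hiNC : ((Subgroup.centralizer ({l} : Set (Subgroup.normalizer (D : Set G)))).index : ℂ) ≠ 0 := by
    exact_mod_cast hiN
  have hj : ((Subgroup.normalizer (D : Set G)).index : ℂ) =
      (ρ : ℂ) * ((Subgroup.centralizer ({(l : G)} : Set G)).index : ℂ) /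
        ((Subgroup.centralizer ({l} : Set (Subgroup.normalizer (D : Set G)))).index : ℂ) := by
    rw [eq_div_iff hiNC]
    exact hcountC
  have hψC : ((charDegree (ψ : Subgroup.normalizer (D : Set G) → ℂ) : ℕ) : ℂ) ≠ 0 := by
    exact_mod_cast hψpos.ne'
  have hχC : ((charDegree (χ : G → ℂ) : ℕ) : ℂ) ≠ 0 := by
    exact_mod_cast hχpos.ne'
  have hNC : ((Nat.card (Subgroup.normalizer (D : Set G)) : ℕ) : ℂ) ≠ 0 := by
    exact_mod_cast hNpos.ne'
  push_cast
  rw [hj]
  field_simp
  ring

/-- **The height-zero formula**: for `χ` of height zero in its block, the number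
`(1/χ(1)) ∑_{g p-regular} χ(g⁻¹) χ(g) = |G| [χ, χ]° / χ(1)` is a unit modulo the local ideal. -/
theorem not_memLocalIdeal_omega_regElt (hM : IsPModular p M) (χ : IrrCharacter G)
    (h0 : blockHeight p (blockOf M (χ : G → ℂ)) (χ : G → ℂ) = 0) :
    ¬ MemLocalIdeal M (omega (χ : G → ℂ) (regElt p (χ : G → ℂ))) := by
  classical
  have hp : p.Prime := hM.1
  have hMp := isPrime_of_isPModular hM
  have hχself := Cfsg.Agent.H80.mem_blockOf_self hMp χ
  obtain ⟨y, hy⟩ := Cfsg.Agent.S0906.result p M hM (blockOf M (χ : G → ℂ)) ⟨χ, rfl⟩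
  obtain ⟨S⟩ : Nonempty (Sylow p (Subgroup.centralizer ({y} : Set G))) := Sylow.nonempty
  obtain ⟨D, hDdef⟩ : ∃ D : Subgroup G, D = (S : Subgroup (Subgroup.centralizer ({y} : Set G))).map
      (Subgroup.centralizer ({y} : Set G)).subtype := ⟨_, rfl⟩
  have hdef : IsDefectGroup p M (blockOf M (χ : G → ℂ)) D := ⟨y, hy, S, hDdef⟩
  have hDp : IsPGroup p D := by rw [hDdef]; exact S.isPGroup'.map _
  have hDy : D ≤ Subgroup.centralizer ({y} : Set G) := by
    rw [hDdef]; exact Subgroup.map_subtype_le _
  have hCN : Subgroup.centralizer (D : Set G) ≤ Subgroup.normalizer (D : Set G) :=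
    Subgroup.centralizer_le_normalizer _
  obtain ⟨ξ₀, hdefN, hind⟩ := first_main_exists hM D hDp χ hdef
  have hΛ := hzLam_memLocalRing hM χ h0 D hdef ξ₀ hdefN
  obtain ⟨d, hd, hxd, -⟩ := hz_valuations hM χ h0 D hdef ξ₀ hdefN
  obtain ⟨Λ, hΛdef⟩ : ∃ Λ : ℂ, Λ = hzLam M χ D ξ₀ := ⟨_, rfl⟩
  rw [← hΛdef] at hΛ
  have hregR := regElt_mem hMp p χ
  have hχ1 := (Cfsg.Agent.H81.irr_charDegree χ).1
  have hχpos := (Cfsg.Agent.H81.irr_charDegree χ).2
  -- the key congruence, class by class
  have hX : ∀ g : G, MemLocalIdeal M ((blockCoeff (blockOf M (χ : G → ℂ)) g -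
      Λ * (regElt p (χ : G → ℂ)).coeff g) * centralChar (χ : G → ℂ) g) := by
    intro g
    by_cases hg : p ∣ orderOf g
    · rw [blockCoeff_eq_zero_of_singular hM χ g hg, coeff_regElt, if_pos hg, mul_zero, sub_zero,
        zero_mul]
      exact memLocalIdeal_zero hMp
    by_cases hω : MemLocalIdeal M (centralChar (χ : G → ℂ) g)
    · exact memLocalIdeal_mul_left hMp (memLocalRing_sub hMp (blockCoeff_memLocalRing hMp χ g)
        (memLocalRing_mul hMp hΛ ((mem_localRing hMp).mp (hregR.2 g)))) hω
    obtain ⟨x, hx, hDx⟩ := exists_conj_centralized_of_block hM χ g y hω hy.2.1 D hDp hDy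
    obtain ⟨t, ht⟩ := isConj_iff.mp hx
    have hgx : (blockCoeff (blockOf M (χ : G → ℂ)) g - Λ * (regElt p (χ : G → ℂ)).coeff g) *
        centralChar (χ : G → ℂ) g = (blockCoeff (blockOf M (χ : G → ℂ)) x -
          Λ * (regElt p (χ : G → ℂ)).coeff x) * centralChar (χ : G → ℂ) x := by
      rw [← ht, blockCoeff_conj_invariant, hregR.1 g t,
        Cfsg.Agent.H80.centralChar_conj (irr_isClassFunction χ) g t]
    rw [hgx]
    have hxreg : ¬ p ∣ orderOf x := by
      rw [← ht]
      have e1 : orderOf (t * g * t⁻¹) = orderOf g :=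
        orderOf_injective (MulAut.conj t).toMonoidHom (MulAut.conj t).injective g
      rw [e1]
      exact hg
    have hxC : x ∈ Subgroup.centralizer (D : Set G) := by
      rw [Subgroup.mem_centralizer_iff]
      intro d hd
      have := hDx hd
      rw [Subgroup.mem_centralizer_singleton_iff] at this
      exact this
    rw [coeff_regElt, if_neg hxreg]
    by_cases hmax : IsMaxP p (Subgroup.centralizer ({x} : Set G)) D
    · -- the main case
      have hxN : x⁻¹ ∈ Subgroup.normalizer (D : Set G) := hCN (Subgroup.inv_mem _ hxC)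
      have hmax' : IsMaxP p (Subgroup.centralizer
          ({((⟨x⁻¹, hxN⟩ : Subgroup.normalizer (D : Set G)) : G)} : Set G)) D := by
        show IsMaxP p (Subgroup.centralizer ({x⁻¹} : Set G)) D
        rw [centralizer_singleton_inv_eq]
        exact hmax
      have hl : ¬ p ∣ orderOf ((⟨x⁻¹, hxN⟩ : Subgroup.normalizer (D : Set G)) : G) := by
        show ¬ p ∣ orderOf x⁻¹
        rw [orderOf_inv]
        exact hxreg
      have hmain := hz_main_case hM χ h0 D hdef ξ₀ hdefN hind ⟨x⁻¹, hxN⟩ hl hmax'
      rw [← hΛdef] at hmain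
      simp only [inv_inv] at hmain
      exact memLocalIdeal_mul_right hMp hmain (centralChar_memLocalRing hMp χ x)
    · -- `D` is not a Sylow subgroup of `C(x)`
      have hcoef : MemLocalIdeal M (blockCoeff (blockOf M (χ : G → ℂ)) x) := by
        by_contra hnot
        apply hmax
        apply isMaxP_of_card hDx hDp
        intro Q hQ hQx
        obtain ⟨x', hx', hQx'⟩ := exists_conj_centralized_of_block hM χ y x (hy.2.2 χ hχself)
          hnot Q hQ hQx
        obtain ⟨t', ht'⟩ := exists_le_conj_sylow_centralizer Q hQ y x' hx' hQx' S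
        rw [← hDdef] at ht'
        calc Nat.card Q ≤ Nat.card (D.map (MulAut.conj t').toMonoidHom) :=
              Subgroup.card_le_of_le ht'
          _ = Nat.card D := Subgroup.card_map_of_injective (MulAut.conj t').injective
      have hval : MemLocalIdeal M ((χ : G → ℂ) x⁻¹) := by
        have hex : ∃ Q : Subgroup G, IsPGroup p Q ∧ Q ≤ Subgroup.centralizer ({x} : Set G) ∧
            Nat.card D < Nat.card Q := by
          by_contra hno
          push Not at hno
          exact hmax (isMaxP_of_card hDx hDp hno)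
        obtain ⟨Q, hQ, hQx, hlt⟩ := hex
        obtain ⟨k, hk⟩ := IsPGroup.iff_card.mp hQ
        rw [hd, hk] at hlt
        have hdk : d < k := (Nat.pow_lt_pow_iff_right hp.one_lt).mp hlt
        have hCpos : Nat.card (Subgroup.centralizer ({x} : Set G)) ≠ 0 := Nat.card_pos.ne'
        have hkC : k ≤ (Nat.card (Subgroup.centralizer ({x} : Set G))).factorization p := by
          apply (hp.pow_dvd_iff_le_factorization hCpos).mp
          rw [← hk]
          exact Subgroup.card_dvd_of_le hQx
        have hiG : (Subgroup.centralizer ({x} : Set G)).index ≠ 0 :=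
          Subgroup.index_ne_zero_of_finite
        have ha : (Nat.card G).factorization p =
            ((Subgroup.centralizer ({x} : Set G)).index).factorization p +
              (Nat.card (Subgroup.centralizer ({x} : Set G))).factorization p := by
          rw [← Subgroup.index_mul_card (Subgroup.centralizer ({x} : Set G)),
            factorization_mul_apply hiG hCpos]
        have hlt' : ((Subgroup.centralizer ({x} : Set G)).index).factorization p <
            (charDegree (χ : G → ℂ)).factorization p := by omega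
        have h1 := memLocalIdeal_natCast_mul_div hM hiG hlt'
          (centralChar_memLocalRing hMp χ x⁻¹)
        convert h1 using 1
        unfold centralChar
        rw [centralizer_singleton_inv_eq, hχ1]
        have hiGC : ((Subgroup.centralizer ({x} : Set G)).index : ℂ) ≠ 0 := by
          exact_mod_cast hiG
        have hχC : ((charDegree (χ : G → ℂ) : ℕ) : ℂ) ≠ 0 := by
          exact_mod_cast hχpos.ne'
        field_simp
      exact memLocalIdeal_mul_right hMp (memLocalIdeal_sub hMp hcoef
        (memLocalIdeal_mul_left hMp hΛ hval)) (centralChar_memLocalRing hMp χ x)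
  -- assemble
  have hz : omega (χ : G → ℂ) (blockElt (blockOf M (χ : G → ℂ)) - Λ • regElt p (χ : G → ℂ)) ∈
      localIdeal M hMp := by
    apply omega_mem_of_coeff (χ : G → ℂ) (irr_isClassFunction χ) (localIdeal M hMp)
    · exact isCF_of_mem (Subring.sub_mem _ (blockElt_mem hMp χ)
        (smul_mem_cfSubring ((mem_localRing hMp).mpr hΛ) hregR))
    · intro g
      rw [MonoidAlgebra.coeff_sub, Finsupp.sub_apply, coeff_blockElt, MonoidAlgebra.coeff_smul,
        Finsupp.smul_apply, smul_eq_mul]
      exact (mem_localIdeal hMp).mpr (hX g)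
  rw [omega_sub, omega_smul, omega_blockElt, if_pos hχself] at hz
  intro hm
  have h1 := memLocalIdeal_add hMp ((mem_localIdeal hMp).mp hz) (memLocalIdeal_mul_left hMp hΛ hm)
  rw [sub_add_cancel] at h1
  exact not_memLocalIdeal_one hMp h1

end Main

section Restrict

variable {G : Type u} [Group G] [Fintype G] {p : ℕ} [Fact p.Prime] {M : Ideal AlgInt}

open scoped Classical in
/-- The `p`-regular inner product as a central character value. -/
theorem classInner_regular_div (H : Subgroup G) [Fintype H] (χ : G → ℂ) (ψ : IrrCharacter H)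
    (c : ℂ) :
    classInner (fun h : H => if p ∣ orderOf h then (0 : ℂ) else c * χ h) (ψ : H → ℂ) /
        (ψ : H → ℂ) 1 =
      c / (Nat.card H : ℂ) * omega (ψ : H → ℂ) (Cfsg.Agent.H80.truncTo H (regElt p χ)) := by
  unfold classInner omega
  have h1 : ∑ h : H, (if p ∣ orderOf h then (0 : ℂ) else c * χ h) * conj ((ψ : H → ℂ) h)
      = c * ∑ h : H, (Cfsg.Agent.H80.truncTo H (regElt p χ)).coeff h * (ψ : H → ℂ) h := by
    rw [Finset.mul_sum, ← Equiv.sum_comp (Equiv.inv H)]
    apply Finset.sum_congr rfl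
    intro h _
    rw [Cfsg.Agent.H80.coeff_truncTo, coeff_regElt, irr_conj, Equiv.inv_apply, inv_inv,
      orderOf_inv, Subgroup.orderOf_coe]
    split_ifs
    · simp
    · rw [Subgroup.coe_inv]
      ring
  rw [h1]
  ring

/-- The value of a central character on `regElt` as a `p`-regular inner product. -/
theorem omega_regElt_eq (χ : G → ℂ) (ψ : IrrCharacter G) :
    omega (ψ : G → ℂ) (regElt p χ) =
      (Nat.card G : ℂ) * classInner (Cfsg.pRegularPart p χ) (ψ : G → ℂ) /
        (ψ : G → ℂ) 1 := by
  classical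
  unfold classInner omega
  have hG : (Nat.card G : ℂ) ≠ 0 := by exact_mod_cast (Nat.card_pos (α := G)).ne'
  have h1 : ∑ g : G, Cfsg.pRegularPart p χ g * conj ((ψ : G → ℂ) g)
      = ∑ g : G, (regElt p χ).coeff g * (ψ : G → ℂ) g := by
    rw [← Equiv.sum_comp (Equiv.inv G)]
    apply Finset.sum_congr rfl
    intro g _
    rw [coeff_regElt, irr_conj, Equiv.inv_apply, inv_inv, Cfsg.Agent.H81.pRegularPart_apply,
      orderOf_inv]
  rw [h1, mul_inv_cancel_left₀ hG]

/-- The statement behind `S4431`, for the induced block written as a block of some character. -/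
theorem inner_regular_induced (hM : IsPModular p M) (H : Subgroup G) [Fintype H]
    (b : Set (IrrCharacter H)) (B₀ : Set (IrrCharacter G)) (hind : IsInducedBlock M H b B₀)
    (χ : IrrCharacter G) (ψ : IrrCharacter H) (hψ : ψ ∈ b) :
    (χ ∉ B₀ → MemLocalIdeal M
        (omega (ψ : H → ℂ) (Cfsg.Agent.H80.truncTo H (regElt p (χ : G → ℂ))))) ∧
      (χ ∈ B₀ → blockHeight p B₀ (χ : G → ℂ) = 0 → ¬ MemLocalIdeal M
        (omega (ψ : H → ℂ) (Cfsg.Agent.H80.truncTo H (regElt p (χ : G → ℂ))))) := by
  classical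
  have hMp := isPrime_of_isPModular hM
  have hregR := regElt_mem hMp p χ
  obtain ⟨χ₁, hχ₁⟩ := hind.2.1
  have hχ₁B : χ₁ ∈ B₀ := by rw [hχ₁]; exact Cfsg.Agent.H80.mem_blockOf_self hMp χ₁
  constructor
  · intro hχ
    have h1 := omega_truncTo_sub_omega_mem hMp H ψ χ₁ (hind.2.2 ψ hψ χ₁ hχ₁B) hregR
    have h2 : omega (χ₁ : G → ℂ) (regElt p (χ : G → ℂ)) = 0 := by
      have hnot : χ₁ ∉ blockOf M (χ : G → ℂ) := by
        intro hmem
        apply hχ
        rw [hχ₁]
        exact Cfsg.Agent.H80.sameBlock_symm hmem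
      have h3 := Cfsg.Agent.H81.wbo_two (p := p) hM χ χ₁ hnot
      rw [omega_regElt_eq, h3, mul_zero, zero_div]
    rw [h2, sub_zero] at h1
    exact h1
  · intro hχ h0
    have hB : blockOf M (χ : G → ℂ) = B₀ := by
      rw [hχ₁] at hχ ⊢
      exact Cfsg.Agent.H80.blockOf_eq_of_mem hMp hχ
    rw [← hB] at h0
    have hkl := not_memLocalIdeal_omega_regElt hM χ h0
    have h1 := omega_truncTo_sub_omega_mem hMp H ψ χ (hind.2.2 ψ hψ χ hχ) hregR
    intro hcon
    apply hkl
    have := memLocalIdeal_sub hMp hcon h1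
    rwa [sub_sub_cancel] at this

/-- Symmetry of the `p`-regular inner product, in terms of central characters. -/
theorem omega_regElt_symm (ξ ψ : IrrCharacter G) :
    omega (ψ : G → ℂ) (regElt p (ξ : G → ℂ)) * (ψ : G → ℂ) 1 =
      omega (ξ : G → ℂ) (regElt p (ψ : G → ℂ)) * (ξ : G → ℂ) 1 := by
  classical
  unfold omega
  rw [div_mul_cancel₀ _ (irr_one_ne_zero ψ), div_mul_cancel₀ _ (irr_one_ne_zero ξ),
    ← Equiv.sum_comp (Equiv.inv G)]
  apply Finset.sum_congr rfl
  intro g _
  rw [coeff_regElt, coeff_regElt, Equiv.inv_apply, inv_inv, orderOf_inv]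
  split_ifs
  · simp
  · ring

/-- A character of positive height pairs into the local ideal with a character of height zero. -/
theorem omega_regElt_mem_of_height (hM : IsPModular p M) (ξ ψ : IrrCharacter G)
    (h : (charDegree (ψ : G → ℂ)).factorization p < (charDegree (ξ : G → ℂ)).factorization p) :
    MemLocalIdeal M (omega (ψ : G → ℂ) (regElt p (ξ : G → ℂ))) := by
  have hMp := isPrime_of_isPModular hM
  have hψ1 := (Cfsg.Agent.H81.irr_charDegree ψ).1
  have hψpos := (Cfsg.Agent.H81.irr_charDegree ψ).2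
  have hξ1 := (Cfsg.Agent.H81.irr_charDegree ξ).1
  have h1 := memLocalIdeal_natCast_mul_div hM hψpos.ne' h
    (omega_memLocalRing hMp ξ (regElt_mem hMp p ψ))
  convert h1 using 1
  have h2 := omega_regElt_symm (p := p) ξ ψ
  rw [hψ1, hξ1] at h2
  have hψC : ((charDegree (ψ : G → ℂ) : ℕ) : ℂ) ≠ 0 := by exact_mod_cast hψpos.ne'
  rw [eq_div_iff hψC, h2]
  ring

/-- The restriction of `regElt` of a character to a subgroup, expanded along the irreducible
constituents of the restricted character. -/
theorem truncTo_regElt_eq_sum (H : Subgroup G) [Fintype H] (χ : G → ℂ)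
    (m : IrrCharacter H → ℂ)
    (hm : ∀ h : H, χ h = @Finset.sum _ _ _ (@Finset.univ _ (fintypeIrr H))
      (fun ξ : IrrCharacter H => m ξ * (ξ : H → ℂ) h)) :
    Cfsg.Agent.H80.truncTo H (regElt p χ) =
      @Finset.sum _ _ _ (@Finset.univ _ (fintypeIrr H))
        (fun ξ : IrrCharacter H => m ξ • regElt p (ξ : H → ℂ)) := by
  classical
  letI := fintypeIrr H
  apply MonoidAlgebra.coeff_injective
  ext h
  rw [Cfsg.Agent.H80.coeff_truncTo, coeff_regElt, MonoidAlgebra.coeff_sum, Finsupp.finsetSum_apply,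
    Subgroup.orderOf_coe]
  simp only [MonoidAlgebra.coeff_smul, Finsupp.smul_apply, coeff_regElt, smul_eq_mul]
  split_ifs
  · simp
  · rw [← Subgroup.coe_inv, hm h⁻¹]

end Restrict

end Cfsg.Agent.H20
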