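import Mathlib
import Cfsg.Prelude.Def_Blocks
import Cfsg.Agent.H20.SecondMain2
import Cfsg.Agent.S0906
import Cfsg.Agent.S0912
import Cfsg.Agent.S0917

/-!
# helper20: consequences of the second main theorem

* `classFunction_eq_sum_blockPart` : a class function is the sum of its block parts.
* `irr_eq_zero_of_pPart` : `χ(g) = 0` if the `p`-part of `g` lies in no defect group of the block
  of `χ`.
-/

set_option autoImplicit false
set_option linter.style.haveILetI false
set_option linter.unusedSectionVars false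

namespace Cfsg.Agent.H20

open Cfsg Cfsg.Agent.H4

open scoped ComplexConjugate

universe u

variable {G : Type u} [Group G] [Fintype G]

/-- A class function is the sum of its block parts. -/
theorem classFunction_eq_sum_blockPart {M : Ideal AlgInt} (hM : M.IsPrime) {θ : G → ℂ}
    (hθ : IsClassFunction G θ) (g : G) :
    θ g = ∑ b ∈ Cfsg.Agent.H80.blocksFinset M G,
      ∑ᶠ ψ ∈ b, classInner θ (ψ : G → ℂ) * (ψ : G → ℂ) g := by
  classical
  have h1 : ∀ b : Set (IrrCharacter G), ∑ᶠ ψ ∈ b, classInner θ (ψ : G → ℂ) * (ψ : G → ℂ) g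
      = ∑ k : G, (blockElt b).coeff k * θ (k * g) := by
    intro b
    rw [← sum_blockCoeff_mul_eq b hθ g]
    apply Finset.sum_congr rfl
    intro k _
    rw [coeff_blockElt]
  simp only [h1]
  rw [Finset.sum_comm]
  have h2 : ∀ k : G, ∑ b ∈ Cfsg.Agent.H80.blocksFinset M G, (blockElt b).coeff k * θ (k * g)
      = (1 : MonoidAlgebra ℂ G).coeff k * θ (k * g) := by
    intro k
    rw [← Finset.sum_mul, ← Cfsg.Agent.H80.sum_blockElt_blocks hM, MonoidAlgebra.coeff_sum,
      Finsupp.finsetSum_apply]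
  rw [Finset.sum_congr rfl (fun k _ => h2 k), MonoidAlgebra.one_def]
  simp only [MonoidAlgebra.coeff_single, Finsupp.single_apply]
  rw [Finset.sum_eq_single (1 : G)]
  · simp
  · intro k _ hk
    rw [if_neg (Ne.symm hk), zero_mul]
  · intro h
    exact absurd (Finset.mem_univ _) h

/-- If the `p`-part of `g` lies in no defect group of the block of `χ`, then `χ(g) = 0`. -/
theorem irr_eq_zero_of_pPart {p : ℕ} [Fact p.Prime] {M : Ideal AlgInt} (hM : IsPModular p M)
    (χ : IrrCharacter G) (g x : G) (hx : IsPPart p g x)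
    (hD : ∀ D : Subgroup G, IsDefectGroup p M (blockOf M (χ : G → ℂ)) D → x ∉ D) :
    (χ : G → ℂ) g = 0 := by
  classical
  have hp : p.Prime := hM.1
  have hMp := isPrime_of_isPModular hM
  obtain ⟨y, hxy, hcomm, ⟨k, hk⟩, hy⟩ := hx
  letI : Fintype (Subgroup.centralizer ({x} : Set G)) := Fintype.ofFinite _
  have hxC : x ∈ Subgroup.centralizer ({x} : Set G) :=
    Subgroup.mem_centralizer_singleton_iff.mpr rfl
  have hyC : y ∈ Subgroup.centralizer ({x} : Set G) :=
    Subgroup.mem_centralizer_singleton_iff.mpr hcomm.eq.symm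
  have hyC' : ¬ p ∣ orderOf (⟨y, hyC⟩ : Subgroup.centralizer ({x} : Set G)) := by
    rw [← Subgroup.orderOf_coe]; exact hy
  have hϑ : IsClassFunction (Subgroup.centralizer ({x} : Set G))
      (fun c : Subgroup.centralizer ({x} : Set G) => (χ : G → ℂ) (x * (c : G))) := by
    intro c h
    show (χ : G → ℂ) (x * ((h * c * h⁻¹ : Subgroup.centralizer ({x} : Set G)) : G))
      = (χ : G → ℂ) (x * (c : G))
    have hhx : Commute (h : G) x := Subgroup.mem_centralizer_singleton_iff.mp h.2
    have e : x * ((h * c * h⁻¹ : Subgroup.centralizer ({x} : Set G)) : G)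
        = (h : G) * (x * (c : G)) * (h : G)⁻¹ := by
      push_cast
      rw [← mul_assoc, ← mul_assoc, ← hhx.eq]
      simp only [mul_assoc]
    rw [e, irr_isClassFunction]
  have h1 := classFunction_eq_sum_blockPart (M := M) hMp hϑ ⟨y, hyC⟩
  rw [← hxy]
  show (χ : G → ℂ) (x * ((⟨y, hyC⟩ : Subgroup.centralizer ({x} : Set G)) : G)) = 0
  rw [h1]
  apply Finset.sum_eq_zero
  intro b hb
  obtain ⟨ξ₀, rfl⟩ := Cfsg.Agent.H80.mem_blocksFinset.mp hb
  apply second_main hM x hk χ χ (Cfsg.Agent.H80.sameBlock_refl hMp _) ξ₀ ?_ ⟨y, hyC⟩ hyC'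
  intro hind
  obtain ⟨k0, hk0⟩ := Cfsg.Agent.S0906.result p M hM _ ⟨ξ₀, rfl⟩
  obtain ⟨Q⟩ : Nonempty (Sylow p (Subgroup.centralizer ({k0} : Set (Subgroup.centralizer
    ({x} : Set G))))) := inferInstance
  have hDb : IsDefectGroup p M (blockOf M (ξ₀ : Subgroup.centralizer ({x} : Set G) → ℂ))
      ((Q : Subgroup (Subgroup.centralizer ({k0} : Set (Subgroup.centralizer ({x} : Set G))))).map
        (Subgroup.centralizer ({k0} : Set (Subgroup.centralizer ({x} : Set G)))).subtype) :=
    ⟨k0, hk0, Q, rfl⟩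
  obtain ⟨E, hE, hDE⟩ := Cfsg.Agent.S0917.result p M hM (Subgroup.centralizer ({x} : Set G)) _
    ⟨ξ₀, rfl⟩ _ ⟨χ, rfl⟩ hind _ hDb
  have hcore := Cfsg.Agent.S0912.result p M hM _ ⟨ξ₀, rfl⟩ _ hDb
  have hxcore : (⟨x, hxC⟩ : Subgroup.centralizer ({x} : Set G)) ∈
      pCore p (Subgroup.centralizer ({x} : Set G)) := by
    have hz : ∀ c : Subgroup.centralizer ({x} : Set G),
        c * (⟨x, hxC⟩ : Subgroup.centralizer ({x} : Set G)) = ⟨x, hxC⟩ * c := by
      intro c
      apply Subtype.ext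
      exact Subgroup.mem_centralizer_singleton_iff.mp c.2
    have hn : (Subgroup.zpowers (⟨x, hxC⟩ : Subgroup.centralizer ({x} : Set G))).Normal := by
      constructor
      rintro n ⟨i, rfl⟩ c
      have hc : Commute c (⟨x, hxC⟩ : Subgroup.centralizer ({x} : Set G)) := hz c
      have e : c * (⟨x, hxC⟩ : Subgroup.centralizer ({x} : Set G)) ^ i * c⁻¹
          = (⟨x, hxC⟩ : Subgroup.centralizer ({x} : Set G)) ^ i := by
        rw [(hc.zpow_right i).eq, mul_inv_cancel_right]
      show c * (⟨x, hxC⟩ : Subgroup.centralizer ({x} : Set G)) ^ i * c⁻¹ ∈ _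
      rw [e]
      exact ⟨i, rfl⟩
    have hpg : IsPGroup p (Subgroup.zpowers (⟨x, hxC⟩ : Subgroup.centralizer ({x} : Set G))) := by
      apply IsPGroup.of_card (n := k)
      rw [Nat.card_zpowers, ← Subgroup.orderOf_coe]
      exact hk
    exact Cfsg.Agent.H80.le_pCore p _ hn hpg (Subgroup.mem_zpowers _)
  exact hD E hE (hDE ⟨⟨x, hxC⟩, hcore hxcore, rfl⟩)

end Cfsg.Agent.H20
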