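import Mathlib
import Cfsg.Prelude.Def_Blocks
import Cfsg.Agent.H20.SecondMain3
import Cfsg.Agent.H20.PElement
import Cfsg.Agent.H20.MinMax

/-!
# helper20: defect groups are conjugate; height zero characters and `p`-sections

* `defectGroup_le_conj` : any two defect groups of a block are conjugate (containment form).
* `exists_conj_mem_defectGroup_iff` : for `χ` of height zero in `B` and a `p`-element `x`, some
  conjugate of `x` lies in the defect group `D` iff `χ` does not vanish on the `p`-section of `x`.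
-/

set_option autoImplicit false
set_option linter.style.haveILetI false
set_option linter.unusedSectionVars false

namespace Cfsg.Agent.H20

open Cfsg Cfsg.Agent.H4

universe u

variable {G : Type u} [Group G] [Fintype G]

/-- Any two defect groups of a block are conjugate: `D₂ ≤ D₁ ^ x` for some `x`. -/
theorem defectGroup_le_conj {p : ℕ} [Fact p.Prime] {M : Ideal AlgInt} (hM : IsPModular p M)
    (χ₀ : IrrCharacter G) (D₁ D₂ : Subgroup G)
    (h₁ : IsDefectGroup p M (blockOf M (χ₀ : G → ℂ)) D₁)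
    (h₂ : IsDefectGroup p M (blockOf M (χ₀ : G → ℂ)) D₂) :
    ∃ x : G, D₂ ≤ D₁.map (MulAut.conj x).toMonoidHom := by
  have hMp := isPrime_of_isPModular hM
  obtain ⟨y₁, hy₁, P₁, rfl⟩ := h₁
  obtain ⟨y₂, hy₂, P₂, rfl⟩ := h₂
  have hχ₀ : χ₀ ∈ blockOf M (χ₀ : G → ℂ) := Cfsg.Agent.H80.sameBlock_refl hMp _
  have hQp : IsPGroup p ((P₂ : Subgroup (Subgroup.centralizer ({y₂} : Set G))).map
      (Subgroup.centralizer ({y₂} : Set G)).subtype) := P₂.isPGroup'.map _
  have hQy : (P₂ : Subgroup (Subgroup.centralizer ({y₂} : Set G))).map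
      (Subgroup.centralizer ({y₂} : Set G)).subtype ≤ Subgroup.centralizer ({y₂} : Set G) := by
    rintro _ ⟨q, _, rfl⟩
    exact q.2
  obtain ⟨x₁, hx₁, hQx⟩ := exists_conj_centralized_of_block hM χ₀ y₁ y₂
    (hy₁.2.2 χ₀ hχ₀) hy₂.2.1 _ hQp hQy
  exact exists_le_conj_sylow_centralizer _ hQp y₁ x₁ hx₁ hQx P₁

/-- For `χ` of height zero in `B` with defect group `D` and a `p`-element `x`: some conjugate of
`x` lies in `D` iff `χ` does not vanish identically on the `p`-section of `x`. -/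
theorem exists_conj_mem_defectGroup_iff {p : ℕ} [Fact p.Prime] {M : Ideal AlgInt}
    (hM : IsPModular p M) (χ₀ : IrrCharacter G) (D : Subgroup G)
    (hD : IsDefectGroup p M (blockOf M (χ₀ : G → ℂ)) D) (χ : IrrCharacter G)
    (hχ : χ ∈ blockOf M (χ₀ : G → ℂ))
    (h0 : blockHeight p (blockOf M (χ₀ : G → ℂ)) (χ : G → ℂ) = 0) (x : G) {k : ℕ}
    (hx : orderOf x = p ^ k) :
    (∃ g : G, g * x * g⁻¹ ∈ D) ↔
      ∃ u : G, (∃ z : G, IsPPart p u z ∧ IsConj x z) ∧ (χ : G → ℂ) u ≠ 0 := by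
  have hp : p.Prime := hM.1
  have hMp := isPrime_of_isPModular hM
  constructor
  · rintro ⟨g, hg⟩
    obtain ⟨y, hy, P, rfl⟩ := hD
    obtain ⟨q, hq, hqe⟩ := hg
    have hqe' : (q : G) = g * x * g⁻¹ := hqe
    have hcomm : Commute (g * x * g⁻¹) y := by
      rw [← hqe']
      exact Subgroup.mem_centralizer_singleton_iff.mp q.2
    have hord : orderOf (g * x * g⁻¹) = p ^ k := by
      rw [← hx]
      exact orderOf_injective (MulAut.conj g).toMonoidHom (MulAut.conj g).injective x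
    have hpow : (g * x * g⁻¹) ^ p ^ k = 1 := by rw [← hord]; exact pow_orderOf_eq_one _
    have hyreg := not_dvd_orderOf_of_isDefectClass hM χ₀ y hy
    refine ⟨g * x * g⁻¹ * y, ⟨g * x * g⁻¹, ⟨y, rfl, hcomm, ⟨k, hord⟩, hyreg⟩,
      isConj_iff.mpr ⟨g, rfl⟩⟩, ?_⟩
    intro hzero
    apply not_memLocalIdeal_irr_mul_of_height_zero hM χ₀ y hy (g * x * g⁻¹) hcomm hpow χ hχ h0
    rw [hzero]
    exact memLocalIdeal_zero hMp
  · rintro ⟨u, ⟨z, hz, hxz⟩, hu⟩
    have hex : ∃ D' : Subgroup G, IsDefectGroup p M (blockOf M (χ : G → ℂ)) D' ∧ z ∈ D' := by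
      by_contra hno
      apply hu
      apply irr_eq_zero_of_pPart hM χ u z hz
      intro D' hD' hzD'
      exact hno ⟨D', hD', hzD'⟩
    obtain ⟨D', hD', hzD'⟩ := hex
    rw [Cfsg.Agent.H80.blockOf_eq_of_mem hMp hχ] at hD'
    obtain ⟨c, hc⟩ := defectGroup_le_conj hM χ₀ D D' hD hD'
    obtain ⟨d, hd, hdz⟩ := hc hzD'
    have hdz' : c * d * c⁻¹ = z := hdz
    obtain ⟨a, ha⟩ := isConj_iff.mp hxz
    refine ⟨c⁻¹ * a, ?_⟩
    have e : c⁻¹ * a * x * (c⁻¹ * a)⁻¹ = d := by
      have : a * x * a⁻¹ = c * d * c⁻¹ := by rw [ha, hdz']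
      calc c⁻¹ * a * x * (c⁻¹ * a)⁻¹ = c⁻¹ * (a * x * a⁻¹) * c := by group
        _ = c⁻¹ * (c * d * c⁻¹) * c := by rw [this]
        _ = d := by group
    rw [e]
    exact hd

end Cfsg.Agent.H20
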