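/-
helper20 library: Brauer's (5H) for major subsections, in the language of helper84's
contribution numbers `contrib p C b x χ ψ = m_{χψ}^{(x,b)}`.

* `secPart_memLocalRing`, `secPart_isClassFunction`.
* `secElt`: the central element of `ℂ[G]` attached to the section function of `χ`;
  `omega_secElt`: `ω_ψ(secElt χ) = |G| m_{χψ} / ψ(1)`.
* `five_h`: if `b` has the same defect `d` as `B = b^G` then for `χ, ψ ∈ B`
  `p^d m_{χψ} = p^{h(ψ)} ρ` with `ρ` a local integer, which is a unit iff `χ` has height zero.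
-/
import Mathlib
import Cfsg.Prelude.Def_Blocks
import Cfsg.Prelude.Def_BlockRank
import Cfsg.Agent.H84.Contrib4

set_option autoImplicit false
set_option linter.style.haveILetI false
set_option linter.unusedSectionVars false
set_option linter.unusedVariables false

namespace Cfsg.Agent.H20

open Cfsg Cfsg.Agent.H4 Cfsg.Agent.H84
open scoped ComplexConjugate

universe u

section FiveH

variable {G : Type u} [Group G] [Fintype G] {p : ℕ} [Fact p.Prime] {M : Ideal AlgInt}

/-- The values of the section part of a character are local integers. -/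
theorem secPart_memLocalRing (hM : IsPModular p M) (x : G) {k : ℕ} (hx : x ^ p ^ k = 1)
    (C : Subgroup G) [Fintype C] (hxmem : x ∈ C) (hxC : ∀ c ∈ C, x * c = c * x)
    (b : Set (IrrCharacter C)) (χ : IrrCharacter G) (s : C) :
    MemLocalRing M (secPart p C b x χ s) := by
  classical
  have hMp := isPrime_of_isPModular hM
  by_cases hs : p ∣ orderOf s
  · rw [secPart_of_dvd p C b x χ hs]
    exact memLocalRing_zero hMp
  · rw [secPart_of_not_dvd p C b x χ hs, blockPart_eq_sum, Finset.sum_apply]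
    apply memLocalRing_sum hMp
    intro ξ _
    rw [Pi.smul_apply, smul_eq_mul]
    have hxc : (⟨x, hxmem⟩ : C) ∈ Subgroup.center C := by
      rw [Subgroup.mem_center_iff]
      intro c
      apply Subtype.ext
      exact (hxC c c.2).symm
    obtain ⟨n, hn⟩ := classInner_isCharacter_nat
      (isCharacter_restrict C (Cfsg.Agent.H80.isCharacter_of_irr χ))
      (Cfsg.Agent.H80.isCharacter_of_irr ξ)
    have h := classInner_translate_central (fun c : C => (χ : G → ℂ) c) hxc ξ
    rw [hn] at h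
    have h' : (fun c : C => (χ : G → ℂ) (x * (c : G))) =
        (fun c : C => (fun c : C => (χ : G → ℂ) c) ((⟨x, hxmem⟩ : C) * c)) := by
      funext c
      simp
    rw [h', h]
    have hxk : (⟨x, hxmem⟩ : C) ^ p ^ k = 1 := Subtype.ext (by simpa using hx)
    have hε : MemLocalIdeal M ((ξ : C → ℂ) ⟨x, hxmem⟩ / (ξ : C → ℂ) 1 - 1) := by
      apply memLocalIdeal_sub_one_of_pow_eq_one hM (k := k)
      have h1 := irr_central_pow ξ hxc (p ^ k)
      rw [hxk] at h1
      exact mul_right_cancel₀ (irr_one_ne_zero ξ) (by rw [← h1, one_mul])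
    have hε' : MemLocalRing M ((ξ : C → ℂ) ⟨x, hxmem⟩ / (ξ : C → ℂ) 1) := by
      have := memLocalRing_add hMp (MemLocalIdeal.memLocalRing hε) (memLocalRing_one hMp)
      rwa [sub_add_cancel] at this
    exact memLocalRing_mul hMp (memLocalRing_mul hMp (memLocalRing_natCast hMp n) hε')
      (memLocalRing_algInt hMp ⟨_, Cfsg.Agent.H81.irr_isIntegral ξ s⟩)

omit [Fact p.Prime] in
/-- The section part of a character is a class function. -/
theorem secPart_isClassFunction (C : Subgroup G) [Fintype C] (b : Set (IrrCharacter C)) (x : G)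
    (χ : IrrCharacter G) : IsClassFunction C (secPart p C b x χ) := by
  classical
  intro g h
  have e1 : orderOf (h * g * h⁻¹) = orderOf g :=
    orderOf_injective (MulAut.conj h).toMonoidHom (MulAut.conj h).injective g
  unfold secPart
  rw [Cfsg.Agent.H81.pRegularPart_apply, Cfsg.Agent.H81.pRegularPart_apply, e1]
  split_ifs
  · rfl
  · rw [blockPart_eq_sum, Finset.sum_apply, Finset.sum_apply]
    apply Finset.sum_congr rfl
    intro ξ _
    rw [Pi.smul_apply, Pi.smul_apply, irr_isClassFunction ξ]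

open scoped Classical in
/-- The section part of `χ`, transported to the coset `x C` and extended by zero. -/
noncomputable def secExt (p : ℕ) (C : Subgroup G) [Fintype C] (b : Set (IrrCharacter C))
    (x : G) (χ : IrrCharacter G) (u : G) : ℂ :=
  ∑ c : C, if x * (c : G) = u then secPart p C b x χ c else 0

omit [Fact p.Prime] in
theorem secExt_mul (C : Subgroup G) [Fintype C] (b : Set (IrrCharacter C)) (x : G)
    (χ : IrrCharacter G) (c₀ : C) : secExt p C b x χ (x * (c₀ : G)) = secPart p C b x χ c₀ := by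
  classical
  unfold secExt
  rw [Finset.sum_eq_single c₀]
  · rw [if_pos rfl]
  · intro c _ hc
    rw [if_neg]
    intro h
    exact hc (Subtype.ext (mul_left_cancel h))
  · intro h
    exact absurd (Finset.mem_univ c₀) h

omit [Fact p.Prime] in
theorem secExt_eq_zero (C : Subgroup G) [Fintype C] (b : Set (IrrCharacter C)) (x : G)
    (χ : IrrCharacter G) (u : G)
    (h : ∀ c : C, ¬ p ∣ orderOf c → x * (c : G) ≠ u) : secExt p C b x χ u = 0 := by
  classical
  unfold secExt
  apply Finset.sum_eq_zero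
  intro c _
  split_ifs with hc
  · by_cases hreg : p ∣ orderOf c
    · exact secPart_of_dvd p C b x χ hreg
    · exact absurd hc (h c hreg)
  · rfl

omit [Fact p.Prime] in
theorem sum_secExt_mul (C : Subgroup G) [Fintype C] (b : Set (IrrCharacter C)) (x : G)
    (χ : IrrCharacter G) (φ : G → ℂ) :
    ∑ u : G, secExt p C b x χ u * φ u = ∑ c : C, secPart p C b x χ c * φ (x * (c : G)) := by
  classical
  unfold secExt
  simp only [Finset.sum_mul]
  rw [Finset.sum_comm]
  apply Finset.sum_congr rfl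
  intro c _
  rw [Finset.sum_eq_single (x * (c : G))]
  · rw [if_pos rfl]
  · intro u _ hu
    rw [if_neg (fun h => hu h.symm), zero_mul]
  · intro h
    exact absurd (Finset.mem_univ _) h

/-- The class function on `G` induced from the section part of `χ`. -/
noncomputable def secInd (p : ℕ) (C : Subgroup G) [Fintype C] (b : Set (IrrCharacter C))
    (x : G) (χ : IrrCharacter G) (g : G) : ℂ :=
  (Nat.card C : ℂ)⁻¹ * ∑ t : G, secExt p C b x χ (t⁻¹ * g * t)

omit [Fact p.Prime] in
theorem secInd_conj (C : Subgroup G) [Fintype C] (b : Set (IrrCharacter C)) (x : G)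
    (χ : IrrCharacter G) (g h : G) :
    secInd p C b x χ (h * g * h⁻¹) = secInd p C b x χ g := by
  unfold secInd
  congr 1
  rw [← Equiv.sum_comp (Equiv.mulLeft h)
    (fun t => secExt p C b x χ (t⁻¹ * (h * g * h⁻¹) * t))]
  apply Finset.sum_congr rfl
  intro s _
  rw [Equiv.coe_mulLeft]
  congr 1
  group

omit [Fact p.Prime] in
/-- On the section of `x` the induced function restricts to the section part. -/
theorem secInd_mul (hp : p.Prime) (x : G) (hx : ∃ k : ℕ, orderOf x = p ^ k) (C : Subgroup G)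
    [Fintype C] (hxC : ∀ c ∈ C, x * c = c * x) (hCx : ∀ g : G, g * x = x * g → g ∈ C)
    (b : Set (IrrCharacter C)) (χ : IrrCharacter G) (c₀ : C) (hc₀ : ¬ p ∣ orderOf c₀) :
    secInd p C b x χ (x * (c₀ : G)) = secPart p C b x χ c₀ := by
  classical
  unfold secInd
  have hterm : ∀ t : G, secExt p C b x χ (t⁻¹ * (x * (c₀ : G)) * t) =
      if t ∈ C then secPart p C b x χ c₀ else 0 := by
    intro t
    split_ifs with ht
    · have h1 : t⁻¹ * (x * (c₀ : G)) * t = x * (((⟨t, ht⟩ : C)⁻¹ * c₀ * (⟨t, ht⟩ : C) : C) : G) := by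
        have := hxC t ht
        push_cast
        calc t⁻¹ * (x * (c₀ : G)) * t = t⁻¹ * (x * t) * (t⁻¹ * (c₀ : G) * t) := by group
          _ = t⁻¹ * (t * x) * (t⁻¹ * (c₀ : G) * t) := by rw [this]
          _ = x * (t⁻¹ * (c₀ : G) * t) := by group
      rw [h1, secExt_mul]
      have h2 := secPart_isClassFunction (p := p) C b x χ c₀ (⟨t, ht⟩ : C)⁻¹
      rw [inv_inv] at h2
      exact h2
    · apply secExt_eq_zero
      intro c hc hcon
      apply ht
      have hc' : ¬ p ∣ orderOf (c : G) := by rwa [Subgroup.orderOf_coe]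
      have hc₀' : ¬ p ∣ orderOf (c₀ : G) := by rwa [Subgroup.orderOf_coe]
      have h3 : t⁻¹ * (x * (c₀ : G)) * t⁻¹⁻¹ = x * (c : G) := by rw [inv_inv]; exact hcon.symm
      have h4 := (conj_eq_of_translate hp hx (hxC c₀ c₀.2) (hxC c c.2) hc₀' hc' h3).1
      rw [inv_inv] at h4
      apply hCx
      calc t * x = t * (t⁻¹ * x * t) := by rw [h4]
        _ = x * t := by group
  rw [Finset.sum_congr rfl (fun t _ => hterm t), ← Finset.sum_filter, Finset.sum_const,
    nsmul_eq_mul]
  have hcard : ((Finset.univ.filter (fun t : G => t ∈ C)).card : ℂ) = (Nat.card C : ℂ) := by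
    rw [Nat.card_eq_fintype_card, ← Fintype.card_subtype]
  rw [hcard]
  have hC0 : (Nat.card C : ℂ) ≠ 0 := by exact_mod_cast (Nat.card_pos (α := C)).ne'
  field_simp

/-- The values of the induced section function are local integers. -/
theorem secInd_memLocalRing (hM : IsPModular p M) (x : G) (hx : ∃ k : ℕ, orderOf x = p ^ k)
    (C : Subgroup G) [Fintype C] (hxC : ∀ c ∈ C, x * c = c * x)
    (hCx : ∀ g : G, g * x = x * g → g ∈ C)
    (b : Set (IrrCharacter C)) (χ : IrrCharacter G) (g : G) :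
    MemLocalRing M (secInd p C b x χ g) := by
  classical
  have hMp := isPrime_of_isPModular hM
  have hp : p.Prime := hM.1
  obtain ⟨k, hk⟩ := hx
  have hxk : x ^ p ^ k = 1 := by rw [← hk]; exact pow_orderOf_eq_one x
  have hxmem : x ∈ C := hCx x rfl
  by_cases h : ∃ t : G, ∃ c : C, ¬ p ∣ orderOf c ∧ x * (c : G) = t⁻¹ * g * t
  · obtain ⟨t, c, hc, hct⟩ := h
    have h1 : secInd p C b x χ g = secInd p C b x χ (x * (c : G)) := by
      rw [hct]
      have := secInd_conj (p := p) C b x χ g t⁻¹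
      rw [inv_inv] at this
      exact this.symm
    rw [h1, secInd_mul hp x ⟨k, hk⟩ C hxC hCx b χ c hc]
    exact secPart_memLocalRing hM x hxk C hxmem hxC b χ c
  · have h1 : secInd p C b x χ g = 0 := by
      unfold secInd
      rw [Finset.sum_eq_zero, mul_zero]
      intro t _
      apply secExt_eq_zero
      intro c hc hcon
      exact h ⟨t, c, hc, hcon⟩
    rw [h1]
    exact memLocalRing_zero hMp

/-- The central element of `ℂ[G]` attached to the section part of `χ`. -/
noncomputable def secElt (p : ℕ) (C : Subgroup G) [Fintype C] (b : Set (IrrCharacter C))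
    (x : G) (χ : IrrCharacter G) : MonoidAlgebra ℂ G :=
  ∑ g : G, MonoidAlgebra.single g (secInd p C b x χ g⁻¹)

omit [Fact p.Prime] in
theorem coeff_secElt (C : Subgroup G) [Fintype C] (b : Set (IrrCharacter C)) (x : G)
    (χ : IrrCharacter G) (g : G) :
    (secElt p C b x χ).coeff g = secInd p C b x χ g⁻¹ := by
  classical
  unfold secElt
  rw [MonoidAlgebra.coeff_sum, Finsupp.finsetSum_apply]
  simp only [MonoidAlgebra.coeff_single, Finsupp.single_apply]
  rw [Finset.sum_ite_eq' Finset.univ g]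
  simp

theorem secElt_mem (hM : IsPModular p M) (x : G) (hx : ∃ k : ℕ, orderOf x = p ^ k)
    (C : Subgroup G) [Fintype C] (hxC : ∀ c ∈ C, x * c = c * x)
    (hCx : ∀ g : G, g * x = x * g → g ∈ C)
    (b : Set (IrrCharacter C)) (χ : IrrCharacter G) :
    secElt p C b x χ ∈ cfSubring G (localRing M (isPrime_of_isPModular hM)) := by
  refine ⟨fun g h => ?_, fun g => ?_⟩
  · rw [coeff_secElt, coeff_secElt]
    have e2 : (h * g * h⁻¹)⁻¹ = h * g⁻¹ * h⁻¹ := by group
    rw [e2, secInd_conj]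
  · rw [coeff_secElt]
    exact secInd_memLocalRing hM x hx C hxC hCx b χ g⁻¹

omit [Fact p.Prime] in
/-- The central character of `ψ` on the section element of `χ`. -/
theorem omega_secElt (C : Subgroup G) [Fintype C] (b : Set (IrrCharacter C)) (x : G)
    (χ ψ : IrrCharacter G) :
    omega (ψ : G → ℂ) (secElt p C b x χ) =
      (Nat.card G : ℂ) * classInner (secPart p C b x χ)
        (fun c : C => (ψ : G → ℂ) (x * (c : G))) / (ψ : G → ℂ) 1 := by
  classical
  unfold omega
  congr 1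
  have hC0 : (Nat.card C : ℂ) ≠ 0 := by exact_mod_cast (Nat.card_pos (α := C)).ne'
  have h1 : ∀ t : G, ∑ g : G, secExt p C b x χ (t⁻¹ * g⁻¹ * t) * (ψ : G → ℂ) g =
      ∑ u : G, secExt p C b x χ u * (ψ : G → ℂ) u⁻¹ := by
    intro t
    rw [← Equiv.sum_comp ((Equiv.inv G).trans (MulAut.conj t).toEquiv)
      (fun g => secExt p C b x χ (t⁻¹ * g⁻¹ * t) * (ψ : G → ℂ) g)]
    apply Finset.sum_congr rfl
    intro u _
    have e1 : ((Equiv.inv G).trans (MulAut.conj t).toEquiv) u = t * u⁻¹ * t⁻¹ := by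
      simp
    rw [e1, irr_isClassFunction ψ]
    congr 2
    group
  have h2 : ∑ g : G, (secElt p C b x χ).coeff g * (ψ : G → ℂ) g =
      (Nat.card C : ℂ)⁻¹ * ∑ t : G, ∑ g : G,
        secExt p C b x χ (t⁻¹ * g⁻¹ * t) * (ψ : G → ℂ) g := by
    rw [Finset.sum_comm, Finset.mul_sum]
    apply Finset.sum_congr rfl
    intro g _
    rw [coeff_secElt]
    unfold secInd
    rw [mul_assoc, Finset.sum_mul]
  rw [h2, Finset.sum_congr rfl (fun t _ => h1 t), Finset.sum_const, Finset.card_univ,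
    nsmul_eq_mul, sum_secExt_mul]
  unfold classInner
  rw [Nat.card_eq_fintype_card (α := G)]
  have h3 : ∑ c : C, secPart p C b x χ c * (ψ : G → ℂ) (x * (c : G))⁻¹ =
      ∑ c : C, secPart p C b x χ c * conj ((ψ : G → ℂ) (x * (c : G))) := by
    apply Finset.sum_congr rfl
    intro c _
    rw [irr_conj]
  rw [h3]
  ring

/-- The contribution number as a central character value of the section element. -/
theorem contrib_eq_omega (hM : IsPModular p M) (x : G) (C : Subgroup G) [Fintype C]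
    (hxC : ∀ c ∈ C, x * c = c * x) (ψ₀ : IrrCharacter C) (χ ψ : IrrCharacter G) :
    contrib p C (blockOf M (ψ₀ : C → ℂ)) x χ ψ =
      (ψ : G → ℂ) 1 / (Nat.card G : ℂ) *
        omega (ψ : G → ℂ) (secElt p C (blockOf M (ψ₀ : C → ℂ)) x χ) := by
  have hG0 : (Nat.card G : ℂ) ≠ 0 := by exact_mod_cast (Nat.card_pos (α := G)).ne'
  have h0 := irr_one_ne_zero ψ
  rw [omega_secElt]
  have h1 : contrib p C (blockOf M (ψ₀ : C → ℂ)) x χ ψ =
      classInner (secPart p C (blockOf M (ψ₀ : C → ℂ)) x χ)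
        (fun c : C => (ψ : G → ℂ) (x * (c : G))) := by
    unfold contrib secPart
    rw [classInner_pReg_right, pRegularPart_blockPart, classInner_sum_left, classInner_sum_left]
    apply Finset.sum_congr rfl
    intro ξ hξ
    rw [mem_irrFinset] at hξ
    rw [classInner_smul_left, classInner_smul_left, classInner_pReg_blockPart hM ψ₀ ξ hξ _
      (isClassFunction_translate x C hxC (irr_isClassFunction ψ))]
  rw [h1]
  field_simp

omit [Fintype G] [Fact p.Prime] in
/-- Height, defect and degree of a character of a block. -/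
theorem blockHeight_add_card {G : Type u} [Group G] [Finite G] (B : Set (IrrCharacter G))
    (ψ : IrrCharacter G) (hψ : ψ ∈ B) :
    blockHeight p B (ψ : G → ℂ) + (Nat.card G).factorization p =
      (charDegree (ψ : G → ℂ)).factorization p + blockDefect p B := by
  unfold blockHeight blockDefect
  have h1 : sInf ((fun ψ : IrrCharacter G => (charDegree (ψ : G → ℂ)).factorization p) '' B)
      ≤ (charDegree (ψ : G → ℂ)).factorization p := Nat.sInf_le ⟨ψ, hψ, rfl⟩
  have h2 : (charDegree (ψ : G → ℂ)).factorization p ≤ (Nat.card G).factorization p := by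
    have hdv := Cfsg.Agent.H81.irr_charDegree_dvd ψ
    have hpos := (Cfsg.Agent.H81.irr_charDegree ψ).2
    exact (Nat.factorization_le_iff_dvd hpos.ne' Nat.card_pos.ne').mpr hdv p
  omega

omit [Fintype G] [Fact p.Prime] in
/-- A nonempty set of irreducible characters has a member of height zero. -/
theorem exists_blockHeight_zero {G : Type u} [Group G] [Finite G] (B : Set (IrrCharacter G))
    (hB : B.Nonempty) : ∃ θ ∈ B, blockHeight p B (θ : G → ℂ) = 0 := by
  have hne : ((fun ξ : IrrCharacter G => (charDegree (ξ : G → ℂ)).factorization p) '' B).Nonempty :=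
    hB.image _
  obtain ⟨θ, hθ, h1⟩ := Nat.sInf_mem hne
  refine ⟨θ, hθ, ?_⟩
  unfold blockHeight
  rw [← h1]
  exact Nat.sub_self _

/-- The normalized contribution number in terms of the section element. -/
theorem pow_mul_contrib_eq (hM : IsPModular p M) (x : G) (C : Subgroup G) [Fintype C]
    (hxC : ∀ c ∈ C, x * c = c * x) (ψ₀ : IrrCharacter C) (B : Set (IrrCharacter G))
    (χ ψ : IrrCharacter G) (hψ : ψ ∈ B) :
    (p : ℂ) ^ blockDefect p B * contrib p C (blockOf M (ψ₀ : C → ℂ)) x χ ψ =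
      (p : ℂ) ^ blockHeight p B (ψ : G → ℂ) *
        ((((p ^ blockDefect p B * charDegree (ψ : G → ℂ) : ℕ) : ℂ) /
            ((p ^ blockHeight p B (ψ : G → ℂ) * Nat.card G : ℕ) : ℂ)) *
          omega (ψ : G → ℂ) (secElt p C (blockOf M (ψ₀ : C → ℂ)) x χ)) := by
  have hp : p.Prime := hM.1
  have hp0 : (p : ℂ) ≠ 0 := by exact_mod_cast hp.ne_zero
  have hG0 : (Nat.card G : ℂ) ≠ 0 := by exact_mod_cast (Nat.card_pos (α := G)).ne'
  rw [contrib_eq_omega hM x C hxC ψ₀ χ ψ, (Cfsg.Agent.H81.irr_charDegree ψ).1]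
  have hph : (p : ℂ) ^ blockHeight p B (ψ : G → ℂ) ≠ 0 := pow_ne_zero _ hp0
  push_cast
  field_simp

/-- The rational factor in `pow_mul_contrib_eq` is a unit of the local ring. -/
theorem unit_factor (hM : IsPModular p M) (B : Set (IrrCharacter G)) (ψ : IrrCharacter G)
    (hψ : ψ ∈ B) :
    MemLocalRing M (((p ^ blockDefect p B * charDegree (ψ : G → ℂ) : ℕ) : ℂ) /
        ((p ^ blockHeight p B (ψ : G → ℂ) * Nat.card G : ℕ) : ℂ)) ∧
      ¬ MemLocalIdeal M (((p ^ blockDefect p B * charDegree (ψ : G → ℂ) : ℕ) : ℂ) /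
        ((p ^ blockHeight p B (ψ : G → ℂ) * Nat.card G : ℕ) : ℂ)) := by
  have hp : p.Prime := hM.1
  have hdeg := (Cfsg.Agent.H81.irr_charDegree ψ).2
  have h1 : (p ^ blockHeight p B (ψ : G → ℂ) * Nat.card G).factorization p =
      (p ^ blockDefect p B * charDegree (ψ : G → ℂ)).factorization p := by
    rw [Nat.factorization_mul (pow_ne_zero _ hp.ne_zero) Nat.card_pos.ne',
      Nat.factorization_mul (pow_ne_zero _ hp.ne_zero) hdeg.ne', Finsupp.add_apply,
      Finsupp.add_apply, Nat.Prime.factorization_pow hp, Nat.Prime.factorization_pow hp,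
      Finsupp.single_eq_same, Finsupp.single_eq_same]
    have := blockHeight_add_card (p := p) B ψ hψ
    omega
  have hne1 : p ^ blockDefect p B * charDegree (ψ : G → ℂ) ≠ 0 :=
    mul_ne_zero (pow_ne_zero _ hp.ne_zero) hdeg.ne'
  have hne2 : p ^ blockHeight p B (ψ : G → ℂ) * Nat.card G ≠ 0 :=
    mul_ne_zero (pow_ne_zero _ hp.ne_zero) Nat.card_pos.ne'
  exact ⟨memLocalRing_natCast_div hM hne2 h1.le, not_memLocalIdeal_natCast_div hM hne1 hne2 h1⟩

/-- Swapping the two characters in a contribution number amounts to inverting the element. -/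
theorem contrib_swap_inv (hM : IsPModular p M) (x : G) {k : ℕ} (hx : x ^ p ^ k = 1)
    (C : Subgroup G) [Fintype C] (hxmem : x ∈ C) (hxC : ∀ c ∈ C, x * c = c * x)
    (ψ₀ : IrrCharacter C) (χ θ : IrrCharacter G) :
    contrib p C (blockOf M (ψ₀ : C → ℂ)) x χ θ = contrib p C (blockOf M (ψ₀ : C → ℂ)) x⁻¹ θ χ := by
  have hp : p.Prime := hM.1
  have hp0 : (p : ℂ) ≠ 0 := by exact_mod_cast hp.ne_zero
  have hN : 0 < p ^ k := pow_pos hp.pos k
  obtain ⟨ζ, hζ⟩ : ∃ ζ : ℂ, IsPrimitiveRoot ζ (p ^ k) :=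
    ⟨_, Complex.isPrimitiveRoot_exp _ hN.ne'⟩
  obtain ⟨n, e, Q, hQsym, he, hdata⟩ :=
    exists_contrib_data hM x (p ^ k) hN hx C hxmem hxC ψ₀ ζ hζ
  have h1 := hdata χ θ 1
  have h2 := hdata θ χ (p ^ k - 1)
  have hxinv : x ^ (p ^ k - 1) = x⁻¹ := by
    apply eq_inv_of_mul_eq_one_left
    rw [← pow_succ, Nat.sub_add_cancel hN, hx]
  rw [pow_one, pow_one] at h1
  rw [hxinv] at h2
  have hpd : (p : ℂ) ^ blockDefect p (blockOf M (ψ₀ : C → ℂ)) ≠ 0 := pow_ne_zero _ hp0
  apply mul_left_cancel₀ hpd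
  rw [h1, h2, Finset.sum_comm]
  apply Finset.sum_congr rfl
  intro ξ' hξ'
  apply Finset.sum_congr rfl
  intro ξ hξ
  rw [mem_irrFinset] at hξ hξ'
  rw [hQsym ξ hξ ξ' hξ']
  have hpow : ζ ^ (e ξ + (p ^ k - e ξ')) = (ζ ^ (p ^ k - 1)) ^ (e ξ' + (p ^ k - e ξ)) := by
    have hζ0 : ζ ^ (e ξ' + (p ^ k - e ξ)) ≠ 0 := pow_ne_zero _ (hζ.ne_zero hN.ne')
    apply mul_right_cancel₀ hζ0
    rw [← pow_add, ← pow_mul, ← pow_add]
    have ha := he ξ
    have hb := he ξ'
    have e1 : e ξ + (p ^ k - e ξ') + (e ξ' + (p ^ k - e ξ)) = p ^ k * 2 := by omega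
    have e2 : (p ^ k - 1) * (e ξ' + (p ^ k - e ξ)) + (e ξ' + (p ^ k - e ξ)) =
        p ^ k * (e ξ' + (p ^ k - e ξ)) := by
      have : p ^ k - 1 + 1 = p ^ k := Nat.sub_add_cancel hN
      calc (p ^ k - 1) * (e ξ' + (p ^ k - e ξ)) + (e ξ' + (p ^ k - e ξ))
          = (p ^ k - 1 + 1) * (e ξ' + (p ^ k - e ξ)) := by ring
        _ = p ^ k * (e ξ' + (p ^ k - e ξ)) := by rw [this]
    rw [e1, e2, pow_mul, pow_mul, hζ.pow_eq_one, one_pow, one_pow]
  rw [hpow]
  ring

/-- **Brauer's (5H)** for a major subsection `(x, b)` (`b` of the same defect `d` as `B = b^G`):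
for `χ, ψ ∈ B`, `p^d m_{χψ} = p^{h(ψ)} ρ` with `ρ` a local integer, which is a unit exactly when
`χ` has height zero. -/
theorem five_h (hM : IsPModular p M) (x : G) (hx : ∃ k : ℕ, orderOf x = p ^ k)
    (C : Subgroup G) [Fintype C] (hxC : ∀ c ∈ C, x * c = c * x)
    (hCx : ∀ g : G, g * x = x * g → g ∈ C)
    (ψ₀ : IrrCharacter C) (B : Set (IrrCharacter G))
    (hind : IsInducedBlock M C (blockOf M (ψ₀ : C → ℂ)) B)
    (hdef : blockDefect p (blockOf M (ψ₀ : C → ℂ)) = blockDefect p B)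
    (χ ψ : IrrCharacter G) (hχ : χ ∈ B) (hψ : ψ ∈ B) :
    ∃ ρ : ℂ, MemLocalRing M ρ ∧
      (p : ℂ) ^ blockDefect p B * contrib p C (blockOf M (ψ₀ : C → ℂ)) x χ ψ =
        (p : ℂ) ^ blockHeight p B (ψ : G → ℂ) * ρ ∧
      (blockHeight p B (χ : G → ℂ) = 0 → ¬ MemLocalIdeal M ρ) ∧
      (blockHeight p B (χ : G → ℂ) ≠ 0 → MemLocalIdeal M ρ) := by
  classical
  have hp : p.Prime := hM.1
  have hMp := isPrime_of_isPModular hM
  have hp0 : (p : ℂ) ≠ 0 := by exact_mod_cast hp.ne_zero
  obtain ⟨k, hk⟩ := hx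
  have hxk : x ^ p ^ k = 1 := by rw [← hk]; exact pow_orderOf_eq_one x
  have hxmem : x ∈ C := hCx x rfl
  obtain ⟨χ₁, hχ₁⟩ := hind.2.1
  -- the central character values
  have hZ := secElt_mem hM x ⟨k, hk⟩ C hxC hCx (blockOf M (ψ₀ : C → ℂ)) χ
  have hWR : ∀ ψ' : IrrCharacter G, MemLocalRing M
      (omega (ψ' : G → ℂ) (secElt p C (blockOf M (ψ₀ : C → ℂ)) x χ)) :=
    fun ψ' => omega_memLocalRing hMp ψ' hZ
  have hsame : ∀ ψ' ∈ B, ∀ ψ'' ∈ B, SameBlock M (ψ' : G → ℂ) (ψ'' : G → ℂ) := by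
    intro ψ' hψ' ψ'' hψ''
    have h1 : blockOf M (ψ' : G → ℂ) = B := by
      rw [hχ₁] at hψ' ⊢
      exact Cfsg.Agent.H80.blockOf_eq_of_mem hMp hψ'
    have h2 : ψ'' ∈ blockOf M (ψ' : G → ℂ) := by rw [h1]; exact hψ''
    exact h2
  have hWd : ∀ ψ' ∈ B, ∀ ψ'' ∈ B, MemLocalIdeal M
      (omega (ψ' : G → ℂ) (secElt p C (blockOf M (ψ₀ : C → ℂ)) x χ) -
        omega (ψ'' : G → ℂ) (secElt p C (blockOf M (ψ₀ : C → ℂ)) x χ)) :=
    fun ψ' hψ' ψ'' hψ'' => omega_sub_omega_memLocalIdeal hMp _ _ (irr_isClassFunction ψ')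
      (irr_isClassFunction ψ'') (hsame ψ' hψ' ψ'' hψ'') hZ
  have hu := unit_factor hM B ψ hψ
  refine ⟨_, memLocalRing_mul hMp hu.1 (hWR ψ),
    pow_mul_contrib_eq hM x C hxC ψ₀ B χ ψ hψ, ?_, ?_⟩
  · -- height zero: unit
    intro h0 hcon
    have hW : MemLocalIdeal M (omega (ψ : G → ℂ) (secElt p C (blockOf M (ψ₀ : C → ℂ)) x χ)) :=
      (memLocalIdeal_or_of_mul hMp hu.1 (hWR ψ) hcon).resolve_left hu.2
    have hWχ : MemLocalIdeal M
        (omega (χ : G → ℂ) (secElt p C (blockOf M (ψ₀ : C → ℂ)) x χ)) := by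
      have := memLocalIdeal_add hMp (hWd χ hχ ψ hψ) hW
      rwa [sub_add_cancel] at this
    have h3 := not_memLocalIdeal_contrib hM x hxk C hxmem hxC ψ₀ B hind χ χ hχ hχ h0 h0
    apply h3
    have hpow : (p : ℂ) ^ blockHeight p B (χ : G → ℂ) = 1 := by rw [h0, pow_zero]
    rw [hdef, pow_mul_contrib_eq hM x C hxC ψ₀ B χ χ hχ, hpow, one_mul]
    exact memLocalIdeal_mul_left hMp (unit_factor hM B χ hχ).1 hWχ
  · -- positive height: in the local ideal
    intro hpos
    obtain ⟨θ, hθ, hθ0⟩ := exists_blockHeight_zero (p := p) B ⟨χ, hχ⟩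
    have hxinv : ∃ k : ℕ, orderOf x⁻¹ = p ^ k := ⟨k, by rw [orderOf_inv, hk]⟩
    have hxC' : ∀ c ∈ C, x⁻¹ * c = c * x⁻¹ := by
      intro c hc
      have := hxC c hc
      calc x⁻¹ * c = x⁻¹ * (c * x) * x⁻¹ := by group
        _ = x⁻¹ * (x * c) * x⁻¹ := by rw [this]
        _ = c * x⁻¹ := by group
    have hCx' : ∀ g : G, g * x⁻¹ = x⁻¹ * g → g ∈ C := by
      intro g hg
      apply hCx
      calc g * x = x * (x⁻¹ * g) * x := by group
        _ = x * (g * x⁻¹) * x := by rw [hg]
        _ = x * g := by group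
    have hZ' := secElt_mem hM x⁻¹ hxinv C hxC' hCx' (blockOf M (ψ₀ : C → ℂ)) θ
    have h1 : (p : ℂ) ^ blockDefect p B * contrib p C (blockOf M (ψ₀ : C → ℂ)) x χ θ =
        (p : ℂ) ^ blockHeight p B (χ : G → ℂ) *
          ((((p ^ blockDefect p B * charDegree (χ : G → ℂ) : ℕ) : ℂ) /
              ((p ^ blockHeight p B (χ : G → ℂ) * Nat.card G : ℕ) : ℂ)) *
            omega (χ : G → ℂ) (secElt p C (blockOf M (ψ₀ : C → ℂ)) x⁻¹ θ)) := by
      rw [contrib_swap_inv hM x hxk C hxmem hxC ψ₀ χ θ]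
      exact pow_mul_contrib_eq hM x⁻¹ C hxC' ψ₀ B θ χ hχ
    have h2 : MemLocalIdeal M
        ((p : ℂ) ^ blockDefect p B * contrib p C (blockOf M (ψ₀ : C → ℂ)) x χ θ) := by
      rw [h1]
      apply memLocalIdeal_mul_right hMp _
        (memLocalRing_mul hMp (unit_factor hM B χ hχ).1 (omega_memLocalRing hMp χ hZ'))
      obtain ⟨j, hj⟩ := Nat.exists_eq_succ_of_ne_zero hpos
      rw [hj, pow_succ]
      exact memLocalIdeal_mul_left hMp (memLocalRing_pow hMp (memLocalRing_natCast hMp p) j)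
        (memLocalIdeal_natCast_self hM)
    have hpow : (p : ℂ) ^ blockHeight p B (θ : G → ℂ) = 1 := by rw [hθ0, pow_zero]
    rw [pow_mul_contrib_eq hM x C hxC ψ₀ B χ θ hθ, hpow, one_mul] at h2
    have hWθ : MemLocalIdeal M
        (omega (θ : G → ℂ) (secElt p C (blockOf M (ψ₀ : C → ℂ)) x χ)) :=
      (memLocalIdeal_or_of_mul hMp (unit_factor hM B θ hθ).1 (hWR θ) h2).resolve_left
        (unit_factor hM B θ hθ).2
    have hWψ : MemLocalIdeal M
        (omega (ψ : G → ℂ) (secElt p C (blockOf M (ψ₀ : C → ℂ)) x χ)) := by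
      have := memLocalIdeal_add hMp (hWd ψ hψ θ hθ) hWθ
      rwa [sub_add_cancel] at this
    exact memLocalIdeal_mul_left hMp hu.1 hWψ

end FiveH

end Cfsg.Agent.H20
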