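import Cfsg.Agent.H10.HO.Defs

set_option autoImplicit false

/-! HO-NONINN for helper10's S2075 project (the Sylow count is the twin of `Cfsg.Agent.H20.FO.norm13`). -/

namespace Cfsg.Agent.H20.Ho

open Subgroup

universe u

theorem eighth_pow_res' (k : ℕ) (hk : ¬ 17 ∣ k) : k ^ 8 % 17 = 1 ∨ k ^ 8 % 17 = 16 := by
  rw [Nat.pow_mod]
  have hlt : k % 17 < 17 := Nat.mod_lt _ (by norm_num)
  have hne : k % 17 ≠ 0 := fun h => hk (Nat.dvd_of_mod_eq_zero h)
  generalize k % 17 = r at hlt hne
  interval_cases r <;> simp_all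

theorem nonInn : Cfsg.Agent.H10.HO.StNonInn.{u} := by
  intro G _ _ x ν m r θ hG hm hx17 hx1 hC hr hθ g hg
  classical
  have hp : Fact (Nat.Prime 17) := ⟨by norm_num⟩
  have hord : orderOf x = 17 := orderOf_eq_prime hx17 hx1
  have hPcard : Nat.card (zpowers x) = 17 := by rw [Nat.card_zpowers, hord]
  have hxP : x ∈ zpowers x := mem_zpowers x
  have hPpow : ∀ y ∈ zpowers x, ∃ i : ℕ, y = x ^ i := by
    intro y hy
    rw [← mem_powers_iff_mem_zpowers] at hy
    obtain ⟨i, rfl⟩ := hy
    exact ⟨i, rfl⟩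
  have hCP : centralizer ((zpowers x : Subgroup G) : Set G) = zpowers x := by
    apply le_antisymm
    · intro g hg
      obtain ⟨i, rfl⟩ := hC g (hg x hxP).symm
      exact pow_mem hxP i
    · intro g hg y hy
      obtain ⟨i, rfl⟩ := hPpow g hg
      obtain ⟨j, rfl⟩ := hPpow y hy
      rw [← pow_add, ← pow_add, add_comm]
  have hm17 : ¬ 17 ∣ m := by omega
  have hPp : IsPGroup 17 (zpowers x) := IsPGroup.of_card (n := 1) (by rw [hPcard]; norm_num)
  obtain ⟨Q, hPQ⟩ := hPp.exists_le_sylow
  have hQcard : Nat.card (Q : Subgroup G) = 17 := by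
    have hm0 : m ≠ 0 := by rintro rfl; exact hm17 (dvd_zero 17)
    rw [Sylow.card_eq_multiplicity, hG, Nat.factorization_mul (by norm_num) hm0]
    simp [Nat.factorization_eq_zero_of_not_dvd hm17,
      (by norm_num : Nat.Prime 17).factorization_self]
  have hQP : zpowers x = (Q : Subgroup G) :=
    Subgroup.eq_of_le_of_card_ge hPQ (by rw [hQcard, hPcard])
  have hn1 : Nat.card (Sylow 17 G) = (normalizer ((Q : Subgroup G) : Set G)).index :=
    Sylow.card_eq_index_normalizer Q
  have hn2 : Nat.card (Sylow 17 G) ≡ 1 [MOD 17] := card_sylow_modEq_one 17 G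
  rw [← hQP] at hn1
  have hCN : centralizer ((zpowers x : Subgroup G) : Set G) ≤
      normalizer ((zpowers x : Subgroup G) : Set G) := centralizer_le_normalizer _
  have hs16 : (centralizer ((zpowers x : Subgroup G) : Set G)).relIndex
      (normalizer ((zpowers x : Subgroup G) : Set G)) ∣ 16 := by
    have key := card_dvd_of_injective _
      (QuotientGroup.kerLift_injective (zpowers x).normalizerMonoidHom)
    rw [normalizerMonoidHom_ker, ← index, ← relIndex] at key
    have hcyc : IsCyclic (zpowers x) := isCyclic_of_prime_card hPcard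
    rw [IsCyclic.card_mulAut, hPcard, Nat.totient_prime (by norm_num : Nat.Prime 17)] at key
    exact key
  have hNcard : Nat.card (centralizer ((zpowers x : Subgroup G) : Set G)) *
      (centralizer ((zpowers x : Subgroup G) : Set G)).relIndex
        (normalizer ((zpowers x : Subgroup G) : Set G)) =
      Nat.card (normalizer ((zpowers x : Subgroup G) : Set G)) := by
    have := Subgroup.card_mul_index ((centralizer ((zpowers x : Subgroup G) : Set G)).subgroupOf
      (normalizer ((zpowers x : Subgroup G) : Set G)))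
    rw [← this]
    congr 1
    exact (Nat.card_congr (Subgroup.subgroupOfEquivOfLe hCN).toEquiv).symm
  rw [hCP] at hs16 hNcard
  rw [hPcard] at hNcard
  have h5 := (normalizer ((zpowers x : Subgroup G) : Set G)).card_mul_index
  rw [hG, ← hn1, ← hNcard] at h5
  have hs8 : (zpowers x).relIndex (normalizer ((zpowers x : Subgroup G) : Set G)) = 8 := by
    have hmem : (zpowers x).relIndex (normalizer ((zpowers x : Subgroup G) : Set G)) ∈
        Nat.divisors 16 := Nat.mem_divisors.2 ⟨hs16, by norm_num⟩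
    have hd : Nat.divisors 16 = {1, 2, 4, 8, 16} := by decide
    rw [hd] at hmem
    simp only [Finset.mem_insert, Finset.mem_singleton] at hmem
    have hn2' : Nat.card (Sylow 17 G) % 17 = 1 := hn2
    have h6 : (zpowers x).relIndex (normalizer ((zpowers x : Subgroup G) : Set G)) *
        Nat.card (Sylow 17 G) = m := by
      have h17 : 17 * ((zpowers x).relIndex (normalizer ((zpowers x : Subgroup G) : Set G)) *
          Nat.card (Sylow 17 G)) = 17 * m := by rw [← h5]; ring
      exact Nat.eq_of_mul_eq_mul_left (by norm_num) h17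
    have h7 : ((zpowers x).relIndex (normalizer ((zpowers x : Subgroup G) : Set G)) *
        Nat.card (Sylow 17 G)) % 17 = 8 := by rw [h6]; exact hm
    rw [Nat.mul_mod, hn2'] at h7
    rcases hmem with h | h | h | h | h <;> rw [h] at h7 <;> omega
  -- `h := ν⁻¹ g` induces the exponent `r`
  obtain ⟨h, hhdef⟩ : ∃ h : G, h = ν⁻¹ * g := ⟨_, rfl⟩
  have hh : h * x * h⁻¹ = x ^ r := by
    have h1 : θ x = g * x * g⁻¹ := by rw [hg, MulAut.conj_apply]
    rw [hθ] at h1
    calc h * x * h⁻¹ = ν⁻¹ * (g * x * g⁻¹) * ν := by rw [hhdef]; group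
      _ = ν⁻¹ * (ν * x ^ r * ν⁻¹) * ν := by rw [h1]
      _ = x ^ r := by group
  have hr17 : ¬ 17 ∣ r := by
    intro hdvd
    have h1 : x ^ r = 1 := by rw [← hord] at hdvd; exact orderOf_dvd_iff_pow_eq_one.1 hdvd
    rw [h1] at hh
    have h2 : x = 1 := by
      calc x = h⁻¹ * (h * x * h⁻¹) * h := by group
        _ = 1 := by rw [hh]; group
    exact hx1 h2
  have hr8 : r ^ 8 % 17 = 16 := by
    rcases eighth_pow_res' r hr17 with h1 | h1
    · exact absurd h1 hr
    · exact h1
  have hpow : ∀ n : ℕ, h ^ n * x * (h ^ n)⁻¹ = x ^ (r ^ n) := by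
    intro n
    induction n with
    | zero => simp
    | succ n ih =>
      calc h ^ (n + 1) * x * (h ^ (n + 1))⁻¹ = h * (h ^ n * x * (h ^ n)⁻¹) * h⁻¹ := by
            rw [pow_succ']; group
        _ = h * x ^ (r ^ n) * h⁻¹ := by rw [ih]
        _ = (h * x * h⁻¹) ^ (r ^ n) := by rw [conj_pow]
        _ = (x ^ r) ^ (r ^ n) := by rw [hh]
        _ = x ^ (r ^ (n + 1)) := by rw [← pow_mul, pow_succ']
  have hinv : h⁻¹ * x * h = x ^ (r ^ 15) := by
    have h1 : h * x ^ (r ^ 15) * h⁻¹ = x := by
      rw [← conj_pow, hh, ← pow_mul]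
      have h2 : r * r ^ 15 = (r ^ 8) ^ 2 := by ring
      rw [h2, ← pow_mod_orderOf, hord, Nat.pow_mod, hr8]
      norm_num
    calc h⁻¹ * x * h = h⁻¹ * (h * x ^ (r ^ 15) * h⁻¹) * h := by rw [h1]
      _ = x ^ (r ^ 15) := by group
  have hhN : h ∈ normalizer ((zpowers x : Subgroup G) : Set G) := by
    rw [mem_normalizer_iff]
    intro n
    constructor
    · intro hn
      obtain ⟨i, rfl⟩ := mem_zpowers_iff.mp hn
      have h1 : h * x ^ i * h⁻¹ = (x ^ r) ^ i := by rw [← hh, conj_zpow]
      rw [h1]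
      exact zpow_mem (pow_mem hxP r) i
    · intro hn
      obtain ⟨i, hi⟩ := mem_zpowers_iff.mp hn
      have h0 : (h⁻¹ * x * h) ^ i = h⁻¹ * x ^ i * h := by
        have h3 := conj_zpow (i := i) (a := h⁻¹) (b := x)
        rwa [inv_inv] at h3
      have h1 : n = (x ^ (r ^ 15)) ^ i := by
        calc n = h⁻¹ * (h * n * h⁻¹) * h := by group
          _ = h⁻¹ * x ^ i * h := by rw [hi]
          _ = (h⁻¹ * x * h) ^ i := h0.symm
          _ = (x ^ (r ^ 15)) ^ i := by rw [hinv]
      rw [h1]
      exact zpow_mem (pow_mem hxP _) i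
  have h8 : h ^ 8 ∈ zpowers x := by
    have h1 := Subgroup.pow_index_mem
      ((zpowers x).subgroupOf (normalizer ((zpowers x : Subgroup G) : Set G)))
      (⟨h, hhN⟩ : ↥(normalizer ((zpowers x : Subgroup G) : Set G)))
    have h2 : ((zpowers x).subgroupOf (normalizer ((zpowers x : Subgroup G) : Set G))).index
        = 8 := hs8
    rw [h2, Subgroup.mem_subgroupOf] at h1
    exact h1
  have h9 : x ^ (r ^ 8) = x := by
    rw [← hpow 8]
    obtain ⟨i, hi⟩ := mem_zpowers_iff.mp h8
    rw [← hi]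
    group
  have hmod : r ^ 8 ≡ 1 [MOD 17] := by
    rw [← hord]
    apply (pow_eq_pow_iff_modEq (x := x)).1
    rw [pow_one]
    exact h9
  have hfin : r ^ 8 % 17 = 1 := hmod
  omega

example : Cfsg.Agent.H10.HO.StNonInn.{u} := nonInn

end Cfsg.Agent.H20.Ho

#print axioms Cfsg.Agent.H20.Ho.nonInn
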