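import Mathlib

/-!
# S3371 (Passman: half-transitive linear `p`-groups) -- shared definitions and piece statements

Setting: `q` prime, `V` a finite nontrivial `ZMod q`-module, `G` a finite `p`-group,
`ρ : G →* (V ≃ₗ[ZMod q] V)`.
-/

set_option autoImplicit false

namespace Cfsg.Agent.H20.Ht

universe u v

section defs

variable {q : ℕ} [Fact q.Prime] {V : Type v} [AddCommGroup V] [Module (ZMod q) V]
  {G : Type u} [Group G]

/-- All orbits on nonzero vectors have the same size (verbatim the hypothesis of S3371). -/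
def Half (ρ : G →* (V ≃ₗ[ZMod q] V)) : Prop :=
  ∀ v w : V, v ≠ 0 → w ≠ 0 →
    Nat.card {u : V | ∃ g : G, ρ g v = u} = Nat.card {u : V | ∃ g : G, ρ g w = u}

/-- The stabilizer of a vector. -/
def stab (ρ : G →* (V ≃ₗ[ZMod q] V)) (v : V) : Subgroup G where
  carrier := {g | ρ g v = v}
  one_mem' := by simp
  mul_mem' := by
    intro a b ha hb
    simp only [Set.mem_setOf_eq] at *
    rw [map_mul, LinearEquiv.mul_apply, hb, ha]
  inv_mem' := by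
    intro a ha
    simp only [Set.mem_setOf_eq] at *
    rw [map_inv]
    calc (ρ a)⁻¹ v = (ρ a)⁻¹ (ρ a v) := by rw [ha]
      _ = ((ρ a)⁻¹ * ρ a) v := rfl
      _ = v := by rw [inv_mul_cancel]; rfl

theorem mem_stab {ρ : G →* (V ≃ₗ[ZMod q] V)} {v : V} {g : G} : g ∈ stab ρ v ↔ ρ g v = v :=
  Iff.rfl

/-- All stabilizers of nonzero vectors have the same order. -/
def EqStab (ρ : G →* (V ≃ₗ[ZMod q] V)) : Prop :=
  ∀ v w : V, v ≠ 0 → w ≠ 0 → Nat.card (stab ρ v) = Nat.card (stab ρ w)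

/-- Semiregular on nonzero vectors. -/
def Semireg (ρ : G →* (V ≃ₗ[ZMod q] V)) : Prop :=
  ∀ v : V, v ≠ 0 → ∀ g : G, ρ g v = v → g = 1

/-- Irreducible. -/
def Irr (ρ : G →* (V ≃ₗ[ZMod q] V)) : Prop :=
  ∀ W : Submodule (ZMod q) V, (∀ g : G, ∀ w ∈ W, ρ g w ∈ W) → W = ⊥ ∨ W = ⊤

/-- A "swap structure": `V = Wp ⊕ Wm`, every element preserves both or swaps them, and some
element is `+1` on `Wp` and `-1` on `Wm`. -/
def SwapStr (ρ : G →* (V ≃ₗ[ZMod q] V)) (Wp Wm : Submodule (ZMod q) V) : Prop :=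
  IsCompl Wp Wm ∧ Wp ≠ ⊥ ∧ Wm ≠ ⊥ ∧
  (∀ g : G, ((∀ w ∈ Wp, ρ g w ∈ Wp) ∧ (∀ w ∈ Wm, ρ g w ∈ Wm)) ∨
            ((∀ w ∈ Wp, ρ g w ∈ Wm) ∧ (∀ w ∈ Wm, ρ g w ∈ Wp))) ∧
  (∃ a : G, (∀ w ∈ Wp, ρ a w = w) ∧ (∀ w ∈ Wm, ρ a w = -w))

/-- Any two nonzero vectors of `Wp`, `Wm` are interchanged by some group element. -/
def SwapAll (ρ : G →* (V ≃ₗ[ZMod q] V)) (Wp Wm : Submodule (ZMod q) V) : Prop :=
  ∀ vp ∈ Wp, vp ≠ 0 → ∀ vm ∈ Wm, vm ≠ 0 → ∃ g : G, ρ g vp = vm ∧ ρ g vm = vp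

/-- The stabilizer of a nonzero vector of `Wp` acts on `Wm` as `±1`. -/
def StabPM (ρ : G →* (V ≃ₗ[ZMod q] V)) (Wp Wm : Submodule (ZMod q) V) : Prop :=
  ∀ bp ∈ Wp, bp ≠ 0 → ∀ h : G, ρ h bp = bp →
    (∀ w ∈ Wm, ρ h w = w) ∨ (∀ w ∈ Wm, ρ h w = -w)

/-- Every nonzero vector is fixed by exactly one involution outside `A`. -/
def UniqInv (ρ : G →* (V ≃ₗ[ZMod q] V)) (A : Subgroup G) : Prop :=
  ∀ v : V, v ≠ 0 → ∃! t : G, t ∉ A ∧ t ^ 2 = 1 ∧ ρ t v = v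

/-- Every involution outside `A` has a fixed space of size `c` with `c ^ 2 = |V|`. -/
def FixSqrt (ρ : G →* (V ≃ₗ[ZMod q] V)) (A : Subgroup G) : Prop :=
  ∀ t : G, t ∉ A → t ^ 2 = 1 →
    ∃ c : ℕ, Nat.card V = c ^ 2 ∧ Nat.card {v : V // ρ t v = v} = c

end defs

section grp

variable {G : Type u} [Group G]

/-- A cyclic subgroup `A` of index 2 with central involution `z ∈ A`, such that every involution
`t` outside `A` is conjugate to `z * t`, and there are exactly `k` involutions outside `A`. -/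
def CycStr (A : Subgroup G) (z : G) (k : ℕ) : Prop :=
  IsCyclic A ∧ A.index = 2 ∧ z ∈ A ∧ z ≠ 1 ∧ z ^ 2 = 1 ∧ (∀ g : G, g * z = z * g) ∧
  (∀ t : G, t ∉ A → t ^ 2 = 1 → ∃ g : G, g * t * g⁻¹ = z * t) ∧
  Nat.card {t : G // t ∉ A ∧ t ^ 2 = 1} = k

end grp

/-! ## Piece statements -/

/-- S3371-STAB: equal orbit sizes give equal stabilizer orders. -/
def StmtStab : Prop :=
  ∀ (q : ℕ) [Fact q.Prime] (V : Type v) [AddCommGroup V] [Module (ZMod q) V] [Finite V]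
    (G : Type u) [Group G] [Finite G] (ρ : G →* (V ≃ₗ[ZMod q] V)),
    Half ρ → EqStab ρ

/-- S3371-PQ: `p = q` forces `G = 1`. -/
def StmtPQ : Prop :=
  ∀ (q : ℕ) [Fact q.Prime] (V : Type v) [AddCommGroup V] [Module (ZMod q) V] [Finite V]
    [Nontrivial V] (G : Type u) [Group G] [Finite G] (ρ : G →* (V ≃ₗ[ZMod q] V)),
    IsPGroup q G → Function.Injective ρ → EqStab ρ → Subsingleton G

/-- S3371-RANK2: a `p`-group with two different subgroups of order `p` contains commuting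
`z, x` of order `p` with `x ∉ ⟨z⟩`. -/
def StmtRank2 : Prop :=
  ∀ (G : Type u) [Group G] [Finite G] (p : ℕ) [Fact p.Prime], IsPGroup p G →
    (¬ ∀ H K : Subgroup G, Nat.card H = p → Nat.card K = p → H = K) →
    ∃ z x : G, z ≠ 1 ∧ z ^ p = 1 ∧ x ^ p = 1 ∧ x ∉ Subgroup.zpowers z ∧ z * x = x * z

/-- S3371-NOR2: a semiregular group in coprime characteristic has no `C_p × C_p`. -/
def StmtNoRank2 : Prop :=
  ∀ (q : ℕ) [Fact q.Prime] (V : Type v) [AddCommGroup V] [Module (ZMod q) V] [Finite V]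
    [Nontrivial V] (G : Type u) [Group G] [Finite G] (ρ : G →* (V ≃ₗ[ZMod q] V))
    (p : ℕ) [Fact p.Prime], p ≠ q → Semireg ρ →
    ∀ z x : G, z ≠ 1 → z ^ p = 1 → x ^ p = 1 → x ∉ Subgroup.zpowers z → z * x = x * z → False

/-- S3371-IRR: not semiregular + equal stabilizers (coprime) gives irreducible. -/
def StmtIrr : Prop :=
  ∀ (q : ℕ) [Fact q.Prime] (V : Type v) [AddCommGroup V] [Module (ZMod q) V] [Finite V]
    [Nontrivial V] (G : Type u) [Group G] [Finite G] (ρ : G →* (V ≃ₗ[ZMod q] V))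
    (p : ℕ) [Fact p.Prime], IsPGroup p G → p ≠ q → Function.Injective ρ → EqStab ρ →
    ¬ Semireg ρ → Irr ρ

/-- S3371-NOTCQ: faithful irreducible cyclic or quaternion `p`-groups are semiregular. -/
def StmtNotCQ : Prop :=
  ∀ (q : ℕ) [Fact q.Prime] (V : Type v) [AddCommGroup V] [Module (ZMod q) V] [Finite V]
    [Nontrivial V] (G : Type u) [Group G] [Finite G] (ρ : G →* (V ≃ₗ[ZMod q] V))
    (p : ℕ) [Fact p.Prime], IsPGroup p G → Function.Injective ρ → Irr ρ → ¬ Semireg ρ →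
    ¬ IsCyclic G ∧ ∀ n : ℕ, ¬ Nonempty (G ≃* QuaternionGroup n)

/-- S3371-ODD: for odd `p` a noncyclic normal abelian subgroup is impossible. -/
def StmtOdd : Prop :=
  ∀ (q : ℕ) [Fact q.Prime] (V : Type v) [AddCommGroup V] [Module (ZMod q) V] [Finite V]
    [Nontrivial V] (G : Type u) [Group G] [Finite G] (ρ : G →* (V ≃ₗ[ZMod q] V))
    (p : ℕ) [Fact p.Prime], IsPGroup p G → p ≠ 2 → p ≠ q → Function.Injective ρ → Irr ρ →
    EqStab ρ → ∀ A : Subgroup G, A.Normal → (∀ a ∈ A, ∀ b ∈ A, a * b = b * a) → ¬ IsCyclic A →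
    False

/-- S3371-SW1: for `p = 2` a noncyclic normal abelian subgroup gives a swap structure. -/
def StmtSwap1 : Prop :=
  ∀ (q : ℕ) [Fact q.Prime] (V : Type v) [AddCommGroup V] [Module (ZMod q) V] [Finite V]
    [Nontrivial V] (G : Type u) [Group G] [Finite G] (ρ : G →* (V ≃ₗ[ZMod q] V)),
    IsPGroup 2 G → q ≠ 2 → Function.Injective ρ → Irr ρ →
    ∀ A : Subgroup G, A.Normal → (∀ a ∈ A, ∀ b ∈ A, a * b = b * a) → ¬ IsCyclic A →
    ∃ Wp Wm : Submodule (ZMod q) V, SwapStr ρ Wp Wm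

/-- S3371-SW2: in a swap structure with equal stabilizers, any two nonzero vectors of `Wp`, `Wm`
are interchanged. -/
def StmtSwap2 : Prop :=
  ∀ (q : ℕ) [Fact q.Prime] (V : Type v) [AddCommGroup V] [Module (ZMod q) V] [Finite V]
    (G : Type u) [Group G] [Finite G] (ρ : G →* (V ≃ₗ[ZMod q] V)),
    q ≠ 2 → EqStab ρ → ∀ Wp Wm : Submodule (ZMod q) V, SwapStr ρ Wp Wm → SwapAll ρ Wp Wm

/-- S3371-SW3: then `|Wp| = |Wm| = 2 ^ u + 1`. -/
def StmtSwap3 : Prop :=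
  ∀ (q : ℕ) [Fact q.Prime] (V : Type v) [AddCommGroup V] [Module (ZMod q) V] [Finite V]
    (G : Type u) [Group G] [Finite G] (ρ : G →* (V ≃ₗ[ZMod q] V)),
    IsPGroup 2 G → ∀ Wp Wm : Submodule (ZMod q) V, SwapStr ρ Wp Wm → SwapAll ρ Wp Wm →
    Nat.card Wp = Nat.card Wm ∧ ∃ u : ℕ, Nat.card Wp = 2 ^ u + 1

/-- S3371-SW4: if `Wp`, `Wm` are lines, the stabilizer of a nonzero vector of `Wp` acts on `Wm`
as `±1`. -/
def StmtSwap4 : Prop :=
  ∀ (q : ℕ) [Fact q.Prime] (V : Type v) [AddCommGroup V] [Module (ZMod q) V] [Finite V]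
    (G : Type u) [Group G] [Finite G] (ρ : G →* (V ≃ₗ[ZMod q] V)),
    q ≠ 2 → Function.Injective ρ → EqStab ρ →
    ∀ Wp Wm : Submodule (ZMod q) V, SwapStr ρ Wp Wm → SwapAll ρ Wp Wm →
    Nat.card Wp = q → Nat.card Wm = q → StabPM ρ Wp Wm

/-- S3371-COORD: the explicit description of `G` in coordinates. -/
def StmtCoord : Prop :=
  ∀ (q : ℕ) [Fact q.Prime] (V : Type v) [AddCommGroup V] [Module (ZMod q) V] [Finite V]
    (G : Type u) [Group G] [Finite G] (ρ : G →* (V ≃ₗ[ZMod q] V)),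
    q ≠ 2 → ∀ Wp Wm : Submodule (ZMod q) V, SwapStr ρ Wp Wm → SwapAll ρ Wp Wm →
    StabPM ρ Wp Wm → Nat.card Wp = q → Nat.card Wm = q →
    ∃ e : V ≃ₗ[ZMod q] (Fin 2 → ZMod q),
      ∀ f : (Fin 2 → ZMod q) ≃ₗ[ZMod q] (Fin 2 → ZMod q),
        (∃ g : G, f = e.symm.trans ((ρ g).trans e)) ↔
        ∃ a s : ZMod q, a ≠ 0 ∧ (s = 1 ∨ s = -1) ∧
          ((∀ v, f v = ![a * v 0, s * a⁻¹ * v 1]) ∨ (∀ v, f v = ![s * a⁻¹ * v 1, a * v 0]))

/-- S3371-UINV: with a `CycStr`, every nonzero vector is fixed by exactly one involution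
outside `A`. -/
def StmtUniqInv : Prop :=
  ∀ (q : ℕ) [Fact q.Prime] (V : Type v) [AddCommGroup V] [Module (ZMod q) V] [Finite V]
    [Nontrivial V] (G : Type u) [Group G] [Finite G] (ρ : G →* (V ≃ₗ[ZMod q] V)),
    IsPGroup 2 G → q ≠ 2 → Function.Injective ρ → Irr ρ → EqStab ρ → ¬ Semireg ρ →
    ∀ (A : Subgroup G) (z : G) (k : ℕ), CycStr A z k → UniqInv ρ A

/-- S3371-FSQ: with a `CycStr`, every involution outside `A` fixes exactly `√|V|` vectors. -/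
def StmtFixSqrt : Prop :=
  ∀ (q : ℕ) [Fact q.Prime] (V : Type v) [AddCommGroup V] [Module (ZMod q) V] [Finite V]
    [Nontrivial V] (G : Type u) [Group G] [Finite G] (ρ : G →* (V ≃ₗ[ZMod q] V)),
    q ≠ 2 → Function.Injective ρ → Irr ρ →
    ∀ (A : Subgroup G) (z : G) (k : ℕ), CycStr A z k → FixSqrt ρ A

/-- S3371-CNT: the count `c + 1 = k`. -/
def StmtCount : Prop :=
  ∀ (q : ℕ) [Fact q.Prime] (V : Type v) [AddCommGroup V] [Module (ZMod q) V] [Finite V]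
    [Nontrivial V] (G : Type u) [Group G] [Finite G] (ρ : G →* (V ≃ₗ[ZMod q] V))
    (A : Subgroup G) (k : ℕ), UniqInv ρ A → FixSqrt ρ A →
    Nat.card {t : G // t ∉ A ∧ t ^ 2 = 1} = k →
    ∃ c : ℕ, Nat.card V = c ^ 2 ∧ c + 1 = k

/-- S3371-DIH: the structure of a dihedral 2-group of order `2 n ≥ 16`. -/
def StmtDih : Prop :=
  ∀ (G : Type u) [Group G] [Finite G] (n : ℕ), IsPGroup 2 G → 8 ≤ n →
    Nonempty (G ≃* DihedralGroup n) → ∃ (A : Subgroup G) (z : G), CycStr A z n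

/-- S3371-QD: the structure of a quasi-dihedral group: `x` of order `2 ^ n`, `y` an involution,
`y x y⁻¹ = x ^ (2 ^ (n - 1) - 1)`, `|G| = 2 ^ (n + 1)`, `n ≥ 3`. -/
def StmtQD : Prop :=
  ∀ (G : Type u) [Group G] [Finite G] (n : ℕ), 3 ≤ n → Nat.card G = 2 ^ (n + 1) →
    ∀ x y : G, orderOf x = 2 ^ n → orderOf y = 2 → y * x * y⁻¹ = x ^ (2 ^ (n - 1) - 1) →
    ∃ (A : Subgroup G) (z : G), CycStr A z (2 ^ (n - 1))

/-- S3371-NT1. -/
def StmtNT1 : Prop :=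
  ∀ q d u : ℕ, q.Prime → q ≠ 2 → q ^ d = 2 ^ u + 1 → d = 1 ∨ (q = 3 ∧ d = 2)

/-- S3371-NT2. -/
def StmtNT2 : Prop :=
  ∀ q d j : ℕ, q.Prime → q ≠ 2 → 2 ≤ j → q ^ d + 1 = 2 ^ j → d = 1

end Cfsg.Agent.H20.Ht
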