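import Mathlib
import Cfsg.Agent.H95.HupDefs

/-!
# Pieces HUP-FROB and HUP-AB of helper95's S3360 project (helper20)
-/

set_option autoImplicit false

universe u w

namespace Cfsg.Agent.H20.Hup

open Cfsg.Agent.H95.Hup

/-- the sum of the powers of a fixed-point-free element `x` with `x ^ r = 1` vanishes -/
theorem sum_pow_eq_zero (q : ℕ) {V : Type u} [AddCommGroup V] [Module (ZMod q) V]
    {G : Type w} [Group G] (ρ : G →* (V ≃ₗ[ZMod q] V)) (r : ℕ) (x : G) (hx : x ^ r = 1)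
    (hfpf : FPF q ρ x) (v : V) : ∑ i ∈ Finset.range r, ρ (x ^ i) v = 0 := by
  apply hfpf
  rw [map_sum]
  have h1 : ∀ i, ρ x (ρ (x ^ i) v) = ρ (x ^ (i + 1)) v := by
    intro i
    rw [pow_succ', map_mul]; rfl
  simp_rw [h1]
  have h2 := Finset.sum_range_succ' (fun i => ρ (x ^ i) v) r
  have h3 := Finset.sum_range_succ (fun i => ρ (x ^ i) v) r
  simp only [hx, pow_zero] at h2 h3
  rw [h3] at h2
  exact (add_right_cancel h2).symm

/-- HUP-FROB -/
theorem frob : FrobStmt.{u, w} := by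
  intro q _ V _ _ _ _ G _ _ ρ hinj r x hr hx hfpf P hcop hnorm hcent
  classical
  have : Fintype P := Fintype.ofFinite P
  have hxr : x ^ r = 1 := hx ▸ pow_orderOf_eq_one x
  -- `x ^ i` normalizes `P`
  have hnormi : ∀ (i : ℕ) (u : G), u ∈ P → x ^ i * u * (x ^ i)⁻¹ ∈ P := by
    intro i
    induction i with
    | zero => intro u hu; simpa using hu
    | succ i ih =>
      intro u hu
      have h1 := hnorm _ (ih u hu)
      have e : x ^ (i + 1) * u * (x ^ (i + 1))⁻¹ = x * (x ^ i * u * (x ^ i)⁻¹) * x⁻¹ := by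
        rw [pow_succ']; group
      rw [e]; exact h1
  -- `C_P(x ^ i) = 1` for `0 < i < r`
  have hcenti : ∀ i, 0 < i → i < r → ∀ u ∈ P, x ^ i * u = u * x ^ i → u = 1 := by
    intro i hi0 hir u hu hc
    have hcop : Nat.Coprime i r := by
      rw [Nat.coprime_comm]
      exact (Nat.Prime.coprime_iff_not_dvd hr).2 (Nat.not_dvd_of_pos_of_lt hi0 hir)
    obtain ⟨m, -, hm⟩ := Nat.exists_mul_mod_eq_one_of_coprime hcop hr.one_lt
    have hxm : (x ^ i) ^ m = x := by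
      rw [← pow_mul, ← pow_mod_orderOf, hx, hm, pow_one]
    have hc' : Commute (x ^ i) u := hc
    have h2 := hc'.pow_left m
    rw [hxm] at h2
    exact hcent u hu h2
  -- the sum `S` over `P`
  let S : V →ₗ[ZMod q] V := ∑ u : P, ((ρ (u : G) : V ≃ₗ[ZMod q] V) : V →ₗ[ZMod q] V)
  have hS : ∀ v, S v = ∑ u : P, ρ (u : G) v := by
    intro v
    simp only [S, LinearMap.sum_apply]
    rfl
  have hconj : ∀ i, 0 < i → i < r → ∀ v,
      ∑ p : P, ρ ((p : G) * x ^ i * (p : G)⁻¹) v = S (ρ (x ^ i) v) := by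
    intro i hi0 hir v
    let φ : P → P := fun p => ⟨(p : G) * (x ^ i * (p : G)⁻¹ * (x ^ i)⁻¹),
      P.mul_mem p.2 (hnormi i _ (P.inv_mem p.2))⟩
    have hφ : Function.Injective φ := by
      intro p p' h
      have h' : (p : G) * (x ^ i * (p : G)⁻¹ * (x ^ i)⁻¹)
          = (p' : G) * (x ^ i * (p' : G)⁻¹ * (x ^ i)⁻¹) := congrArg Subtype.val h
      have h1 : x ^ i * ((p' : G)⁻¹ * p) = ((p' : G)⁻¹ * p) * x ^ i := by
        have e1 : x ^ i * ((p' : G)⁻¹ * p)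
            = (p' : G)⁻¹ * ((p' : G) * (x ^ i * (p' : G)⁻¹ * (x ^ i)⁻¹)) * x ^ i * p := by group
        rw [e1, ← h']; group
      have h2 := hcenti i hi0 hir _ (P.mul_mem (P.inv_mem p'.2) p.2) h1
      ext
      exact (inv_mul_eq_one.1 h2).symm
    have hbij : Function.Bijective φ := Finite.injective_iff_bijective.1 hφ
    rw [hS, ← Function.Bijective.sum_comp hbij (fun u : P => ρ (u : G) (ρ (x ^ i) v))]
    refine Finset.sum_congr rfl fun p _ => ?_
    have e : (p : G) * x ^ i * (p : G)⁻¹ = ((φ p : P) : G) * x ^ i := by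
      simp [φ, mul_assoc]
    rw [e, map_mul]; rfl
  have hSv : ∀ v, S v = (Nat.card P) • v := by
    intro v
    have h0 : ∑ p : P, ρ (p : G) (∑ i ∈ Finset.range r, ρ (x ^ i) (ρ ((p : G)⁻¹) v)) = 0 := by
      apply Finset.sum_eq_zero
      intro p _
      rw [sum_pow_eq_zero q ρ r x hxr hfpf, map_zero]
    have h1 : ∀ p : P, ρ (p : G) (∑ i ∈ Finset.range r, ρ (x ^ i) (ρ ((p : G)⁻¹) v))
        = ∑ i ∈ Finset.range r, ρ ((p : G) * x ^ i * (p : G)⁻¹) v := by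
      intro p
      rw [map_sum]
      refine Finset.sum_congr rfl fun i _ => ?_
      rw [map_mul, map_mul]; rfl
    simp_rw [h1] at h0
    rw [Finset.sum_comm] at h0
    obtain ⟨k, rfl⟩ : ∃ k, r = k + 1 := ⟨r - 1, (Nat.succ_pred_eq_of_pos hr.pos).symm⟩
    rw [Finset.sum_range_succ'] at h0
    have h2 : ∑ i ∈ Finset.range k, ∑ p : P, ρ ((p : G) * x ^ (i + 1) * (p : G)⁻¹) v
        = S (∑ i ∈ Finset.range k, ρ (x ^ (i + 1)) v) := by
      rw [map_sum]
      refine Finset.sum_congr rfl fun i hi => ?_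
      exact hconj (i + 1) (Nat.succ_pos i) (Nat.succ_lt_succ (Finset.mem_range.1 hi)) v
    have h3 : ∑ i ∈ Finset.range k, ρ (x ^ (i + 1)) v = - v := by
      have h4 := sum_pow_eq_zero q ρ (k + 1) x hxr hfpf v
      rw [Finset.sum_range_succ'] at h4
      simp only [pow_zero, map_one] at h4
      exact eq_neg_of_add_eq_zero_left h4
    rw [h2, h3, map_neg] at h0
    have h5 : ∑ p : P, ρ ((p : G) * x ^ 0 * (p : G)⁻¹) v = (Nat.card P) • v := by
      simp [Nat.card_eq_fintype_card]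
    rw [h5] at h0
    exact (neg_add_eq_zero.1 h0)
  have hunit : ∀ w : V, (Nat.card P) • w = 0 → w = 0 := by
    intro w hw
    rw [← Nat.cast_smul_eq_nsmul (ZMod q)] at hw
    rcases smul_eq_zero.1 hw with h | h
    · exfalso
      rw [ZMod.natCast_eq_zero_iff] at h
      have hq : q.Prime := Fact.out
      have h1 : q ∣ Nat.gcd (Nat.card P) q := Nat.dvd_gcd h dvd_rfl
      rw [hcop.gcd_eq_one] at h1
      exact hq.one_lt.ne' (Nat.dvd_one.1 h1)
    · exact h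
  have hfix : ∀ u0 ∈ P, ∀ v, ρ u0 v = v := by
    intro u0 hu0 v
    have h1 : ρ u0 (S v) = S v := by
      rw [hS, map_sum]
      rw [← Equiv.sum_comp (Equiv.mulLeft (⟨u0, hu0⟩ : P)) (fun u : P => ρ (u : G) v)]
      refine Finset.sum_congr rfl fun p _ => ?_
      simp
    rw [hSv v, map_nsmul] at h1
    have h2 : (Nat.card P) • (ρ u0 v - v) = 0 := by
      rw [smul_sub, h1, sub_self]
    exact sub_eq_zero.1 (hunit _ h2)
  rw [Subgroup.eq_bot_iff_forall]
  intro u0 hu0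
  apply hinj
  rw [map_one]
  ext v
  exact hfix u0 hu0 v

/-- HUP-AB -/
theorem ab : AbStmt.{u, w} := by
  intro q _ V _ _ _ _ G _ _ ρ hinj r s x hr hs hsr hsq hx hfpf A hA hcomm hnorm u0 hu0
  have hxr : x ^ r = 1 := hx ▸ pow_orderOf_eq_one x
  let B : Subgroup G :=
    { carrier := {b | ∃ u ∈ A, b = x * u * x⁻¹ * u⁻¹}
      mul_mem' := by
        rintro _ _ ⟨u, hu, rfl⟩ ⟨u', hu', rfl⟩
        refine ⟨u * u', A.mul_mem hu hu', ?_⟩
        have h1 := hcomm _ (A.inv_mem hu) _ (hnorm u' hu')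
        have h2 := hcomm _ hu _ hu'
        calc x * u * x⁻¹ * u⁻¹ * (x * u' * x⁻¹ * u'⁻¹)
            = x * u * x⁻¹ * (u⁻¹ * (x * u' * x⁻¹)) * u'⁻¹ := by group
          _ = x * u * x⁻¹ * ((x * u' * x⁻¹) * u⁻¹) * u'⁻¹ := by rw [h1]
          _ = x * (u * u') * x⁻¹ * (u' * u)⁻¹ := by group
          _ = x * (u * u') * x⁻¹ * (u * u')⁻¹ := by rw [h2]
      one_mem' := ⟨1, A.one_mem, by group⟩
      inv_mem' := by
        rintro _ ⟨u, hu, rfl⟩
        refine ⟨u⁻¹, A.inv_mem hu, ?_⟩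
        have h1 := hcomm _ hu _ (hnorm _ (A.inv_mem hu))
        calc (x * u * x⁻¹ * u⁻¹)⁻¹ = u * (x * u⁻¹ * x⁻¹) := by group
          _ = (x * u⁻¹ * x⁻¹) * u := h1
          _ = x * u⁻¹ * x⁻¹ * (u⁻¹)⁻¹ := by group }
  have hBA : B ≤ A := by
    rintro _ ⟨u, hu, rfl⟩
    exact A.mul_mem (hnorm u hu) (A.inv_mem hu)
  have hB : B = ⊥ := by
    apply frob q ρ hinj r x hr hx hfpf B
    · have hBp : IsPGroup s B := hA.to_le hBA
      have : Fact s.Prime := ⟨hs⟩
      obtain ⟨k, hk⟩ := IsPGroup.iff_card.1 hBp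
      rw [hk]
      exact Nat.Coprime.pow_left k ((Nat.coprime_primes hs (Fact.out)).2 hsq)
    · rintro _ ⟨u, hu, rfl⟩
      exact ⟨x * u * x⁻¹, hnorm u hu, by group⟩
    · rintro _ ⟨u, hu, rfl⟩ hc
      have hpow : ∀ i : ℕ, x ^ i * u * (x ^ i)⁻¹ = (x * u * x⁻¹ * u⁻¹) ^ i * u := by
        intro i
        induction i with
        | zero => simp
        | succ i ih =>
          have hc' : Commute x ((x * u * x⁻¹ * u⁻¹) ^ i) :=
            (show Commute x (x * u * x⁻¹ * u⁻¹) from hc).pow_right i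
          calc x ^ (i + 1) * u * (x ^ (i + 1))⁻¹
              = x * (x ^ i * u * (x ^ i)⁻¹) * x⁻¹ := by rw [pow_succ']; group
            _ = x * ((x * u * x⁻¹ * u⁻¹) ^ i * u) * x⁻¹ := by rw [ih]
            _ = (x * (x * u * x⁻¹ * u⁻¹) ^ i) * u * x⁻¹ := by group
            _ = ((x * u * x⁻¹ * u⁻¹) ^ i * x) * u * x⁻¹ := by rw [hc'.eq]
            _ = (x * u * x⁻¹ * u⁻¹) ^ i * (x * u * x⁻¹ * u⁻¹) * u := by group
            _ = (x * u * x⁻¹ * u⁻¹) ^ (i + 1) * u := by rw [← pow_succ]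
      have hbr : (x * u * x⁻¹ * u⁻¹) ^ r = 1 := by
        have h1 : (x * u * x⁻¹ * u⁻¹) ^ r * u = 1 * u := by
          rw [← hpow r, hxr]; group
        exact mul_right_cancel h1
      have hbA : x * u * x⁻¹ * u⁻¹ ∈ A := A.mul_mem (hnorm u hu) (A.inv_mem hu)
      obtain ⟨k, hk⟩ := hA ⟨_, hbA⟩
      have hk' : (x * u * x⁻¹ * u⁻¹) ^ s ^ k = 1 := by
        have := congrArg Subtype.val hk
        simpa using this
      have h1 : orderOf (x * u * x⁻¹ * u⁻¹) ∣ r := orderOf_dvd_of_pow_eq_one hbr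
      have h2 : orderOf (x * u * x⁻¹ * u⁻¹) ∣ s ^ k := orderOf_dvd_of_pow_eq_one hk'
      have h3 : orderOf (x * u * x⁻¹ * u⁻¹) ∣ Nat.gcd r (s ^ k) := Nat.dvd_gcd h1 h2
      have h4 : Nat.Coprime r (s ^ k) :=
        Nat.Coprime.pow_right k ((Nat.coprime_primes hr hs).2 (Ne.symm hsr))
      rw [h4.gcd_eq_one, Nat.dvd_one] at h3
      exact orderOf_eq_one_iff.1 h3
  have hmem : x * u0 * x⁻¹ * u0⁻¹ ∈ B := ⟨u0, hu0, rfl⟩
  rw [hB, Subgroup.mem_bot] at hmem
  calc x * u0 = (x * u0 * x⁻¹ * u0⁻¹) * u0 * x := by group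
    _ = u0 * x := by rw [hmem, one_mul]

example : Cfsg.Agent.H95.Hup.FrobStmt.{u, w} := frob
example : Cfsg.Agent.H95.Hup.AbStmt.{u, w} := ab

end Cfsg.Agent.H20.Hup
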