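import Mathlib
import Cfsg.Agent.Helper55.UqBase
import Cfsg.Agent.S2943

/-!
# S2952 from S2951 (reduction (R1) of helper26's post)

`K ⊴ ⟨K, T⟩` for `T ∈ 𝒯*(M)` and `K ∈ 𝒦_{G∖M}(T)`, GIVEN the statement S2951 (as a hypothesis):
take a Sylow 2-subgroup `S₁ ≥ T` with `N_G(J(S₁)) ≤ M` and a maximal 2-local `L ≥ ⟨K, T⟩`
(`L ∈ ℒ(T)`, helper55); in each of the three cases of S2951 one has `Z₀ = Ω₁Z(J(T)) ≤ Z(T)`, so
`Z(T) ∩ W_K ≥ Z₀ ∩ W_K ≠ 1`, and S2943 gives `T ≤ N_G(K)`.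
-/

set_option autoImplicit false
open Cfsg

namespace Cfsg.Agent.H20.Jt

open Cfsg.Agent.Helper55 Cfsg.Agent.Helper55.ThJ Cfsg.Agent.Helper55.J48

universe u

/-- The statement S2951 (verbatim), at universe `u`. -/
def St2951 : Prop := ∀ {G : Type u} [Group G] [Finite G], Cfsg.IsCharacteristicTwoType G →
    (∀ N : Subgroup G, Cfsg.IsTwoLocal N → Group.IsSolvable ↥N) →
    (∀ S : Sylow 2 G, Subgroup.centralizer (Cfsg.omegaCenterOf (S : Subgroup G) : Set G) ≤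
      Subgroup.normalizer ((S : Subgroup G) : Set G)) → Cfsg.pCore 2 G = ⊥ →
    ∀ (S : Sylow 2 G) (M : Subgroup G), Cfsg.IsTwoLocal M →
    Subgroup.normalizer (Cfsg.thompsonSubgroupOf 2 (S : Subgroup G) : Set G) ≤ M →
    ∀ (T : Subgroup G), T ∈ Cfsg.maxStraddlingTwoSubgroups M →
    T ≤ (S : Subgroup G) → ∀ (K : Subgroup G), K ∈ Cfsg.jComponentsOutside M T →
    ∀ (L : Subgroup G), Cfsg.IsMaximalTwoLocal L → K ⊔ Cfsg.thompsonSubgroupOf 2 T ≤ L →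
    ∀ (Z Z₀ : Subgroup G), Z = Cfsg.omegaCenterOf (S : Subgroup G) →
    Z₀ = Cfsg.omegaCenterOf (Cfsg.thompsonSubgroupOf 2 T) →
    Z₀ ⊓ Cfsg.wOf K ≠ ⊥ ∧
      ((Z = Z₀ ∧ Nat.card ↥Z₀ = 2) ∨ (Z = Z₀ ∧ Nat.card ↥Z₀ = 4 ∧ T = (S : Subgroup G)) ∨
        (Cfsg.omegaCenterOf T = Z₀ ∧ Nat.card ↥Z₀ = 4 ∧
          (L ⊓ Subgroup.centralizer (Z₀ : Set G)).relIndex
            (Subgroup.normalizer (Z₀ : Set G)) = 2))

/-- `Ω₁(Z(X)) ≤ Z(X)`. -/
theorem omegaCenterOf_le {G : Type u} [Group G] (X : Subgroup G) :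
    omegaCenterOf X ≤ X ⊓ Subgroup.centralizer (X : Set G) := by
  unfold omegaCenterOf omegaOne
  rw [Subgroup.closure_le]
  intro x hx
  exact hx.1

/-- S2952 from S2951: only the first conjunct of S2951 and the inclusion `Z₀ ≤ Z(T)` that each
of its three cases gives are used. -/
theorem s2952_of (h51 : St2951.{u}) {G : Type u} [Group G] [Finite G]
    (hL : Cfsg.IsCharacteristicTwoType G)
    (hN : ∀ N : Subgroup G, Cfsg.IsTwoLocal N → Group.IsSolvable ↥N)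
    (hZ : ∀ S : Sylow 2 G, Subgroup.centralizer (Cfsg.omegaCenterOf (S : Subgroup G) : Set G) ≤
      Subgroup.normalizer ((S : Subgroup G) : Set G)) (hO : Cfsg.pCore 2 G = ⊥)
    (S : Sylow 2 G) (M : Subgroup G) (hM : Cfsg.IsTwoLocal M)
    (hMJ : Subgroup.normalizer (Cfsg.thompsonSubgroupOf 2 (S : Subgroup G) : Set G) ≤ M)
    (T : Subgroup G) (hT : T ∈ Cfsg.maxStraddlingTwoSubgroups M)
    (K : Subgroup G) (hK : K ∈ Cfsg.jComponentsOutside M T) :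
    (K.subgroupOf (K ⊔ T)).Normal := by
  have hT2 : IsPGroup 2 ↥T := hT.1.1
  have hT1 : T ≠ ⊥ := hT.1.2.1
  have hTM : T ≤ M := hT.1.2.2.1
  -- a Sylow 2-subgroup `S₁ ≥ T` with `N_G(J(S₁)) ≤ M`
  have hSM : (S : Subgroup G) ≤ M :=
    (Subgroup.le_normalizer.trans (normalizer_le (S : Subgroup G))).trans hMJ
  obtain ⟨m, hmM, hTS'⟩ := exists_sylow_conj S M hSM T hT2 hTM
  have hMJ' : Subgroup.normalizer
      (thompsonSubgroupOf 2 ((m • S : Sylow 2 G) : Subgroup G) : Set G) ≤ M := by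
    have h1 := Cfsg.Agent.H14.thompsonSubgroupOf_conj 2 m (S : Subgroup G)
    have h2 : ((m • S : Sylow 2 G) : Subgroup G) =
        (S : Subgroup G).map (MulAut.conj m).toMonoidHom := by
      rw [Sylow.coe_subgroup_smul]
      rfl
    rw [h2, ← h1]
    exact normalizer_conj_le _ m hmM hMJ
  -- the maximal 2-local over `⟨K, T⟩`
  obtain ⟨L, hLmax, hXL, -, hov, -⟩ :=
    Cfsg.Agent.Helper55.Uq.exists_max hL hN hZ S M hMJ T hT K hK
  have hKL : K ⊔ thompsonSubgroupOf 2 T ≤ L := (sup_le_sup_left (J_le T) K).trans hXL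
  obtain ⟨hne, htri⟩ := h51 hL hN hZ hO (m • S) M hM hMJ' T hT hTS' K hK L hLmax hKL _ _ rfl rfl
  -- `Z₀ ≤ T ⊓ C(T)`
  have hZ0T : omegaCenterOf (thompsonSubgroupOf 2 T) ≤ T :=
    ((omegaCenterOf_le _).trans inf_le_left).trans (J_le T)
  have hZ0C : omegaCenterOf (thompsonSubgroupOf 2 T) ≤ Subgroup.centralizer (T : Set G) := by
    have hS1 : omegaCenterOf ((m • S : Sylow 2 G) : Subgroup G) ≤
        Subgroup.centralizer (T : Set G) :=
      ((omegaCenterOf_le _).trans inf_le_right).trans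
        (Subgroup.centralizer_le (SetLike.coe_subset_coe.mpr hTS'))
    rcases htri with ⟨h, -⟩ | ⟨h, -, -⟩ | ⟨h, -, -⟩
    · rw [← h]
      exact hS1
    · rw [← h]
      exact hS1
    · rw [← h]
      exact (omegaCenterOf_le T).trans inf_le_right
  have hZW : T ⊓ Subgroup.centralizer (T : Set G) ⊓ wOf K ≠ ⊥ := by
    intro hb
    apply hne
    rw [eq_bot_iff, ← hb]
    exact inf_le_inf_right _ (le_inf hZ0T hZ0C)
  have hTK : T ≤ Subgroup.normalizer (K : Set G) :=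
    Cfsg.Agent.S2943.result hL hN hZ T hT2 hT1 L hov K hK.1.1 (le_sup_left.trans hXL) hZW
  exact (Subgroup.normal_subgroupOf_iff_le_normalizer le_sup_left).mpr
    (sup_le Subgroup.le_normalizer hTK)

end Cfsg.Agent.H20.Jt

#print axioms Cfsg.Agent.H20.Jt.s2952_of
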