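import Mathlib
import Cfsg.Agent.H82.JxDefs

/-!
# Piece JX-FUN (for helper82)

An abelian 2-group `B` acting by conjugation on a nontrivial elementary abelian 2-group `U`
with at most 2 fixed points satisfies `2 |B : C_B(U)| ≤ |U|`.
-/

set_option autoImplicit false

universe u

namespace Cfsg.Agent.H20.Jx

open Cfsg.Agent.H82.Jx
open scoped commutatorElement

/-- a 2-group `B` normalizing a nontrivial 2-group `U`: `⁅U, B⁆ ≠ U`. -/
theorem comm_ne_self {G : Type u} [Group G] [Finite G] (B U : Subgroup G)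
    (hB2 : IsPGroup 2 ↥B) (hU2 : IsPGroup 2 ↥U)
    (hBU : B ≤ Subgroup.normalizer (U : Set G)) (hU : U ≠ ⊥) : ⁅U, B⁆ ≠ U := by
  intro heq
  have hP : IsPGroup 2 ↥(U ⊔ B) := IsPGroup.to_sup_of_normal_left' hU2 hB2 hBU
  have : Fact (Nat.Prime 2) := ⟨Nat.prime_two⟩
  have hnil : Group.IsNilpotent ↥(U ⊔ B) := hP.isNilpotent
  obtain ⟨n, hn⟩ := (Subgroup.isNilpotent_iff_lowerCentralSeries (U ⊔ B)).mp hnil
  have key : ∀ m, U ≤ (U ⊔ B).lowerCentralSeries m := by
    intro m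
    induction m with
    | zero => exact le_sup_left
    | succ m ih =>
      rw [Subgroup.lowerCentralSeries_succ]
      calc U = ⁅U, B⁆ := heq.symm
        _ ≤ ⁅(U ⊔ B).lowerCentralSeries m, U ⊔ B⁆ := Subgroup.commutator_mono ih le_sup_right
  have h := key n
  rw [hn] at h
  exact hU (le_bot_iff.mp h)

theorem fun_aux {G : Type u} [Group G] [Finite G] (B : Subgroup G)
    (hBc : ∀ b ∈ B, ∀ c ∈ B, b * c = c * b) (hB2 : IsPGroup 2 ↥B) :
    ∀ n : ℕ, ∀ U : Subgroup G, Nat.card ↥U = n →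
      (∀ u ∈ U, ∀ v ∈ U, u * v = v * u) → (∀ u ∈ U, u * u = 1) →
      (∀ b ∈ B, ∀ u ∈ U, b * u * b⁻¹ ∈ U) →
      Nat.card ↥(U ⊓ Subgroup.centralizer (B : Set G)) ≤ 2 → U ≠ ⊥ →
      2 * (B ⊓ Subgroup.centralizer (U : Set G)).relIndex B ≤ Nat.card ↥U := by
  intro n
  induction n using Nat.strong_induction_on with
  | _ n ih =>
  intro U hn hUc hU2 hBU hF hU
  have hUp : IsPGroup 2 ↥U := by
    intro g
    refine ⟨1, ?_⟩
    apply Subtype.ext
    have h := hU2 g.1 g.2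
    rw [pow_one, pow_two]
    exact h
  have hBN : B ≤ Subgroup.normalizer (U : Set G) := by
    intro b hb
    rw [Subgroup.mem_normalizer_iff]
    intro h
    constructor
    · exact hBU b hb h
    · intro hh
      have h1 := hBU b⁻¹ (B.inv_mem hb) _ hh
      have e : b⁻¹ * (b * h * b⁻¹) * b⁻¹⁻¹ = h := by group
      rwa [e] at h1
  have hDU : ⁅U, B⁆ ≤ U := by
    rw [Subgroup.commutator_le]
    intro u hu b hb
    rw [commutatorElement_def]
    have h1 := hBU b hb u⁻¹ (U.inv_mem hu)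
    have e : u * b * u⁻¹ * b⁻¹ = u * (b * u⁻¹ * b⁻¹) := by group
    rw [e]
    exact U.mul_mem hu h1
  have hDlt : ⁅U, B⁆ < U := lt_of_le_of_ne hDU (comm_ne_self B U hB2 hUp hBN hU)
  have hcm : ∀ b ∈ B, ∀ u ∈ U, b * u * b⁻¹ * u⁻¹ ∈ ⁅U, B⁆ := by
    intro b hb u hu
    have h1 : ⁅b, u⁆ ∈ ⁅B, U⁆ := Subgroup.commutator_mem_commutator hb hu
    rw [Subgroup.commutator_comm] at h1
    rwa [commutatorElement_def] at h1
  by_cases hD : ⁅U, B⁆ = ⊥
  · -- `B` centralizes `U`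
    have hBC : B ≤ Subgroup.centralizer (U : Set G) := by
      intro b hb
      rw [Subgroup.mem_centralizer_iff]
      intro h hh
      have h1 := hcm b hb h hh
      rw [hD, Subgroup.mem_bot] at h1
      calc h * b = (b * h * b⁻¹ * h⁻¹)⁻¹ * (b * h) := by group
        _ = b * h := by rw [h1, inv_one, one_mul]
    rw [inf_eq_left.mpr hBC, Subgroup.relIndex_self]
    have := (Subgroup.one_lt_card_iff_ne_bot U).mpr hU
    omega
  · -- a maximal subgroup `U'` with `⁅U, B⁆ ≤ U' < U`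
    obtain ⟨U', hU'max⟩ := Set.Finite.exists_maximal
      (s := {V : Subgroup G | ⁅U, B⁆ ≤ V ∧ V < U}) (Set.toFinite _) ⟨⁅U, B⁆, le_refl _, hDlt⟩
    have hDU' : ⁅U, B⁆ ≤ U' := hU'max.1.1
    have hU'lt : U' < U := hU'max.1.2
    have hU'ne : U' ≠ ⊥ := by
      intro h
      rw [h] at hDU'
      exact hD (le_bot_iff.mp hDU')
    have hcard_le : Nat.card ↥U' ≤ Nat.card ↥U := Subgroup.card_le_of_le hU'lt.le
    have hcard_ne : Nat.card ↥U' ≠ Nat.card ↥U := by
      intro h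
      have := Subgroup.eq_of_le_of_card_ge hU'lt.le (le_of_eq h.symm)
      exact hU'lt.ne this
    have hcard_dvd : Nat.card ↥U' ∣ Nat.card ↥U := Subgroup.card_dvd_of_le hU'lt.le
    have hcard_pos : 0 < Nat.card ↥U' := Nat.card_pos
    have hcard2 : 2 * Nat.card ↥U' ≤ Nat.card ↥U := by
      obtain ⟨k, hk⟩ := hcard_dvd
      have hk0 : k ≠ 0 := by
        rintro rfl
        rw [mul_zero] at hk
        omega
      have hk1 : k ≠ 1 := by
        rintro rfl
        rw [mul_one] at hk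
        exact hcard_ne hk.symm
      have hk2 : 2 ≤ k := by omega
      calc 2 * Nat.card ↥U' = Nat.card ↥U' * 2 := by ring
        _ ≤ Nat.card ↥U' * k := Nat.mul_le_mul_left _ hk2
        _ = Nat.card ↥U := hk.symm
    -- `U'` is `B`-invariant
    have hBU' : ∀ b ∈ B, ∀ u ∈ U', b * u * b⁻¹ ∈ U' := by
      intro b hb u hu
      have h1 := hDU' (hcm b hb u (hU'lt.le hu))
      have e : b * u * b⁻¹ = (b * u * b⁻¹ * u⁻¹) * u := by group
      rw [e]
      exact U'.mul_mem h1 hu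
    have hF' : Nat.card ↥(U' ⊓ Subgroup.centralizer (B : Set G)) ≤ 2 :=
      le_trans (Subgroup.card_le_of_le (inf_le_inf_right _ hU'lt.le)) hF
    have IH := ih (Nat.card ↥U') (by omega) U' rfl
      (fun u hu v hv => hUc u (hU'lt.le hu) v (hU'lt.le hv))
      (fun u hu => hU2 u (hU'lt.le hu)) hBU' hF' hU'ne
    -- an element outside `U'`
    obtain ⟨u0, hu0, hu0'⟩ := SetLike.exists_of_lt hU'lt
    have hsup : U' ⊔ Subgroup.zpowers u0 = U := by
      have hle : U' ⊔ Subgroup.zpowers u0 ≤ U := sup_le hU'lt.le (Subgroup.zpowers_le.mpr hu0)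
      by_contra hne
      have hlt : U' ⊔ Subgroup.zpowers u0 < U := lt_of_le_of_ne hle hne
      have h1 : U' ⊔ Subgroup.zpowers u0 ≤ U' :=
        hU'max.2 ⟨le_trans hDU' le_sup_left, hlt⟩ le_sup_left
      exact hu0' (h1 (Subgroup.mem_sup_right (Subgroup.mem_zpowers u0)))
    have hCB' : B ⊓ Subgroup.centralizer (U : Set G) ≤ B ⊓ Subgroup.centralizer (U' : Set G) :=
      inf_le_inf_left B (Subgroup.centralizer_le (SetLike.coe_subset_coe.mpr hU'lt.le))
    have hrel := Subgroup.relIndex_mul_relIndex (B ⊓ Subgroup.centralizer (U : Set G))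
      (B ⊓ Subgroup.centralizer (U' : Set G)) B hCB' inf_le_left
    -- the commutator with `u0` maps `C_B(U')` to the fixed points
    have hg : ∀ b ∈ B ⊓ Subgroup.centralizer (U' : Set G),
        b * u0 * b⁻¹ * u0⁻¹ ∈ U ⊓ Subgroup.centralizer (B : Set G) := by
      intro b hb
      obtain ⟨hbB, hbc⟩ := Subgroup.mem_inf.mp hb
      rw [Subgroup.mem_centralizer_iff] at hbc
      have hx : b * u0 * b⁻¹ * u0⁻¹ ∈ U := U.mul_mem (hBU b hbB u0 hu0) (U.inv_mem hu0)
      refine Subgroup.mem_inf.mpr ⟨hx, ?_⟩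
      rw [Subgroup.mem_centralizer_iff]
      intro c hc
      obtain ⟨d, hd⟩ : ∃ d : G, d = c * u0 * c⁻¹ * u0⁻¹ := ⟨_, rfl⟩
      have hdU' : d ∈ U' := hd ▸ hDU' (hcm c hc u0 hu0)
      have hcb : c * b = b * c := hBc c hc b hbB
      have hdb : d * b = b * d := hbc d hdU'
      obtain ⟨x, hxdef⟩ : ∃ x : G, x = b * u0 * b⁻¹ * u0⁻¹ := ⟨_, rfl⟩
      rw [← hxdef] at hx ⊢
      have hdx : d * x = x * d := hUc d (hU'lt.le hdU') x hx
      have e1 : c * u0 * c⁻¹ = d * u0 := by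
        rw [hd]
        group
      have e2 : c * b * c⁻¹ = b := by
        rw [hcb]
        group
      have e3 : c * x * c⁻¹ = x := by
        calc c * x * c⁻¹
            = (c * b * c⁻¹) * (c * u0 * c⁻¹) * (c * b * c⁻¹)⁻¹ * (c * u0 * c⁻¹)⁻¹ := by
              rw [hxdef]
              group
          _ = b * (d * u0) * b⁻¹ * (d * u0)⁻¹ := by rw [e2, e1]
          _ = (b * d) * u0 * b⁻¹ * u0⁻¹ * d⁻¹ := by group
          _ = (d * b) * u0 * b⁻¹ * u0⁻¹ * d⁻¹ := by rw [hdb]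
          _ = d * (b * u0 * b⁻¹ * u0⁻¹) * d⁻¹ := by group
          _ = d * x * d⁻¹ := by rw [hxdef]
          _ = x * d * d⁻¹ := by rw [hdx]
          _ = x := by group
      calc c * x = (c * x * c⁻¹) * c := by group
        _ = x * c := by rw [e3]
    have hinj : ∀ b₁ ∈ B ⊓ Subgroup.centralizer (U' : Set G),
        ∀ b₂ ∈ B ⊓ Subgroup.centralizer (U' : Set G),
        b₁ * u0 * b₁⁻¹ * u0⁻¹ = b₂ * u0 * b₂⁻¹ * u0⁻¹ →
        b₁⁻¹ * b₂ ∈ B ⊓ Subgroup.centralizer (U : Set G) := by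
      intro b₁ hb₁ b₂ hb₂ heq
      have hb : b₁⁻¹ * b₂ ∈ B ⊓ Subgroup.centralizer (U' : Set G) :=
        Subgroup.mul_mem _ (Subgroup.inv_mem _ hb₁) hb₂
      obtain ⟨hbB, hbc⟩ := Subgroup.mem_inf.mp hb
      rw [Subgroup.mem_centralizer_iff] at hbc
      refine Subgroup.mem_inf.mpr ⟨hbB, ?_⟩
      have hu0c : u0 * (b₁⁻¹ * b₂) = (b₁⁻¹ * b₂) * u0 := by
        calc u0 * (b₁⁻¹ * b₂) = b₁⁻¹ * (b₁ * u0 * b₁⁻¹ * u0⁻¹) * u0 * b₂ := by group
          _ = b₁⁻¹ * (b₂ * u0 * b₂⁻¹ * u0⁻¹) * u0 * b₂ := by rw [heq]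
          _ = (b₁⁻¹ * b₂) * u0 := by group
      have hUZ : U ≤ Subgroup.centralizer ({b₁⁻¹ * b₂} : Set G) := by
        rw [← hsup]
        refine sup_le ?_ (Subgroup.zpowers_le.mpr ?_)
        · intro h hh
          rw [Subgroup.mem_centralizer_iff]
          intro k hk
          rw [Set.mem_singleton_iff] at hk
          rw [hk]
          exact (hbc h hh).symm
        · rw [Subgroup.mem_centralizer_iff]
          intro k hk
          rw [Set.mem_singleton_iff] at hk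
          rw [hk]
          exact hu0c.symm
      rw [Subgroup.mem_centralizer_iff]
      intro h hh
      have h1 := hUZ hh
      rw [Subgroup.mem_centralizer_iff] at h1
      exact (h1 _ rfl).symm
    have hidx : (B ⊓ Subgroup.centralizer (U : Set G)).relIndex
        (B ⊓ Subgroup.centralizer (U' : Set G)) ≤ 2 := by
      have h1 : Nat.card (↥(B ⊓ Subgroup.centralizer (U' : Set G)) ⧸
          (B ⊓ Subgroup.centralizer (U : Set G)).subgroupOf
            (B ⊓ Subgroup.centralizer (U' : Set G)))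
          ≤ Nat.card ↥(U ⊓ Subgroup.centralizer (B : Set G)) := by
        apply Nat.card_le_card_of_injective
          (fun q => (⟨(q.out : G) * u0 * (q.out : G)⁻¹ * u0⁻¹, hg _ q.out.2⟩ :
            ↥(U ⊓ Subgroup.centralizer (B : Set G))))
        intro q₁ q₂ h
        have h' : (q₁.out : G) * u0 * (q₁.out : G)⁻¹ * u0⁻¹
            = (q₂.out : G) * u0 * (q₂.out : G)⁻¹ * u0⁻¹ := congrArg Subtype.val h
        have h2 := hinj _ q₁.out.2 _ q₂.out.2 h'
        calc q₁ = QuotientGroup.mk q₁.out := (QuotientGroup.out_eq' q₁).symm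
          _ = QuotientGroup.mk q₂.out := QuotientGroup.eq.mpr (Subgroup.mem_subgroupOf.mpr h2)
          _ = q₂ := QuotientGroup.out_eq' q₂
      exact le_trans h1 hF
    calc 2 * (B ⊓ Subgroup.centralizer (U : Set G)).relIndex B
        = 2 * ((B ⊓ Subgroup.centralizer (U : Set G)).relIndex
            (B ⊓ Subgroup.centralizer (U' : Set G)) *
            (B ⊓ Subgroup.centralizer (U' : Set G)).relIndex B) := by rw [hrel]
      _ ≤ 2 * (2 * (B ⊓ Subgroup.centralizer (U' : Set G)).relIndex B) :=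
          Nat.mul_le_mul_left _ (Nat.mul_le_mul_right _ hidx)
      _ ≤ 2 * Nat.card ↥U' := Nat.mul_le_mul_left _ IH
      _ ≤ Nat.card ↥U := hcard2

/-- piece JX-FUN -/
theorem fn : StFun.{u} := by
  intro G _ _ B U hBc hB2 hUc hU2 hBU hF hU
  exact fun_aux B hBc hB2 (Nat.card ↥U) U rfl hUc hU2 hBU hF hU

example : Cfsg.Agent.H82.Jx.StFun.{u} := fn

end Cfsg.Agent.H20.Jx

#print axioms Cfsg.Agent.H20.Jx.fn
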