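import Mathlib
import Cfsg.Prelude.Def_Involutions
import Cfsg.Agent.H26.SE2

/-!
# A strongly embedded subgroup is transitive on its involutions

Consequence of helper26's `se_D_trans` (the library lemma behind S1225): no involution outside
`H` has to be supplied.
-/

set_option autoImplicit false

universe u

namespace Cfsg.Agent.H20.Jz

open Cfsg

/-- A strongly embedded subgroup has an involution of `G` outside it. -/
theorem exists_inv_not_mem {G : Type u} [Group G] [Finite G] (H : Subgroup G)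
    (hH : Cfsg.IsStronglyEmbedded H) : ∃ w : G, orderOf w = 2 ∧ w ∉ H := by
  obtain ⟨hne, hev, hodd⟩ := hH
  -- an involution in H
  haveI : Fact (Nat.Prime 2) := ⟨Nat.prime_two⟩
  obtain ⟨t, ht⟩ := exists_prime_orderOf_dvd_card' (G := H) 2 (even_iff_two_dvd.mp hev)
  -- an element outside H
  obtain ⟨g, hg⟩ : ∃ g : G, g ∉ H := by
    by_contra hcon
    push_neg at hcon
    exact hne (Subgroup.eq_top_iff' H |>.mpr hcon)
  have ht' : orderOf (t : G) = 2 := by rw [Subgroup.orderOf_coe]; exact ht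
  refine ⟨g * (t : G) * g⁻¹, ?_, ?_⟩
  · have : g * (t : G) * g⁻¹ = MulAut.conj g (t : G) := by simp [MulAut.conj_apply]
    rw [this, MulEquiv.orderOf_eq]; exact ht'
  · intro hmem
    have hin : g * (t : G) * g⁻¹ ∈ H ⊓ H.map (MulAut.conj g).toMonoidHom := by
      refine ⟨hmem, ?_⟩
      exact ⟨(t : G), t.2, by simp [MulAut.conj_apply]⟩
    have ho := hodd g hg
    have hord : orderOf (⟨g * (t : G) * g⁻¹, hin⟩ :
        ↥(H ⊓ H.map (MulAut.conj g).toMonoidHom)) = 2 := by
      rw [← Subgroup.orderOf_coe]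
      have : g * (t : G) * g⁻¹ = MulAut.conj g (t : G) := by simp [MulAut.conj_apply]
      show orderOf (g * (t : G) * g⁻¹) = 2
      rw [this, MulEquiv.orderOf_eq]; exact ht'
    have hdvd := orderOf_dvd_natCard (⟨g * (t : G) * g⁻¹, hin⟩ :
        ↥(H ⊓ H.map (MulAut.conj g).toMonoidHom))
    rw [hord] at hdvd
    exact (Nat.not_even_iff_odd.mpr ho) (even_iff_two_dvd.mpr hdvd)

/-- A strongly embedded subgroup is transitive (by conjugation) on its involutions. -/
theorem strEmb_trans {G : Type u} [Group G] [Finite G] (H : Subgroup G)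
    (hH : Cfsg.IsStronglyEmbedded H) (s t : G) (hs : orderOf s = 2) (hsH : s ∈ H)
    (ht : orderOf t = 2) (htH : t ∈ H) : ∃ d ∈ H, d * s * d⁻¹ = t := by
  obtain ⟨w, hw, hwH⟩ := exists_inv_not_mem H hH
  obtain ⟨d, hd, hdst⟩ := Cfsg.Agent.H26.se_D_trans hH hw hwH hs hsH ht htH
  exact ⟨d, hd.1, hdst⟩

/-- All involutions of a group with a strongly embedded subgroup are conjugate. -/
theorem strEmb_all_conj {G : Type u} [Group G] [Finite G] (H : Subgroup G)
    (hH : Cfsg.IsStronglyEmbedded H) (a b : G) (ha : orderOf a = 2) (hb : orderOf b = 2) :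
    IsConj a b := by
  obtain ⟨w, hw, hwH⟩ := exists_inv_not_mem H hH
  obtain ⟨hne, hev, hodd⟩ := hH
  haveI : Fact (Nat.Prime 2) := ⟨Nat.prime_two⟩
  obtain ⟨t, ht⟩ := exists_prime_orderOf_dvd_card' (G := H) 2 (even_iff_two_dvd.mp hev)
  have ht' : orderOf (t : G) = 2 := by rw [Subgroup.orderOf_coe]; exact ht
  have h1 := Cfsg.Agent.H26.se_all_conj ⟨hne, hev, hodd⟩ hw hwH ht' t.2 ha
  have h2 := Cfsg.Agent.H26.se_all_conj ⟨hne, hev, hodd⟩ hw hwH ht' t.2 hb
  exact h1.symm.trans h2

end Cfsg.Agent.H20.Jz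

#print axioms Cfsg.Agent.H20.Jz.strEmb_trans
#print axioms Cfsg.Agent.H20.Jz.strEmb_all_conj
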