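import Mathlib
import Cfsg.Agent.H60.SuzPar

/-!
helper20: S1238-P4 for helper76 — the Sylow 2-subgroup of `U_3(4)` has no "swap" automorphism:
no automorphism whose square is inner fixes one central involution and moves another.
-/

set_option autoImplicit false

namespace Cfsg.Agent.H20.TwoRank

open Cfsg.Agent.H60

/-- The field computation: in characteristic two, `a^5 = b^5 = (a+b)^5` forces `a = 0`. -/
theorem no_swap_field {F : Type*} [Field F] (h2 : (2 : F) = 0) (a b : F) (ha : a ≠ 0)
    (hA : a ^ 5 = b ^ 5) (hB : (a + b) ^ 5 = a ^ 5) : False := by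
  have E1 : a * (a ^ 3 * b + b ^ 4 + a ^ 4) = a * 0 := by
    linear_combination hB + hA - (2 * a ^ 4 * b + 5 * a ^ 3 * b ^ 2 + 5 * a ^ 2 * b ^ 3
      + 2 * a * b ^ 4) * h2
  have E1' : a ^ 3 * b + b ^ 4 + a ^ 4 = 0 := mul_left_cancel₀ ha E1
  have E2 : a ^ 3 * (a ^ 2 + a * b + b ^ 2) = a ^ 3 * 0 := by
    linear_combination hA + b * E1'
  have E2' : a ^ 2 + a * b + b ^ 2 = 0 := mul_left_cancel₀ (pow_ne_zero 3 ha) E2
  have E3 : a ^ 4 = 0 := by
    linear_combination E1' + (a * b - b ^ 2) * E2' - a ^ 3 * b * h2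
  exact ha (pow_eq_zero_iff (by norm_num) |>.1 E3)

theorem no_swap {T : Type*} [Group T] {F : Type*} [Field F] [Fintype F] [SuzFin F 2]
    (e : T ≃* Par F 2) (κ : MulAut T) (c : T) (hκ : ∀ g : T, κ (κ g) = c * g * c⁻¹)
    (z z' : T) (hz : z * z = 1) (hz' : z' * z' = 1) (hz1 : z ≠ 1) (hz'1 : z' ≠ 1)
    (hzz' : z ≠ z') (hκz : κ z = z) (hκz' : κ z' ≠ z') : False := by
  classical
  have h2 : (2 : F) = 0 := suz_two F 2
  have hcardF : Fintype.card F = 16 := by
    have := (inferInstance : SuzFin F 2).card
    rw [this]; norm_num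
  -- the additive coordinate
  let α : T → F := fun g => (e g).a
  have hα_mul : ∀ g h : T, α (g * h) = α g + α h := by
    intro g h
    show (e (g * h)).a = (e g).a + (e h).a
    rw [map_mul, Par.mul_a]
  have hα_one : α 1 = 0 := by
    show (e 1).a = 0
    rw [map_one, Par.one_a]
  have hα_inv : ∀ g : T, α g⁻¹ = α g := by
    intro g
    show (e g⁻¹).a = (e g).a
    rw [map_inv, Par.inv_a]
  have hα0 : ∀ g : T, α g = 0 ↔ g * g = 1 := by
    intro g
    show (e g).a = 0 ↔ _
    rw [← Par.mul_self_eq_one_iff, ← map_mul, ← map_one e]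
    exact e.injective.eq_iff
  have hcen : ∀ g : T, α g = 0 → ∀ h : T, g * h = h * g := by
    intro g hg h
    have h1 : e g ∈ Subgroup.center (Par F 2) := (Par.mem_center_iff (e g)).2 hg
    have h3 := (Subgroup.mem_center_iff.1 h1) (e h)
    apply e.injective
    rw [map_mul, map_mul, h3]
  have hsurj : ∀ t : F, ∃ g : T, α g = t := by
    intro t
    refine ⟨e.symm (Par.lift t), ?_⟩
    show (e (e.symm (Par.lift t))).a = t
    rw [MulEquiv.apply_symm_apply, Par.lift_a]
  -- the four central elements
  have hαz : α z = 0 := (hα0 z).2 hz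
  have hαz' : α z' = 0 := (hα0 z').2 hz'
  have hαzz' : α (z * z') = 0 := by rw [hα_mul, hαz, hαz', add_zero]
  have hzz'1 : z * z' ≠ 1 := by
    intro h
    apply hzz'
    have h3 : z' = z⁻¹ := eq_inv_of_mul_eq_one_right h
    have h4 : z⁻¹ = z := inv_eq_of_mul_eq_one_left hz
    rw [h3, h4]
  have hzz'z : z * z' ≠ z := by
    intro h
    exact hz'1 (mul_eq_left.1 h)
  have hzz'z' : z * z' ≠ z' := by
    intro h
    exact hz1 (mul_eq_right.1 h)
  have hE : ∀ g : T, α g = 0 → g = 1 ∨ g = z ∨ g = z' ∨ g = z * z' := by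
    intro g hg
    let s : Finset (Par F 2) := {e 1, e z, e z', e (z * z')}
    have hs4 : s.card = 4 := by
      have i1 : e z' ∉ ({e (z * z')} : Finset (Par F 2)) := by
        rw [Finset.mem_singleton]
        intro h; exact hzz'z' (e.injective h).symm
      have i2 : e z ∉ ({e z', e (z * z')} : Finset (Par F 2)) := by
        rw [Finset.mem_insert, Finset.mem_singleton]
        rintro (h | h)
        · exact hzz' (e.injective h)
        · exact hzz'z (e.injective h).symm
      have i3 : e 1 ∉ ({e z, e z', e (z * z')} : Finset (Par F 2)) := by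
        rw [Finset.mem_insert, Finset.mem_insert, Finset.mem_singleton]
        rintro (h | h | h)
        · exact hz1 (e.injective h).symm
        · exact hz'1 (e.injective h).symm
        · exact hzz'1 (e.injective h).symm
      show Finset.card (insert (e 1) (insert (e z) (insert (e z') ({e (z * z')} : Finset (Par F 2))))) = 4
      rw [Finset.card_insert_of_notMem i3, Finset.card_insert_of_notMem i2,
        Finset.card_insert_of_notMem i1, Finset.card_singleton]
    have hsub : (s : Set (Par F 2)) ⊆ (Subgroup.center (Par F 2) : Set (Par F 2)) := by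
      intro w hw
      rw [Finset.mem_coe] at hw
      simp only [s, Finset.mem_insert, Finset.mem_singleton] at hw
      rw [SetLike.mem_coe, Par.mem_center_iff]
      rcases hw with rfl | rfl | rfl | rfl
      · exact hα_one
      · exact hαz
      · exact hαz'
      · exact hαzz'
    have hcard : (Subgroup.center (Par F 2) : Set (Par F 2)).ncard ≤ (s : Set (Par F 2)).ncard := by
      rw [Set.ncard_coe_finset, hs4]
      have h3 : Nat.card (Subgroup.center (Par F 2)) = 2 ^ 2 := Par.card_center
      have h4 : (Subgroup.center (Par F 2) : Set (Par F 2)).ncard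
          = Nat.card (Subgroup.center (Par F 2)) := rfl
      rw [h4, h3]; norm_num
    have heq := Set.eq_of_subset_of_ncard_le hsub hcard (Set.toFinite _)
    have hmem : e g ∈ (s : Set (Par F 2)) := by
      rw [heq, SetLike.mem_coe, Par.mem_center_iff]
      exact hg
    rw [Finset.mem_coe] at hmem
    simp only [s, Finset.mem_insert, Finset.mem_singleton] at hmem
    rcases hmem with h | h | h | h
    · left; exact e.injective h
    · right; left; exact e.injective h
    · right; right; left; exact e.injective h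
    · right; right; right; exact e.injective h
  -- κ preserves the centre
  have hκα0 : ∀ g : T, α g = 0 → α (κ g) = 0 := by
    intro g hg
    rw [hα0] at hg ⊢
    rw [← map_mul, hg, map_one]
  have hκz'eq : κ z' = z * z' := by
    rcases hE (κ z') (hκα0 z' hαz') with h | h | h | h
    · exfalso; apply hz'1
      have : κ z' = κ 1 := by rw [h, map_one]
      exact κ.injective this
    · exfalso; apply hzz'
      have : κ z' = κ z := by rw [h, hκz]
      exact (κ.injective this).symm
    · exact absurd h hκz'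
    · exact h
  have hfix : ∀ w : T, α w = 0 → w ≠ 1 → κ w = w → w = z := by
    intro w hw hw1 hκw
    rcases hE w hw with h | h | h | h
    · exact absurd h hw1
    · exact h
    · rw [h] at hκw; exact absurd hκw hκz'
    · exfalso
      rw [h, map_mul, hκz, hκz'eq, ← mul_assoc, hz, one_mul] at hκw
      exact hzz'z' hκw.symm
  -- κ² acts trivially on the coordinate
  have hακκ : ∀ g : T, α (κ (κ g)) = α g := by
    intro g
    rw [hκ, hα_mul, hα_mul, hα_inv]
    linear_combination α c * h2
  let δ : T → F := fun g => α g + α (κ g)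
  have hδ_mul : ∀ g h : T, δ (g * h) = δ g + δ h := by
    intro g h
    show α (g * h) + α (κ (g * h)) = (α g + α (κ g)) + (α h + α (κ h))
    rw [map_mul, hα_mul, hα_mul]; ring
  have hδ_inv : ∀ g : T, δ g⁻¹ = δ g := by
    intro g
    show α g⁻¹ + α (κ g⁻¹) = α g + α (κ g)
    rw [map_inv, hα_inv, hα_inv]
  have hδκ : ∀ g : T, δ (κ g) = δ g := by
    intro g
    show α (κ g) + α (κ (κ g)) = α g + α (κ g)
    rw [hακκ]; ring
  have hL : ∀ a : F, ∃ y : T, δ y = 0 ∧ α y ≠ 0 ∧ α y ≠ a := by
    intro a
    by_cases h1 : ∃ g, δ g ≠ 0 ∧ δ g ≠ a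
    · obtain ⟨g, hg0, hga⟩ := h1
      refine ⟨g * κ g, ?_, ?_, ?_⟩
      · rw [hδ_mul, hδκ]
        linear_combination δ g * h2
      · rw [hα_mul]; exact hg0
      · rw [hα_mul]; exact hga
    · push Not at h1
      obtain ⟨g₀, hg₀⟩ : ∃ g₀ : T, ∀ u, δ u = 0 ∨ δ u = δ g₀ := by
        by_cases hex : ∃ g, δ g = a
        · obtain ⟨g₀, h⟩ := hex
          refine ⟨g₀, fun u => ?_⟩
          by_cases hu : δ u = 0
          · left; exact hu
          · right; rw [h]; exact h1 u hu
        · refine ⟨1, fun u => ?_⟩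
          left
          by_contra hu
          exact hex ⟨u, h1 u hu⟩
      obtain ⟨t, ht⟩ : ∃ t : F, t ∉ ({0, a, α g₀, α g₀ + a} : Finset F) := by
        by_contra hcon
        push Not at hcon
        have h3 : (Finset.univ : Finset F) ⊆ ({0, a, α g₀, α g₀ + a} : Finset F) :=
          fun t _ => hcon t
        have h4 := Finset.card_le_card h3
        rw [Finset.card_univ, hcardF] at h4
        have h5 : ({0, a, α g₀, α g₀ + a} : Finset F).card ≤ 4 := Finset.card_le_four
        omega
      simp only [Finset.mem_insert, Finset.mem_singleton, not_or] at ht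
      obtain ⟨ht0, hta, htg, htga⟩ := ht
      obtain ⟨u, hu⟩ := hsurj t
      rcases hg₀ u with h | h
      · exact ⟨u, h, by rw [hu]; exact ht0, by rw [hu]; exact hta⟩
      · refine ⟨u * g₀⁻¹, ?_, ?_, ?_⟩
        · rw [hδ_mul, hδ_inv, h]
          linear_combination δ g₀ * h2
        · rw [hα_mul, hα_inv, hu]
          intro h0
          apply htg
          linear_combination h0 - α g₀ * h2
        · rw [hα_mul, hα_inv, hu]
          intro h0
          apply htga
          linear_combination h0 - α g₀ * h2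
  -- squares of the κ-stable cosets
  have hsq : ∀ w : T, δ w = 0 → α w ≠ 0 → w * w = z := by
    intro w hδw hαw
    have h3 : α (κ w) = α w := by
      have : α w + α (κ w) = 0 := hδw
      linear_combination this - α w * h2
    have h4 : α (w⁻¹ * κ w) = 0 := by
      rw [hα_mul, hα_inv, h3]
      linear_combination α w * h2
    have h5 : κ w = w * (w⁻¹ * κ w) := by group
    have h6 : (w⁻¹ * κ w) * (w⁻¹ * κ w) = 1 := (hα0 _).1 h4
    have h7 : κ (w * w) = w * w := by
      rw [map_mul]
      nth_rewrite 1 [h5]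
      nth_rewrite 2 [h5]
      have h8 := hcen _ h4 w
      calc w * (w⁻¹ * κ w) * (w * (w⁻¹ * κ w))
          = w * ((w⁻¹ * κ w) * w) * (w⁻¹ * κ w) := by group
        _ = w * (w * (w⁻¹ * κ w)) * (w⁻¹ * κ w) := by rw [h8]
        _ = w * w * ((w⁻¹ * κ w) * (w⁻¹ * κ w)) := by group
        _ = w * w := by rw [h6, mul_one]
    apply hfix
    · rw [hα_mul]; linear_combination α w * h2
    · intro h9
      exact hαw ((hα0 w).2 h9)
    · exact h7
  obtain ⟨x, hδx, hαx, -⟩ := hL 0
  obtain ⟨y, hδy, hαy, hαyx⟩ := hL (α x)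
  have hxx := hsq x hδx hαx
  have hyy := hsq y hδy hαy
  have hxy := hsq (x * y) (by rw [hδ_mul, hδx, hδy, add_zero]) (by
    rw [hα_mul]
    intro h0
    apply hαyx
    linear_combination h0 - α x * h2)
  have hb : ∀ w : T, (e (w * w)).b = α w ^ 5 := by
    intro w
    rw [map_mul, Par.mul_self_b]
    show (e w).a ^ (2 ^ 2 + 1) = (e w).a ^ 5
    norm_num
  have hA : α x ^ 5 = α y ^ 5 := by
    rw [← hb, ← hb, hxx, hyy]
  have hB : (α x + α y) ^ 5 = α x ^ 5 := by
    rw [← hα_mul, ← hb, ← hb, hxy, hxx]
  exact no_swap_field h2 (α x) (α y) hαx hA hB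

end Cfsg.Agent.H20.TwoRank
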