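import Cfsg.Agent.H45.S8Defs2

set_option autoImplicit false

/-! S8-TCOUNT for helper45's S1158 project: the number of non-trivial elements of order dividing
`M = q² - q + 1`, from Burnside's counts for the 2-transitive action. -/

namespace Cfsg.Agent.H20.S8

open Cfsg.Agent.H45.S8

universe u v

theorem card_fixedBy_conj {G : Type u} [Group G] {Ω : Type v} [MulAction G Ω] (c a : G) :
    Nat.card ↥(MulAction.fixedBy Ω (c * a * c⁻¹)) = Nat.card ↥(MulAction.fixedBy Ω a) := by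
  apply Nat.card_congr
  refine ((MulAction.toPerm c).subtypeEquiv ?_).symm
  intro x
  simp only [MulAction.mem_fixedBy, MulAction.toPerm_apply]
  rw [mul_smul, mul_smul, inv_smul_smul]
  exact (smul_left_cancel_iff c).symm

theorem card_centralizer_conj {G : Type u} [Group G] (c a : G) :
    Nat.card ↥(Subgroup.centralizer ({c * a * c⁻¹} : Set G)) =
      Nat.card ↥(Subgroup.centralizer ({a} : Set G)) := by
  apply Nat.card_congr
  refine (((MulAut.conj c).toEquiv).subtypeEquiv ?_).symm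
  intro g
  simp only [Subgroup.mem_centralizer_iff, Set.mem_singleton_iff, forall_eq,
    MulEquiv.toEquiv_eq_coe, MulEquiv.coe_toEquiv, MulAut.conj_apply]
  have e1 : c * a * c⁻¹ * (c * g * c⁻¹) = c * (a * g) * c⁻¹ := by group
  have e2 : c * g * c⁻¹ * (c * a * c⁻¹) = c * (g * a) * c⁻¹ := by group
  rw [e1, e2, mul_left_inj, mul_right_inj]

theorem inv_count_arith (q I : ℕ) (hq : 2 ≤ q)
    (h : I * (q * (q ^ 2 - 1)) = q ^ 3 * (q - 1) * (q ^ 3 + 1)) :
    I = q ^ 2 * (q ^ 2 - q + 1) := by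
  obtain ⟨t, rfl⟩ : ∃ t, q = t + 1 := ⟨q - 1, by omega⟩
  have h1 : (t + 1) ^ 2 - 1 = t * (t + 2) := by
    rw [Nat.sub_eq_iff_eq_add (Nat.one_le_pow _ _ (by omega))]; ring
  have h2 : (t + 1) ^ 2 - (t + 1) + 1 = t ^ 2 + t + 1 := by
    have h0 : (t + 1) ^ 2 - (t + 1) = t ^ 2 + t := by
      rw [Nat.sub_eq_iff_eq_add (by nlinarith)]; ring
    rw [h0]
  have h3 : t + 1 - 1 = t := by omega
  rw [h1, h3] at h
  rw [h2]
  have ht : 0 < t := by omega
  have hpos : 0 < (t + 1) * (t * (t + 2)) := by positivity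
  apply Nat.eq_of_mul_eq_mul_right hpos
  rw [h]; ring

theorem tCount : StTCount.{u, v} := by
  intro G _ _ Ω _ _ m hm hG hΩ h2t h3 hfe hcomm a ha1 ha2 hfa hCa hconj h4 hGam hBurn hFixCnt
    hInvCnt hFpf hArT _hArCop
  classical
  let _ : Fintype G := Fintype.ofFinite G
  let _ : Fintype Ω := Fintype.ofFinite Ω
  have hq3 : 3 ≤ qq m := by
    unfold qq
    calc 3 = 3 ^ 1 := by norm_num
      _ ≤ 3 ^ (2 * m + 1) := Nat.pow_le_pow_right (by norm_num) (by omega)
  have hcardΩ : Fintype.card Ω = qq m ^ 3 + 1 := by rw [← Nat.card_eq_fintype_card, hΩ]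
  have hcardG : Fintype.card G = GG m := by rw [← Nat.card_eq_fintype_card, hG]
  obtain ⟨hB1, hB2⟩ := hBurn G Ω (by
    rw [hcardΩ]
    have := Nat.one_le_pow 3 (qq m) (by omega)
    omega) h2t
  have hfixinv : ∀ g : G, g ≠ 1 → g * g = 1 →
      Nat.card ↥(MulAction.fixedBy Ω g) = qq m + 1 := by
    intro g hg1 hg2
    obtain ⟨c, rfl⟩ := hconj g hg1 hg2
    rw [card_fixedBy_conj, hfa]
  have hfix1 : Nat.card ↥(MulAction.fixedBy Ω (1 : G)) = qq m ^ 3 + 1 := by
    rw [← hΩ]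
    apply Nat.card_congr
    exact Equiv.subtypeUnivEquiv (fun x => by simp)
  have hfix2 : ∀ g : G, g * g ≠ 1 → Nat.card ↥(MulAction.fixedBy Ω g) ≤ 2 := by
    intro g hg
    by_contra hlt
    push Not at hlt
    rw [Nat.card_eq_fintype_card] at hlt
    obtain ⟨x, y, z, hxy, hxz, hyz⟩ := Fintype.two_lt_card_iff.1 hlt
    exact hg (h3 g x.1 y.1 z.1 (fun h => hxy (Subtype.ext h)) (fun h => hxz (Subtype.ext h))
      (fun h => hyz (Subtype.ext h)) x.2 y.2 z.2)
  have hInv : (InvSet G).ncard = qq m ^ 2 * MM m := by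
    have h := hInvCnt G a ha1 ha2 hconj
    rw [hCa, hG] at h
    unfold MM
    exact inv_count_arith (qq m) _ (by omega) (by unfold GG at h; exact h)
  have hF := hFixCnt G (fun g => Nat.card ↥(MulAction.fixedBy Ω g)) m hm hB1 hB2 hfix1 hfixinv
    hfix2 hInv hcardG
  have hne : Nonempty Ω := by
    have h0 : Nat.card Ω ≠ 0 := by rw [hΩ]; omega
    exact (Nat.card_ne_zero.1 h0).1
  obtain ⟨hU, hD⟩ := hFpf G Ω m hm hG hfe hcomm (by
    intro z hz1 hz2
    refine ⟨?_, ?_⟩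
    · have h := hfixinv z hz1 hz2
      have hpos : Nat.card ↥(MulAction.fixedBy Ω z) ≠ 0 := by rw [h]; omega
      obtain ⟨⟨x, hx⟩⟩ := (Nat.card_ne_zero.1 hpos).1
      exact ⟨x, hx⟩
    · obtain ⟨c, rfl⟩ := hconj z hz1 hz2
      rw [card_centralizer_conj, hCa]) h4
  have hset : {g : G | Nat.card ↥(MulAction.fixedBy Ω g) = 0} = FpfSet G Ω := by
    ext g
    simp only [Set.mem_ofPred_eq, FpfSet]
    constructor
    · intro h x hx
      rcases Nat.card_eq_zero.1 h with h' | h'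
      · exact h'.false ⟨x, hx⟩
      · exact not_finite ↥(MulAction.fixedBy Ω g)
    · intro h
      have : IsEmpty ↥(MulAction.fixedBy Ω g) := ⟨fun x => h x.1 x.2⟩
      exact Nat.card_of_isEmpty
  have hn0 : Nat.card {g : G // Nat.card ↥(MulAction.fixedBy Ω g) = 0} =
      (FpfSet G Ω).ncard := by
    rw [← hset]
    exact Nat.card_coe_set_eq _
  rw [hn0, hU, Set.ncard_union_eq hD (Set.toFinite _) (Set.toFinite _)] at hF
  exact hArT m _ _ _ hm hF rfl hGam

example : ∀ (G : Type u) [Group G] [Finite G] (Ω : Type v) [Finite Ω] [MulAction G Ω] (m : ℕ),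
    1 ≤ m →
    Nat.card G = GG m → Nat.card Ω = qq m ^ 3 + 1 →
    (∀ x y x' y' : Ω, x ≠ y → x' ≠ y' → ∃ g : G, g • x = x' ∧ g • y = y') →
    (∀ (g : G) (x y z : Ω), x ≠ y → x ≠ z → y ≠ z → g • x = x → g • y = y → g • z = z →
      g * g = 1) →
    (∀ (g : G) (x : Ω), g • x = x → g ^ (qq m ^ 3 * (qq m - 1)) = 1) →
    (∀ z g : G, (orderOf z).Prime → orderOf z ≠ 2 → orderOf z ∣ qq m * (qq m - 1) →
      g * z = z * g → ∃ x : Ω, g • x = x) →
    ∀ a : G, a ≠ 1 → a * a = 1 → Nat.card ↥(MulAction.fixedBy Ω a) = qq m + 1 →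
    Nat.card ↥(Subgroup.centralizer ({a} : Set G)) = qq m * (qq m ^ 2 - 1) →
    (∀ z : G, z ≠ 1 → z * z = 1 → ∃ c : G, c * a * c⁻¹ = z) →
    (∀ g : G, g ^ 4 = 1 → g ^ 2 = 1) →
    6 * (qq m + 1) * (GamSet G (kk m)).ncard = GG m * (qq m - 3) →
    StBurn.{u, v} → StFixCnt.{u} → StInvCnt.{u} → StFpf.{u, v} → StArT → StArCop →
    3 * (TorSet G (MM m)).ncard = TT m := tCount.{u, v}

end Cfsg.Agent.H20.S8

#print axioms Cfsg.Agent.H20.S8.tCount
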