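import Mathlib

namespace Cfsg.Agent.H20.SN

open scoped Pointwise

/-- `|N : N ⊓ K| `-type index identity: for `K` normal, `N.index = N.relIndex K * (N ⊔ K).index`. -/
theorem index_eq_relIndex_mul_index_sup {G : Type*} [Group G] [Finite G]
    (N K : Subgroup G) [K.Normal] : N.index = N.relIndex K * (N ⊔ K).index := by
  have e1 := Subgroup.relIndex_mul_index (H := N ⊓ K) (K := N) inf_le_left
  have e2 := Subgroup.relIndex_mul_index (H := N ⊓ K) (K := K) inf_le_right
  rw [Subgroup.inf_relIndex_left] at e1
  rw [Subgroup.inf_relIndex_right] at e2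
  have e3 := Subgroup.relIndex_mul_index (H := K) (K := N ⊔ K) le_sup_right
  rw [Subgroup.relIndex_sup_right] at e3
  have hne : 0 < K.relIndex N := Nat.pos_of_ne_zero Subgroup.index_ne_zero_of_finite
  apply Nat.eq_of_mul_eq_mul_left hne
  rw [e1, ← e2, ← e3]
  ring

theorem card_sylow_eq_mul_relIndex {G H : Type*} [Group G] [Finite G] [Group H] (φ : G →* H)
    (hφ : Function.Surjective φ) (r : ℕ) [Fact r.Prime] (R : Sylow r G) :
    Nat.card (Sylow r G) = Nat.card (Sylow r H) *
      (Subgroup.normalizer ((R : Subgroup G) : Set G)).relIndex φ.ker := by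
  have hfin : Finite H := Finite.of_surjective φ hφ
  have h1 : Nat.card (Sylow r G) = (Subgroup.normalizer ((R : Subgroup G) : Set G)).index :=
    R.card_eq_index_normalizer
  have h2 : Nat.card (Sylow r H) =
      (Subgroup.normalizer (((R : Subgroup G).map φ : Subgroup H) : Set H)).index :=
    (R.mapSurjective hφ).card_eq_index_normalizer
  have h3 : (Subgroup.normalizer (((R : Subgroup G).map φ : Subgroup H) : Set H)).comap φ
      = Subgroup.normalizer ((R : Subgroup G) : Set G) ⊔ φ.ker := by
    apply le_antisymm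
    · intro g hg
      rw [Subgroup.mem_comap] at hg
      have hR1 : (R : Subgroup G) ≤ (R : Subgroup G) ⊔ φ.ker := le_sup_left
      have hR2 : ((g • R : Sylow r G) : Subgroup G) ≤ (R : Subgroup G) ⊔ φ.ker := by
        intro y hy
        rw [← Subgroup.comap_map_eq, Subgroup.mem_comap]
        have hy' : y ∈ MulAut.conj g • (R : Subgroup G) := hy
        rw [Subgroup.mem_pointwise_smul_iff_inv_smul_mem] at hy'
        have hy2 : g⁻¹ * y * g ∈ (R : Subgroup G) := by
          simpa [MulAut.smul_def] using hy'
        have hy3 : φ (g⁻¹ * y * g) ∈ (R : Subgroup G).map φ := Subgroup.mem_map_of_mem φ hy2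
        rw [Subgroup.mem_normalizer_iff] at hg
        have := (hg (φ (g⁻¹ * y * g))).mp hy3
        have he : φ g * φ (g⁻¹ * y * g) * (φ g)⁻¹ = φ y := by
          rw [← map_inv, ← map_mul, ← map_mul]
          congr 1
          group
        rwa [he] at this
      obtain ⟨m, hm⟩ := MulAction.exists_smul_eq ((R : Subgroup G) ⊔ φ.ker : Subgroup G)
        ((g • R).subtype hR2) (R.subtype hR1)
      simp_rw [Sylow.smul_subtype, Subgroup.smul_def, smul_smul] at hm
      have hmg : (m : G) * g ∈ Subgroup.normalizer ((R : Subgroup G) : Set G) :=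
        Sylow.smul_eq_iff_mem_normalizer.mp (Sylow.subtype_injective hm)
      have hm' : (m : G) ∈ Subgroup.normalizer ((R : Subgroup G) : Set G) ⊔ φ.ker :=
        (sup_le_sup_right Subgroup.le_normalizer _) m.2
      have : g = (m : G)⁻¹ * ((m : G) * g) := by group
      rw [this]
      exact Subgroup.mul_mem _ (Subgroup.inv_mem _ hm') (Subgroup.mem_sup_left hmg)
    · apply sup_le
      · intro g hg
        rw [Subgroup.mem_comap]
        exact Subgroup.le_normalizer_map φ (Subgroup.mem_map_of_mem φ hg)
      · intro g hg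
        rw [Subgroup.mem_comap, MonoidHom.mem_ker.mp hg]
        exact Subgroup.one_mem _
  have h4 : (Subgroup.normalizer ((R : Subgroup G) : Set G) ⊔ φ.ker).index
      = Nat.card (Sylow r H) := by
    rw [h2, ← h3, Subgroup.index_comap_of_surjective _ hφ]
  rw [h1, index_eq_relIndex_mul_index_sup (Subgroup.normalizer ((R : Subgroup G) : Set G)) φ.ker,
    h4, mul_comm]

end Cfsg.Agent.H20.SN

example {G H : Type*} [Group G] [Finite G] [Group H] (φ : G →* H)
    (hφ : Function.Surjective φ) (r : ℕ) [Fact r.Prime] (R : Sylow r G) :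
    Nat.card (Sylow r G) = Nat.card (Sylow r H) *
      (Subgroup.normalizer ((R : Subgroup G) : Set G)).relIndex φ.ker :=
  Cfsg.Agent.H20.SN.card_sylow_eq_mul_relIndex φ hφ r R
#print axioms Cfsg.Agent.H20.SN.card_sylow_eq_mul_relIndex
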