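import Mathlib
import Cfsg.Agent.H52.SpDefs

/-!
# S2944, piece SP-GLPA (for helper52 / helper66)

A central extension, with kernel of odd order, of a group generated by independent normal
copies of `SL(2,2)`: the elements of odd order commute.
-/

set_option autoImplicit false

universe u

namespace Cfsg.Agent.H20.Sp

open Cfsg.Agent.H52.Sn

theorem sl22_sq_comm' : ∀ A B : Matrix.SpecialLinearGroup (Fin 2) (ZMod 2),
    (A * A) * (B * B) = (B * B) * (A * A) := by decide

theorem sl22_sq_cases : ∀ A B : Matrix.SpecialLinearGroup (Fin 2) (ZMod 2),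
    A * A = 1 ∨ B * B = 1 ∨ B * B = A * A ∨ (A * A) * (B * B) = 1 := by decide

theorem sl22_sq_inv : ∀ A : Matrix.SpecialLinearGroup (Fin 2) (ZMod 2),
    ∃ S : Matrix.SpecialLinearGroup (Fin 2) (ZMod 2), S * (A * A) * S⁻¹ * (A * A) = 1 := by
  decide

/-- the commutator computation: if `c = [u,w]`, `z₁ = s u s⁻¹ u`, `z₂ = s w s⁻¹ w⁻¹` are all
central then `c * c = 1`. -/
theorem central_comm_sq {Y : Type u} [Group Y] (s u w : Y)
    (hc : ∀ y : Y, (u * w * u⁻¹ * w⁻¹) * y = y * (u * w * u⁻¹ * w⁻¹))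
    (hz1 : ∀ y : Y, (s * u * s⁻¹ * u) * y = y * (s * u * s⁻¹ * u))
    (hz2 : ∀ y : Y, (s * w * s⁻¹ * w⁻¹) * y = y * (s * w * s⁻¹ * w⁻¹)) :
    (u * w * u⁻¹ * w⁻¹) * (u * w * u⁻¹ * w⁻¹) = 1 := by
  obtain ⟨c, hcdef⟩ : ∃ c : Y, c = u * w * u⁻¹ * w⁻¹ := ⟨_, rfl⟩
  obtain ⟨z1, hz1def⟩ : ∃ z : Y, z = s * u * s⁻¹ * u := ⟨_, rfl⟩
  obtain ⟨z2, hz2def⟩ : ∃ z : Y, z = s * w * s⁻¹ * w⁻¹ := ⟨_, rfl⟩
  rw [← hcdef] at hc ⊢
  rw [← hz1def] at hz1
  rw [← hz2def] at hz2
  -- `s c s⁻¹ = c`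
  have h1 : s * c * s⁻¹ = c := by
    have := hc s
    calc s * c * s⁻¹ = (s * c) * s⁻¹ := rfl
      _ = (c * s) * s⁻¹ := by rw [this]
      _ = c := by group
  have h2 : s * c * s⁻¹ = z1 * (u⁻¹ * z2 * (w * u * z1⁻¹ * w⁻¹ * z2⁻¹)) := by
    rw [hcdef, hz1def, hz2def]
    group
  have h3 : z1 * (u⁻¹ * z2 * (w * u * z1⁻¹ * w⁻¹ * z2⁻¹)) = u⁻¹ * w * u * w⁻¹ := by
    calc z1 * (u⁻¹ * z2 * (w * u * z1⁻¹ * w⁻¹ * z2⁻¹))
        = z1 * (u⁻¹ * (z2 * (w * u * z1⁻¹ * w⁻¹ * z2⁻¹))) := by group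
      _ = z1 * (u⁻¹ * ((w * u * z1⁻¹ * w⁻¹ * z2⁻¹) * z2)) := by rw [hz2 _]
      _ = z1 * (u⁻¹ * w * u * z1⁻¹ * w⁻¹) := by group
      _ = (u⁻¹ * w * u * z1⁻¹ * w⁻¹) * z1 := hz1 _
      _ = u⁻¹ * w * u * (z1⁻¹ * (w⁻¹ * z1)) := by group
      _ = u⁻¹ * w * u * (z1⁻¹ * (z1 * w⁻¹)) := by rw [hz1 w⁻¹]
      _ = u⁻¹ * w * u * w⁻¹ := by group
  have h4 : u⁻¹ * w * u * w⁻¹ = u⁻¹ * (c⁻¹ * u) := by
    rw [hcdef]
    group
  have h5 : c⁻¹ * u = u * c⁻¹ := by
    have := hc u
    calc c⁻¹ * u = c⁻¹ * (u * c) * c⁻¹ := by group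
      _ = c⁻¹ * (c * u) * c⁻¹ := by rw [this]
      _ = u * c⁻¹ := by group
  have h6 : c = c⁻¹ := by
    calc c = s * c * s⁻¹ := h1.symm
      _ = u⁻¹ * (c⁻¹ * u) := by rw [h2, h3, h4]
      _ = u⁻¹ * (u * c⁻¹) := by rw [h5]
      _ = c⁻¹ := by group
  calc c * c = c * c⁻¹ := by rw [← h6]
    _ = 1 := by group

/-- piece SP-GLPA -/
theorem glpA : StGLPA.{u} := by
  intro Y X _ _ _ _ f ι E hcen hoddk hN hiso hind hsup x y hxo hyo
  obtain ⟨H, hHdef⟩ : ∃ H : Subgroup X, H = f.range := ⟨_, rfl⟩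
  rw [← hHdef] at hN hsup
  have hfH : ∀ a : Y, f a ∈ H := fun a => hHdef ▸ ⟨a, rfl⟩
  have hHf : ∀ r ∈ H, ∃ a : Y, f a = r := by
    intro r hr
    rw [hHdef] at hr
    exact hr
  have hker : ∀ a : Y, f a = 1 → ∀ b : Y, a * b = b * a := fun a ha b =>
    hcen a (MonoidHom.mem_ker.mpr ha) b
  have hEH : ∀ i, E i ≤ H := fun i => hsup ▸ le_iSup E i
  have hconj : ∀ i, ∀ h ∈ H, ∀ e ∈ E i, h * e * h⁻¹ ∈ E i := by
    intro i h hh e he
    exact (Subgroup.mem_normalizer_iff.mp (hN i hh) e).mp he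
  -- different factors commute
  have hcomm : ∀ i j, i ≠ j → ∀ a ∈ E i, ∀ b ∈ E j, a * b = b * a := by
    intro i j hij a ha b hb
    have hd : Disjoint (E i) (E j) := hind.pairwiseDisjoint hij
    have h1 : a * b * a⁻¹ * b⁻¹ ∈ E i := by
      have h0 := hconj i b (hEH j hb) a⁻¹ ((E i).inv_mem ha)
      have e : a * b * a⁻¹ * b⁻¹ = a * (b * a⁻¹ * b⁻¹) := by group
      rw [e]
      exact (E i).mul_mem ha h0
    have h2 : a * b * a⁻¹ * b⁻¹ ∈ E j := by
      have h0 := hconj j a (hEH i ha) b hb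
      exact (E j).mul_mem h0 ((E j).inv_mem hb)
    have h3 := Subgroup.disjoint_def.mp hd h1 h2
    have e : a * b = (a * b * a⁻¹ * b⁻¹) * (b * a) := by group
    rw [e, h3, one_mul]
  -- the subgroup generated by the squares
  obtain ⟨gens, hgens⟩ : ∃ gens : Set X, gens = {s : X | ∃ i, ∃ e ∈ E i, s = e * e} := ⟨_, rfl⟩
  obtain ⟨S, hSdef⟩ : ∃ S : Subgroup X, S = Subgroup.closure gens := ⟨_, rfl⟩
  have hsq : ∀ i, ∀ e ∈ E i, e * e ∈ S := by
    intro i e he
    rw [hSdef]
    apply Subgroup.subset_closure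
    rw [hgens]
    exact ⟨i, e, he, rfl⟩
  have hSH : S ≤ H := by
    rw [hSdef, Subgroup.closure_le]
    intro s hs
    rw [hgens] at hs
    obtain ⟨i, e, he, rfl⟩ := hs
    exact H.mul_mem (hEH i he) (hEH i he)
  -- it is normalized by `H`
  have hSn : ∀ h ∈ H, ∀ s ∈ S, h * s * h⁻¹ ∈ S := by
    intro h hh s hs
    rw [hSdef] at hs
    induction hs using Subgroup.closure_induction with
    | mem s hs =>
      rw [hgens] at hs
      obtain ⟨i, e, he, rfl⟩ := hs
      have e1 : h * (e * e) * h⁻¹ = (h * e * h⁻¹) * (h * e * h⁻¹) := by group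
      rw [e1]
      exact hsq i _ (hconj i h hh e he)
    | one =>
      have e1 : h * 1 * h⁻¹ = 1 := by group
      rw [e1]
      exact S.one_mem
    | mul a b _ _ ha hb =>
      have e1 : h * (a * b) * h⁻¹ = (h * a * h⁻¹) * (h * b * h⁻¹) := by group
      rw [e1]
      exact S.mul_mem ha hb
    | inv a _ ha =>
      have e1 : h * a⁻¹ * h⁻¹ = (h * a * h⁻¹)⁻¹ := by group
      rw [e1]
      exact S.inv_mem ha
  -- the generators commute
  have hgen : ∀ s ∈ gens, ∀ s' ∈ gens, s * s' = s' * s := by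
    intro s hs s' hs'
    rw [hgens] at hs hs'
    obtain ⟨i, e, he, rfl⟩ := hs
    obtain ⟨j, e', he', rfl⟩ := hs'
    by_cases hij : i = j
    · subst hij
      obtain ⟨φ⟩ := hiso i
      have h1 := sl22_sq_comm' (φ ⟨e, he⟩) (φ ⟨e', he'⟩)
      have h2 : φ ((⟨e, he⟩ * ⟨e, he⟩) * (⟨e', he'⟩ * ⟨e', he'⟩))
          = φ ((⟨e', he'⟩ * ⟨e', he'⟩) * (⟨e, he⟩ * ⟨e, he⟩)) := by
        rw [map_mul, map_mul, map_mul, map_mul, map_mul, map_mul]
        exact h1
      exact congrArg Subtype.val (φ.injective h2)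
    · have hc := hcomm i j hij e he e' he'
      calc e * e * (e' * e') = e * (e * e') * e' := by group
        _ = e * (e' * e) * e' := by rw [hc]
        _ = (e * e') * (e * e') := by group
        _ = (e' * e) * (e' * e) := by rw [hc]
        _ = e' * (e * e') * e := by group
        _ = e' * (e' * e) * e := by rw [hc]
        _ = e' * e' * (e * e) := by group
  have hcent1 : ∀ g ∈ gens, S ≤ Subgroup.centralizer ({g} : Set X) := by
    intro g hg
    rw [hSdef, Subgroup.closure_le]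
    intro s hs
    rw [SetLike.mem_coe, Subgroup.mem_centralizer_iff]
    intro k hk
    rw [Set.mem_singleton_iff] at hk
    rw [hk]
    exact hgen g hg s hs
  have hSab : ∀ s ∈ S, ∀ s' ∈ S, s * s' = s' * s := by
    intro s hs s' hs'
    have h1 : S ≤ Subgroup.centralizer ({s} : Set X) := by
      rw [hSdef, Subgroup.closure_le]
      intro g hg
      have h2 := hcent1 g hg hs
      rw [Subgroup.mem_centralizer_iff] at h2
      rw [SetLike.mem_coe, Subgroup.mem_centralizer_iff]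
      intro k hk
      rw [Set.mem_singleton_iff] at hk
      rw [hk]
      exact (h2 g rfl).symm
    have h3 := h1 hs'
    rw [Subgroup.mem_centralizer_iff] at h3
    exact h3 s rfl
  -- the elements of the factors are central modulo `S`
  have hD : ∀ i, ∀ e ∈ E i, ∀ g ∈ H, g * e * g⁻¹ * e⁻¹ ∈ S := by
    intro i e he g hg
    have key : g ∈ H ∧ g * e * g⁻¹ * e⁻¹ ∈ S := by
      rw [← hsup] at hg
      refine Subgroup.iSup_induction E (C := fun g => g ∈ H ∧ g * e * g⁻¹ * e⁻¹ ∈ S) hg ?_ ?_ ?_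
      · intro j g hg
        refine ⟨hEH j hg, ?_⟩
        by_cases hij : j = i
        · subst hij
          have e1 : g * e * g⁻¹ * e⁻¹
              = (g * e) * (g * e) * (e⁻¹ * (g⁻¹ * g⁻¹) * e⁻¹⁻¹) * (e⁻¹ * e⁻¹) := by group
          rw [e1]
          refine S.mul_mem (S.mul_mem (hsq j _ ((E j).mul_mem hg he)) ?_)
            (hsq j _ ((E j).inv_mem he))
          exact hSn e⁻¹ (H.inv_mem (hEH j he)) _ (hsq j _ ((E j).inv_mem hg))
        · have hc := hcomm j i hij g hg e he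
          have e1 : g * e * g⁻¹ * e⁻¹ = 1 := by
            rw [hc]
            group
          rw [e1]
          exact S.one_mem
      · refine ⟨H.one_mem, ?_⟩
        have e1 : (1 : X) * e * 1⁻¹ * e⁻¹ = 1 := by group
        rw [e1]
        exact S.one_mem
      · rintro g1 g2 ⟨hg1, h1⟩ ⟨hg2, h2⟩
        refine ⟨H.mul_mem hg1 hg2, ?_⟩
        have e1 : g1 * g2 * e * (g1 * g2)⁻¹ * e⁻¹
            = (g1 * (g2 * e * g2⁻¹ * e⁻¹) * g1⁻¹) * (g1 * e * g1⁻¹ * e⁻¹) := by group
        rw [e1]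
        exact S.mul_mem (hSn g1 hg1 _ h2) h1
    exact key.2
  -- every square lies in `S`
  have hC : ∀ h ∈ H, h * h ∈ S := by
    intro h hh
    have key : h ∈ H ∧ h * h ∈ S ∧ ∀ g ∈ H, g * h * g⁻¹ * h⁻¹ ∈ S := by
      rw [← hsup] at hh
      refine Subgroup.iSup_induction E
        (C := fun h => h ∈ H ∧ h * h ∈ S ∧ ∀ g ∈ H, g * h * g⁻¹ * h⁻¹ ∈ S) hh ?_ ?_ ?_
      · intro i h hh
        exact ⟨hEH i hh, hsq i h hh, fun g hg => hD i h hh g hg⟩
      · refine ⟨H.one_mem, ?_, ?_⟩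
        · rw [one_mul]
          exact S.one_mem
        · intro g _
          have e1 : g * 1 * g⁻¹ * (1 : X)⁻¹ = 1 := by group
          rw [e1]
          exact S.one_mem
      · rintro h1 h2 ⟨hh1, hs1, hc1⟩ ⟨hh2, hs2, hc2⟩
        refine ⟨H.mul_mem hh1 hh2, ?_, ?_⟩
        · have e1 : h1 * h2 * (h1 * h2)
              = (h1 * (h2 * h1 * h2⁻¹ * h1⁻¹) * h1⁻¹) * (h1 * h1) * (h2 * h2) := by group
          rw [e1]
          exact S.mul_mem (S.mul_mem (hSn h1 hh1 _ (hc1 h2 hh2)) hs1) hs2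
        · intro g hg
          have e1 : g * (h1 * h2) * g⁻¹ * (h1 * h2)⁻¹
              = (g * h1 * g⁻¹ * h1⁻¹) * (h1 * (g * h2 * g⁻¹ * h2⁻¹) * h1⁻¹) := by group
          rw [e1]
          exact S.mul_mem (hc1 g hg) (hSn h1 hh1 _ (hc2 g hg))
    exact key.2.1
  -- an element of the kernel whose square is trivial is trivial
  have hkodd : ∀ c : Y, f c = 1 → c * c = 1 → c = 1 := by
    intro c hc hcc
    have h1 : orderOf (⟨c, MonoidHom.mem_ker.mpr hc⟩ : f.ker) ∣ Nat.card ↥f.ker :=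
      orderOf_dvd_natCard _
    have h2 : orderOf (⟨c, MonoidHom.mem_ker.mpr hc⟩ : f.ker) ∣ 2 := by
      apply orderOf_dvd_of_pow_eq_one
      apply Subtype.ext
      rw [pow_two]
      exact hcc
    have h3 : orderOf (⟨c, MonoidHom.mem_ker.mpr hc⟩ : f.ker) = 1 := by
      have h4 : orderOf (⟨c, MonoidHom.mem_ker.mpr hc⟩ : f.ker) ∣ Nat.gcd (Nat.card ↥f.ker) 2 :=
        Nat.dvd_gcd h1 h2
      have h5 : Nat.gcd (Nat.card ↥f.ker) 2 = 1 := by
        exact Nat.coprime_two_right.mpr hoddk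
      rw [h5] at h4
      exact Nat.dvd_one.mp h4
    have h6 := orderOf_eq_one_iff.mp h3
    exact congrArg Subtype.val h6
  -- lifts of generators commute
  have key1 : ∀ u w : Y, f u ∈ gens → f w ∈ gens → u * w = w * u := by
    intro u w hu hw
    have hfc : f u * f w = f w * f u := hgen _ hu _ hw
    rw [hgens] at hu hw
    obtain ⟨i, e, he, hue⟩ := hu
    obtain ⟨j, e', he', hwe⟩ := hw
    by_cases hij : i = j
    · subst hij
      obtain ⟨φ⟩ := hiso i
      have tr : ∀ a b : ↥(E i), φ a = φ b → (a : X) = b := fun a b h =>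
        congrArg Subtype.val (φ.injective h)
      rcases sl22_sq_cases (φ ⟨e, he⟩) (φ ⟨e', he'⟩) with h | h | h | h
      · have h2 : e * e = 1 := by
          have := tr (⟨e, he⟩ * ⟨e, he⟩) 1 (by rw [map_mul, map_one]; exact h)
          exact this
        rw [h2] at hue
        exact hker u hue w
      · have h2 : e' * e' = 1 := by
          have := tr (⟨e', he'⟩ * ⟨e', he'⟩) 1 (by rw [map_mul, map_one]; exact h)
          exact this
        rw [h2] at hwe
        exact (hker w hwe u).symm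
      · have h2 : e' * e' = e * e := by
          have := tr (⟨e', he'⟩ * ⟨e', he'⟩) (⟨e, he⟩ * ⟨e, he⟩)
            (by rw [map_mul, map_mul]; exact h)
          exact this
        have h3 : f (u⁻¹ * w) = 1 := by
          rw [map_mul, map_inv, hue, hwe, h2]
          group
        have h4 := hker _ h3 u
        calc u * w = u * (u * (u⁻¹ * w)) := by group
          _ = u * ((u⁻¹ * w) * u) := by rw [h4]
          _ = w * u := by group
      · have h2 : (e * e) * (e' * e') = 1 := by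
          have := tr ((⟨e, he⟩ * ⟨e, he⟩) * (⟨e', he'⟩ * ⟨e', he'⟩)) 1
            (by rw [map_mul, map_mul, map_mul, map_one]; exact h)
          exact this
        have h3 : f (u * w) = 1 := by
          rw [map_mul, hue, hwe, h2]
        have h4 := hker _ h3 u
        calc u * w = u⁻¹ * (u * (u * w)) := by group
          _ = u⁻¹ * ((u * w) * u) := by rw [h4]
          _ = w * u := by group
    · obtain ⟨φ⟩ := hiso i
      obtain ⟨S0, hS0⟩ := sl22_sq_inv (φ ⟨e, he⟩)
      obtain ⟨s', hs'⟩ : ∃ s' : ↥(E i), φ s' = S0 := ⟨φ.symm S0, φ.apply_symm_apply S0⟩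
      have h1 : (s' : X) * (e * e) * (s' : X)⁻¹ * (e * e) = 1 := by
        have h0 : φ (s' * (⟨e, he⟩ * ⟨e, he⟩) * s'⁻¹ * (⟨e, he⟩ * ⟨e, he⟩)) = φ 1 := by
          rw [map_mul, map_mul, map_mul, map_mul, map_inv, map_one, hs']
          exact hS0
        exact congrArg Subtype.val (φ.injective h0)
      obtain ⟨s, hs⟩ := hHf (s' : X) (hEH i s'.2)
      have hse' : (s' : X) * e' = e' * (s' : X) := hcomm i j hij _ s'.2 e' he'
      have hz1 : f (s * u * s⁻¹ * u) = 1 := by
        rw [map_mul, map_mul, map_mul, map_inv, hs, hue]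
        exact h1
      have hz2 : f (s * w * s⁻¹ * w⁻¹) = 1 := by
        rw [map_mul, map_mul, map_mul, map_inv, map_inv, hs, hwe]
        calc (s' : X) * (e' * e') * (s' : X)⁻¹ * (e' * e')⁻¹
            = ((s' : X) * e') * e' * (s' : X)⁻¹ * (e' * e')⁻¹ := by group
          _ = (e' * (s' : X)) * e' * (s' : X)⁻¹ * (e' * e')⁻¹ := by rw [hse']
          _ = e' * ((s' : X) * e') * (s' : X)⁻¹ * (e' * e')⁻¹ := by group
          _ = e' * (e' * (s' : X)) * (s' : X)⁻¹ * (e' * e')⁻¹ := by rw [hse']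
          _ = 1 := by group
      have hc : f (u * w * u⁻¹ * w⁻¹) = 1 := by
        rw [map_mul, map_mul, map_mul, map_inv, map_inv, hfc]
        group
      have hcc := central_comm_sq s u w (hker _ hc) (hker _ hz1) (hker _ hz2)
      have hc1 := hkodd _ hc hcc
      calc u * w = (u * w * u⁻¹ * w⁻¹) * (w * u) := by group
        _ = w * u := by rw [hc1, one_mul]
  have key2 : ∀ r ∈ S, ∀ u w : Y, f u = r → f w ∈ gens → u * w = w * u := by
    intro r hr
    rw [hSdef] at hr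
    induction hr using Subgroup.closure_induction with
    | mem r hr =>
      intro u w hu hw
      exact key1 u w (hu ▸ hr) hw
    | one =>
      intro u w hu hw
      exact hker u hu w
    | mul a b ha hb iha ihb =>
      intro u w hu hw
      rw [← hSdef] at ha hb
      obtain ⟨u1, hu1⟩ := hHf a (hSH ha)
      have h1 := iha u1 w hu1 hw
      have h2 : f (u1⁻¹ * u) = b := by
        rw [map_mul, map_inv, hu1, hu]
        group
      have h3 := ihb (u1⁻¹ * u) w h2 hw
      calc u * w = u1 * ((u1⁻¹ * u) * w) := by group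
        _ = u1 * (w * (u1⁻¹ * u)) := by rw [h3]
        _ = (u1 * w) * (u1⁻¹ * u) := by group
        _ = (w * u1) * (u1⁻¹ * u) := by rw [h1]
        _ = w * u := by group
    | inv a ha iha =>
      intro u w hu hw
      have h1 : f u⁻¹ = a := by
        rw [map_inv, hu, inv_inv]
      have h2 := iha u⁻¹ w h1 hw
      calc u * w = u * (w * u⁻¹) * u := by group
        _ = u * (u⁻¹ * w) * u := by rw [h2]
        _ = w * u := by group
  have key3 : ∀ r ∈ S, ∀ u w : Y, f u ∈ S → f w = r → u * w = w * u := by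
    intro r hr
    rw [hSdef] at hr
    induction hr using Subgroup.closure_induction with
    | mem r hr =>
      intro u w hu hw
      exact key2 (f u) hu u w rfl (hw ▸ hr)
    | one =>
      intro u w hu hw
      exact (hker w hw u).symm
    | mul a b ha hb iha ihb =>
      intro u w hu hw
      rw [← hSdef] at ha hb
      obtain ⟨w1, hw1⟩ := hHf a (hSH ha)
      have h1 := iha u w1 hu hw1
      have h2 : f (w1⁻¹ * w) = b := by
        rw [map_mul, map_inv, hw1, hw]
        group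
      have h3 := ihb u (w1⁻¹ * w) hu h2
      calc u * w = (u * w1) * (w1⁻¹ * w) := by group
        _ = (w1 * u) * (w1⁻¹ * w) := by rw [h1]
        _ = w1 * (u * (w1⁻¹ * w)) := by group
        _ = w1 * ((w1⁻¹ * w) * u) := by rw [h3]
        _ = w * u := by group
    | inv a ha iha =>
      intro u w hu hw
      have h1 : f w⁻¹ = a := by
        rw [map_inv, hw, inv_inv]
      have h2 := iha u w⁻¹ hu h1
      calc u * w = w * (w⁻¹ * u) * w := by group
        _ = w * (u * w⁻¹) * w := by rw [h2]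
        _ = w * u := by group
  -- squares commute
  have hsqc : ∀ a b : Y, (a * a) * (b * b) = (b * b) * (a * a) := by
    intro a b
    have ha : f (a * a) ∈ S := by
      rw [map_mul]
      exact hC _ (hfH a)
    have hb : f (b * b) ∈ S := by
      rw [map_mul]
      exact hC _ (hfH b)
    exact key3 _ hb _ _ ha rfl
  -- elements of odd order are powers of their squares
  have hpow : ∀ z : Y, Odd (orderOf z) → ∃ m : ℕ, z = (z * z) ^ m := by
    intro z ho
    obtain ⟨m, hm⟩ := ho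
    refine ⟨m + 1, ?_⟩
    rw [← pow_two, ← pow_mul]
    have e2 : 2 * (m + 1) = orderOf z + 1 := by omega
    rw [e2, pow_succ, pow_orderOf_eq_one, one_mul]
  obtain ⟨m, hm⟩ := hpow x hxo
  obtain ⟨n, hn⟩ := hpow y hyo
  have hcm : Commute (x * x) (y * y) := hsqc x y
  have := (hcm.pow_pow m n).eq
  rw [← hm, ← hn] at this
  exact this

example : Cfsg.Agent.H52.Sn.StGLPA.{u} := glpA

end Cfsg.Agent.H20.Sp

#print axioms Cfsg.Agent.H20.Sp.glpA
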