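import Mathlib
import Cfsg.Agent.H64.TtDefs2
import Cfsg.Agent.H20.SNB

universe u

namespace Cfsg.Agent.H20.Tt

open Cfsg.Agent.H64.Tt

/-- an involution conjugating `H` into itself normalizes `H` -/
theorem invol_mem_normalizer {G : Type*} [Group G] {H : Subgroup G} {a : G} (ha : a * a = 1)
    (h : ∀ n ∈ H, a * n * a⁻¹ ∈ H) : a ∈ Subgroup.normalizer (H : Set G) := by
  rw [Subgroup.mem_normalizer_iff]
  intro n
  refine ⟨h n, fun hn => ?_⟩
  have h1 := h _ hn
  have ainv : a⁻¹ = a := inv_eq_of_mul_eq_one_right ha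
  have e : a * (a * n * a⁻¹) * a⁻¹ = n := by
    rw [ainv]
    calc a * (a * n * a) * a = (a * a) * n * (a * a) := by group
      _ = n := by rw [ha]; group
  rwa [e] at h1

/-- elements of a window of length one -/
theorem mem_X_one (hsplit : SplitStmt.{u}) {G : Type u} [Group G] [Finite G] (x : ℤ → G) (g : G)
    (k : ℕ) (T : TData x g k) (hk : 1 ≤ k) (i : ℤ) {p : G} (hp : p ∈ X x i i) :
    p = 1 ∨ p = x i := by
  have h := (hsplit x g k T i i le_rfl (by omega) p hp).1
  have hE : X x i (i - 1) = ⊥ := X_empty x (by omega)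
  rw [hE, Subgroup.mem_bot, Subgroup.mem_bot] at h
  rcases h with h | h
  · left; exact h
  · right
    have hi := T.inv i
    calc p = p * (x i * x i) := by rw [hi, mul_one]
      _ = (p * x i) * x i := by group
      _ = x i := by rw [h, one_mul]

/-- elements of a window of length two -/
theorem mem_X_two (hsplit : SplitStmt.{u}) {G : Type u} [Group G] [Finite G] (x : ℤ → G) (g : G)
    (k : ℕ) (T : TData x g k) (hk : 2 ≤ k) (i j : ℤ) (hj : j = i + 1) {p : G}
    (hp : p ∈ X x i j) : p = 1 ∨ p = x i ∨ p = x j ∨ p = x i * x j := by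
  have h := (hsplit x g k T i j (by omega) (by omega) p hp).1
  have hE : j - 1 = i := by omega
  rw [hE] at h
  rcases h with h | h
  · rcases mem_X_one hsplit x g k T (by omega) i h with h1 | h1
    · exact Or.inl h1
    · exact Or.inr (Or.inl h1)
  · have hi := T.inv j
    have e : p = (p * x j) * x j := by
      calc p = p * (x j * x j) := by rw [hi, mul_one]
        _ = (p * x j) * x j := by group
    rcases mem_X_one hsplit x g k T (by omega) i h with h1 | h1
    · right; right; left; rw [e, h1, one_mul]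
    · right; right; right; rw [e, h1]

/-- the group-theoretic core of K3 -/
theorem k3_core {G : Type*} [Group G] [Finite G] (a b c d : G) (P N : Subgroup G)
    (ia : a * a = 1) (ib : b * b = 1) (ic : c * c = 1) (id : d * d = 1)
    (cab : a * b = b * a) (cbc : b * c = c * b) (ccd : c * d = d * c)
    (r1 : a * c * a * c = b) (r2 : b * d * b * d = c) (hb1 : b ≠ 1) (hc1 : c ≠ 1)
    (haP : a ∈ P) (hdP : d ∈ P) (hNP : N ≤ P)
    (hPle : ∀ K : Subgroup G, a ∈ K → b ∈ K → c ∈ K → d ∈ K → P ≤ K)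
    (hN : ∀ n ∈ N, n = 1 ∨ n = b ∨ n = c ∨ n = b * c)
    (hbN : b ∈ N) (hcN : c ∈ N)
    (hcardP : Nat.card P = 24) (hcardN : Nat.card N = 4) :
    d * a * d = a * d * a := by
  have inva : a⁻¹ = a := inv_eq_of_mul_eq_one_right ia
  have invb : b⁻¹ = b := inv_eq_of_mul_eq_one_right ib
  have invc : c⁻¹ = c := inv_eq_of_mul_eq_one_right ic
  have invd : d⁻¹ = d := inv_eq_of_mul_eq_one_right id
  have hbcN : b * c ∈ N := mul_mem hbN hcN
  -- conjugation on the generators of N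
  have ka_b : a * b * a⁻¹ = b := by rw [cab, mul_inv_cancel_right]
  have ka_c : a * c * a⁻¹ = b * c := by
    calc a * c * a⁻¹ = a * c * a := by rw [inva]
      _ = (a * c * a * c) * c := by rw [mul_assoc (a * c * a) c c, ic, mul_one]
      _ = b * c := by rw [r1]
  have kb_b : b * b * b⁻¹ = b := by group
  have kb_c : b * c * b⁻¹ = c := by rw [cbc, mul_inv_cancel_right]
  have kc_b : c * b * c⁻¹ = b := by rw [← cbc, mul_inv_cancel_right]
  have kc_c : c * c * c⁻¹ = c := by group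
  have kd_b : d * b * d⁻¹ = b * c := by
    have e : b * (b * d * b * d) = (b * b) * (d * b * d) := by group
    calc d * b * d⁻¹ = d * b * d := by rw [invd]
      _ = b * (b * d * b * d) := by rw [e, ib, one_mul]
      _ = b * c := by rw [r2]
  have kd_c : d * c * d⁻¹ = c := by rw [← ccd, mul_inv_cancel_right]
  have hconjN : ∀ p : G, p * b * p⁻¹ ∈ N → p * c * p⁻¹ ∈ N → ∀ n ∈ N, p * n * p⁻¹ ∈ N := by
    intro p h1 h2 n hn
    rcases hN n hn with h | h | h | h
    · rw [h]; simp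
    · rw [h]; exact h1
    · rw [h]; exact h2
    · rw [h]
      have e : p * (b * c) * p⁻¹ = (p * b * p⁻¹) * (p * c * p⁻¹) := by group
      rw [e]; exact mul_mem h1 h2
  have hPnorm : P ≤ Subgroup.normalizer (N : Set G) := by
    apply hPle
    · exact invol_mem_normalizer ia (hconjN a (by rw [ka_b]; exact hbN) (by rw [ka_c]; exact hbcN))
    · exact invol_mem_normalizer ib (hconjN b (by rw [kb_b]; exact hbN) (by rw [kb_c]; exact hcN))
    · exact invol_mem_normalizer ic (hconjN c (by rw [kc_b]; exact hbN) (by rw [kc_c]; exact hcN))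
    · exact invol_mem_normalizer id (hconjN d (by rw [kd_b]; exact hbcN) (by rw [kd_c]; exact hcN))
  have hPN : ∀ p ∈ P, ∀ n ∈ N, p * n * p⁻¹ ∈ N := fun p hp n hn =>
    ((Subgroup.mem_normalizer_iff.mp (hPnorm hp)) n).mp hn
  -- conjugation by u = a * d
  have ku_b : (a * d) * b * (a * d)⁻¹ = c := by
    have e : (a * d) * b * (a * d)⁻¹ = a * (d * b * d⁻¹) * a⁻¹ := by group
    have e2 : a * (b * c) * a⁻¹ = (a * b * a⁻¹) * (a * c * a⁻¹) := by group
    rw [e, kd_b, e2, ka_b, ka_c, ← mul_assoc, ib, one_mul]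
  have ku_c : (a * d) * c * (a * d)⁻¹ = b * c := by
    have e : (a * d) * c * (a * d)⁻¹ = a * (d * c * d⁻¹) * a⁻¹ := by group
    rw [e, kd_c, ka_c]
  have ku_bc : (a * d) * (b * c) * (a * d)⁻¹ = b := by
    have e : (a * d) * (b * c) * (a * d)⁻¹ =
        ((a * d) * b * (a * d)⁻¹) * ((a * d) * c * (a * d)⁻¹) := by group
    rw [e, ku_b, ku_c, cbc, ← mul_assoc, ic, one_mul]
  have hbc_ne : b ≠ c := by
    intro h
    apply hb1
    rw [← h] at r1
    have e : a * b * a * b = (a * b) * (a * b) := by group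
    rw [e, cab] at r1
    have e2 : b * a * (b * a) = b * a * b * a := by group
    have e3 : b * a * b * a = b * (a * b) * a := by group
    rw [e2, e3, cab] at r1
    have e4 : b * (b * a) * a = (b * b) * (a * a) := by group
    rw [e4, ib, ia, one_mul] at r1
    exact r1.symm
  -- commutativity of N
  have hcomm_b : ∀ m ∈ N, b * m = m * b := by
    intro m hm
    rcases hN m hm with h | h | h | h
    · rw [h]; simp
    · rw [h]
    · rw [h]; exact cbc
    · rw [h, ← mul_assoc, ib, one_mul, cbc, mul_assoc, ib, mul_one]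
  have hcomm_c : ∀ m ∈ N, c * m = m * c := by
    intro m hm
    rcases hN m hm with h | h | h | h
    · rw [h]; simp
    · rw [h]; exact cbc.symm
    · rw [h]
    · rw [h, mul_assoc, ic, mul_one, cbc, ← mul_assoc, ic, one_mul]
  have hcommN : ∀ n ∈ N, ∀ m ∈ N, n * m = m * n := by
    intro n hn m hm
    rcases hN n hn with h | h | h | h
    · rw [h]; simp
    · rw [h]; exact hcomm_b m hm
    · rw [h]; exact hcomm_c m hm
    · rw [h, mul_assoc, hcomm_c m hm, ← mul_assoc, hcomm_b m hm, mul_assoc]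
  -- the action of P on N
  let act : MulAction P N := Cfsg.Agent.H20.SN.conjActOn P N hPN
  let φ : P →* Equiv.Perm N := @MulAction.toPermHom P N _ act
  have hφ : ∀ (p : P) (n : N), ((φ p n : N) : G) = (p : G) * (n : G) * (p : G)⁻¹ :=
    fun p n => rfl
  have hφa_ne : φ ⟨a, haP⟩ ≠ 1 := by
    intro h
    have h1 := hφ ⟨a, haP⟩ ⟨c, hcN⟩
    rw [h] at h1
    have h2 : c = a * c * a⁻¹ := h1
    rw [ka_c] at h2
    apply hb1
    have e : b = (b * c) * c⁻¹ := by group
    rw [e, ← h2]; group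
  have hφa_sq : φ ⟨a, haP⟩ ^ 2 = 1 := by
    rw [← map_pow]
    have e : (⟨a, haP⟩ : P) ^ 2 = 1 := by
      apply Subtype.ext
      show a ^ 2 = 1
      rw [pow_two, ia]
    rw [e, map_one]
  have hφu_ne : φ ⟨a * d, mul_mem haP hdP⟩ ≠ 1 := by
    intro h
    have h1 := hφ ⟨a * d, mul_mem haP hdP⟩ ⟨b, hbN⟩
    rw [h] at h1
    have h2 : b = (a * d) * b * (a * d)⁻¹ := h1
    rw [ku_b] at h2
    exact hbc_ne h2
  have hφu_cube : φ ⟨a * d, mul_mem haP hdP⟩ ^ 3 = 1 := by
    have h3 : φ ⟨a * d, mul_mem haP hdP⟩ ^ 3 =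
        φ ⟨a * d, mul_mem haP hdP⟩ * (φ ⟨a * d, mul_mem haP hdP⟩ * φ ⟨a * d, mul_mem haP hdP⟩) := by
      rw [pow_succ, pow_two, mul_assoc]
    apply Equiv.ext
    intro n
    apply Subtype.ext
    rw [h3, Equiv.Perm.mul_apply, Equiv.Perm.mul_apply, hφ, hφ, hφ]
    show (a * d) * ((a * d) * ((a * d) * (n : G) * (a * d)⁻¹) * (a * d)⁻¹) * (a * d)⁻¹ = (n : G)
    rcases hN n n.2 with h | h | h | h
    · rw [h]; simp
    · rw [h, ku_b, ku_c, ku_bc]
    · rw [h, ku_c, ku_bc, ku_b]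
    · rw [h, ku_bc, ku_b, ku_c]
  have hf2 : Fact (Nat.Prime 2) := ⟨Nat.prime_two⟩
  have hf3 : Fact (Nat.Prime 3) := ⟨Nat.prime_three⟩
  have ho2 : orderOf (φ ⟨a, haP⟩) = 2 := orderOf_eq_prime hφa_sq hφa_ne
  have ho3 : orderOf (φ ⟨a * d, mul_mem haP hdP⟩) = 3 := orderOf_eq_prime hφu_cube hφu_ne
  have hd2 : 2 ∣ Nat.card φ.range := by
    have h := orderOf_dvd_natCard (⟨φ ⟨a, haP⟩, MonoidHom.mem_range.mpr ⟨_, rfl⟩⟩ : φ.range)
    rw [← Subgroup.orderOf_coe] at h
    rwa [ho2] at h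
  have hd3 : 3 ∣ Nat.card φ.range := by
    have h := orderOf_dvd_natCard
      (⟨φ ⟨a * d, mul_mem haP hdP⟩, MonoidHom.mem_range.mpr ⟨_, rfl⟩⟩ : φ.range)
    rw [← Subgroup.orderOf_coe] at h
    rwa [ho3] at h
  have hd6 : 6 ∣ Nat.card φ.range :=
    Nat.Coprime.mul_dvd_of_dvd_of_dvd (by decide : Nat.Coprime 2 3) hd2 hd3
  have hR6 : 6 ≤ Nat.card φ.range := Nat.le_of_dvd Nat.card_pos hd6
  have hkr : Nat.card φ.ker * Nat.card φ.range = 24 := by
    have h := Subgroup.card_mul_index φ.ker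
    rw [Subgroup.index_ker, hcardP] at h
    exact h
  have hker4 : Nat.card φ.ker ≤ 4 := by
    by_contra hgt
    have h5 : 5 ≤ Nat.card φ.ker := by omega
    have h30 : 5 * 6 ≤ Nat.card φ.ker * Nat.card φ.range := Nat.mul_le_mul h5 hR6
    omega
  have hN'le : N.subgroupOf P ≤ φ.ker := by
    intro n hn
    rw [MonoidHom.mem_ker]
    apply Equiv.ext
    intro m
    apply Subtype.ext
    rw [hφ]
    show (n : G) * (m : G) * (n : G)⁻¹ = (m : G)
    rw [hcommN (n : G) (Subgroup.mem_subgroupOf.mp hn) (m : G) m.2, mul_inv_cancel_right]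
  have hcardN' : Nat.card (N.subgroupOf P) = 4 := by
    rw [Nat.card_congr (Subgroup.subgroupOfEquivOfLe hNP).toEquiv, hcardN]
  have hN'eq : N.subgroupOf P = φ.ker :=
    Subgroup.eq_of_le_of_card_ge hN'le (by rw [hcardN']; exact hker4)
  have hu3 : (⟨a * d, mul_mem haP hdP⟩ : P) ^ 3 ∈ φ.ker := by
    rw [MonoidHom.mem_ker, map_pow, hφu_cube]
  rw [← hN'eq, Subgroup.mem_subgroupOf] at hu3
  have hwN : (a * d) ^ 3 ∈ N := hu3
  have hwu : (a * d) * (a * d) ^ 3 * (a * d)⁻¹ = (a * d) ^ 3 := by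
    rw [← pow_succ', pow_succ, mul_inv_cancel_right]
  have hw1 : (a * d) ^ 3 = 1 := by
    rcases hN _ hwN with h | h | h | h
    · exact h
    · exfalso
      rw [h, ku_b] at hwu
      exact hbc_ne hwu.symm
    · exfalso
      rw [h, ku_c] at hwu
      apply hb1
      have e : b = (b * c) * c⁻¹ := by group
      rw [e, hwu]; group
    · exfalso
      rw [h, ku_bc] at hwu
      apply hc1
      have e : c = b⁻¹ * (b * c) := by group
      rw [e, ← hwu]; group
  have h1 : (a * d * a) * (d * a * d) = 1 := by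
    rw [← hw1, pow_succ, pow_two]
    simp only [mul_assoc]
  have h2 : d * a * d = (a * d * a)⁻¹ := eq_inv_of_mul_eq_one_right h1
  rw [h2, mul_inv_rev, mul_inv_rev, inva, invd, mul_assoc]

theorem k3 (hcard : CardStmt.{u}) (hc1 : C1Stmt.{u}) (hsplit : SplitStmt.{u})
    (hc2 : C2Stmt.{u}) (hc3 : C3Stmt.{u}) : K3Stmt.{u} := by
  intro G _ _ x g T hc
  have i0 := T.inv 0
  have i1 := T.inv 1
  have i2 := T.inv 2
  have i3 := T.inv 3
  have inv0 : (x 0)⁻¹ = x 0 := inv_eq_of_mul_eq_one_right i0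
  have inv2 : (x 2)⁻¹ = x 2 := inv_eq_of_mul_eq_one_right i2
  have s0 : g * x 0 * g⁻¹ = x 1 := by simpa using T.shift 0
  have s1 : g * x 1 * g⁻¹ = x 2 := by
    have h := T.shift 1
    norm_num at h
    exact h
  have s2 : g * x 2 * g⁻¹ = x 3 := by
    have h := T.shift 2
    norm_num at h
    exact h
  have comm_of : ∀ i j : ℤ, j = i + 1 → x i * x j = x j * x i := by
    intro i j hj
    have h := hc1 x g 3 T i j (by omega) (by omega)
    have hE : X x (i + 1) (j - 1) = ⊥ := X_empty x (by omega)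
    rw [hE, Subgroup.mem_bot] at h
    have e : x i * x j = (x i * x j * (x i)⁻¹ * (x j)⁻¹) * (x j * x i) := by group
    rw [e, h, one_mul]
  have c01 := comm_of 0 1 (by norm_num)
  have c12 := comm_of 1 2 (by norm_num)
  have c23 := comm_of 2 3 (by norm_num)
  have hx0ne : x 0 ≠ 1 := by
    intro h
    have hcard0 := T.card 1 le_rfl (by norm_num)
    have hbot : X x 0 (((1:ℕ):ℤ) - 1) = ⊥ := by
      rw [eq_bot_iff, X_le_iff]
      intro i hi1 hi2
      have hi : i = 0 := by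
        have : (((1:ℕ):ℤ) - 1) = 0 := by norm_num
        omega
      rw [hi, h]
      exact Subgroup.one_mem _
    rw [hbot, Subgroup.card_bot] at hcard0
    norm_num at hcard0
  have shift_ne : ∀ p q : G, g * p * g⁻¹ = q → p ≠ 1 → q ≠ 1 := by
    intro p q hpq hp hq
    apply hp
    rw [hq] at hpq
    have e : p = g⁻¹ * (g * p * g⁻¹) * g := by group
    rw [e, hpq]; group
  have hx1ne : x 1 ≠ 1 := shift_ne _ _ s0 hx0ne
  have hx2ne : x 2 ≠ 1 := shift_ne _ _ s1 hx1ne
  -- x 0, x 2 do not commute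
  have hnc : x 0 * x 2 ≠ x 2 * x 0 := by
    obtain ⟨l, hl3, hl⟩ := hc2 x g 3 T (by norm_num)
    have hl2 : 2 * l ≤ 3 + 2 := hc3 x g 3 l T hl hl3
    obtain ⟨hl1, -, hlne⟩ := hl
    have hl' : l = 1 ∨ l = 2 := by omega
    rcases hl' with rfl | rfl
    · exfalso
      apply hlne
      have e : (((1:ℕ):ℤ)) = 1 := by norm_num
      rw [e]
      exact c01
    · have e : (((2:ℕ):ℤ)) = 2 := by norm_num
      rw [e] at hlne
      exact hlne
  have r1 : x 0 * x 2 * x 0 * x 2 = x 1 := by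
    have h := hc1 x g 3 T 0 2 (by norm_num) (by norm_num)
    have hE : X x ((0:ℤ) + 1) (2 - 1) = X x 1 1 := by norm_num
    rw [hE] at h
    rcases mem_X_one hsplit x g 3 T (by norm_num) 1 h with h1 | h1
    · exfalso
      apply hnc
      have e : x 0 * x 2 = (x 0 * x 2 * (x 0)⁻¹ * (x 2)⁻¹) * (x 2 * x 0) := by group
      rw [e, h1, one_mul]
    · rw [inv0, inv2] at h1
      exact h1
  have r2 : x 1 * x 3 * x 1 * x 3 = x 2 := by
    calc x 1 * x 3 * x 1 * x 3
        = (g * x 0 * g⁻¹) * (g * x 2 * g⁻¹) * (g * x 0 * g⁻¹) * (g * x 2 * g⁻¹) := by rw [s0, s2]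
      _ = g * (x 0 * x 2 * x 0 * x 2) * g⁻¹ := by group
      _ = g * x 1 * g⁻¹ := by rw [r1]
      _ = x 2 := s1
  refine ⟨c01, r1, ?_⟩
  have hcardN : Nat.card (X x 1 2) = 4 := by
    have h := hcard x g 3 T 1 2 (by norm_num) (by norm_num)
    have e : ((2:ℤ) - 1 + 1).toNat = 2 := by rfl
    rw [e] at h
    rw [h]; norm_num
  exact k3_core (x 0) (x 1) (x 2) (x 3) (X x 0 3) (X x 1 2) i0 i1 i2 i3 c01 c12 c23 r1 r2
    hx1ne hx2ne (mem_X x le_rfl (by norm_num)) (mem_X x (by norm_num) le_rfl)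
    (X_mono x (by norm_num) (by norm_num))
    (fun K h0 h1 h2 h3 => (X_le_iff x K).mpr (fun i hi0 hi3 => by
      have hi : i = 0 ∨ i = 1 ∨ i = 2 ∨ i = 3 := by omega
      rcases hi with rfl | rfl | rfl | rfl
      · exact h0
      · exact h1
      · exact h2
      · exact h3))
    (fun n hn => mem_X_two hsplit x g 3 T (by norm_num) 1 2 (by norm_num) hn)
    (mem_X x le_rfl (by norm_num)) (mem_X x (by norm_num) le_rfl) hc hcardN

end Cfsg.Agent.H20.Tt

example (hcard : Cfsg.Agent.H64.Tt.CardStmt.{u}) (hc1 : Cfsg.Agent.H64.Tt.C1Stmt.{u})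
    (hsplit : Cfsg.Agent.H64.Tt.SplitStmt.{u}) (hc2 : Cfsg.Agent.H64.Tt.C2Stmt.{u})
    (hc3 : Cfsg.Agent.H64.Tt.C3Stmt.{u}) : Cfsg.Agent.H64.Tt.K3Stmt.{u} :=
  Cfsg.Agent.H20.Tt.k3 hcard hc1 hsplit hc2 hc3
#print axioms Cfsg.Agent.H20.Tt.k3
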