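import Mathlib
import Cfsg.Agent.H64.TtDefs

universe u v

namespace Cfsg.Agent.H20.Tt

open MulAction Cfsg.Agent.H64.Tt


theorem seq (hTwo : TwoStmt.{u,v}) (hArcTwo : ArcTwoStmt.{u,v}) (hArcConn : ArcConnStmt.{u,v})
    (hReg : RegStmt.{u,v}) : SeqStmt.{u,v} := by
  intro G _ _ Ω _ _ hprim a b hab
  obtain ⟨k, hk1, hk2⟩ := hTwo hprim a b hab
  refine ⟨k, hk2, fun hk => ?_⟩
  have hB : (stabilizer G a ⊓ stabilizer G b : Subgroup G) ≠ ⊥ := by
    intro hbot
    rw [hbot, Subgroup.card_bot] at hk1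
    have := Nat.one_lt_two_pow (by omega : k ≠ 0)
    omega
  have hpt : IsPretransitive G Ω := hprim.toIsPretransitive
  have hstab0 : stabilizer G (⟨(a, b), mem_orbit_self _⟩ : Arcs G a b)
      = stabilizer G a ⊓ stabilizer G b :=
    stabilizer_Arcs G (⟨(a, b), mem_orbit_self _⟩ : Arcs G a b)
  generalize he0 : (⟨(a, b), mem_orbit_self _⟩ : Arcs G a b) = e0 at hstab0
  have he01 : e0.1.1 = a := by rw [← he0]
  have he02 : e0.1.2 = b := by rw [← he0]
  have hfaith : ∀ h : G, (∀ e : Arcs G a b, h • e = e) → h = 1 := by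
    intro h hh
    apply FaithfulSMul.eq_of_smul_eq_smul (α := Ω)
    intro x
    rw [one_smul]
    obtain ⟨h1, rfl⟩ := exists_smul_eq G a x
    have h2 := hh ⟨(h1 • a, h1 • b), ⟨h1, rfl⟩⟩
    have h3 := congrArg (fun e : Arcs G a b => e.1.1) h2
    exact h3
  have hinv : ∀ (h : G) (e e' : Arcs G a b), Succ G a b e e' →
      Succ G a b (h • e) (h • e') := by
    rintro h e e' ⟨h1, h2⟩
    refine ⟨?_, ?_⟩
    · show h • e'.1.1 = h • e.1.2
      rw [h1]
    · intro hle
      apply h2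
      intro s hs
      have hs1 : s • e.1.1 = e.1.1 := (Subgroup.mem_inf.mp hs).1
      have hs2 : s • e.1.2 = e.1.2 := (Subgroup.mem_inf.mp hs).2
      have hs' : h * s * h⁻¹ ∈ stabilizer G (h • e.1.1) ⊓ stabilizer G (h • e.1.2) := by
        refine Subgroup.mem_inf.mpr ⟨?_, ?_⟩
        · rw [mem_stabilizer_iff, mul_smul, mul_smul, inv_smul_smul, hs1]
        · rw [mem_stabilizer_iff, mul_smul, mul_smul, inv_smul_smul, hs2]
      have h3 : h * s * h⁻¹ ∈ stabilizer G (h • e'.1.2) := hle hs'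
      rw [mem_stabilizer_iff, mul_smul, mul_smul, inv_smul_smul] at h3
      exact smul_left_cancel h h3
  have htwo := hArcTwo hprim a b hab hB
  have hconn := hArcConn hprim a b hab hB
  have hcard : ∀ e : Arcs G a b, Nat.card (stabilizer G e) = 2 ^ k := by
    intro e
    obtain ⟨h, rfl⟩ := exists_smul_eq G e0 e
    rw [MulAction.stabilizer_smul_eq_stabilizer_map_conj,
      Subgroup.card_map_of_injective (MulAut.conj h).injective, hstab0, hk1]
  have hR := hReg (Succ G a b) k inferInstance hfaith hinv htwo hconn hcard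
  have hne : {e' : Arcs G a b | Succ G a b e0 e'}.Nonempty := by
    apply Set.nonempty_of_ncard_ne_zero
    rw [htwo e0]
    norm_num
  obtain ⟨e', he'⟩ := hne
  obtain ⟨g, rfl⟩ := exists_smul_eq G e0 e'
  have hga : g • a = b := by
    have h1 : g • e0.1.1 = e0.1.2 := he'.1
    rwa [he01, he02] at h1
  refine ⟨g, fun n hn1 hn2 => ?_⟩
  have key : ∀ j : ℕ, stabilizer G (g ^ j • e0) =
      stabilizer G (g ^ j • a) ⊓ stabilizer G (g ^ (j + 1) • a) := by
    intro j
    rw [stabilizer_Arcs]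
    have h1 : (g ^ j • e0).1.1 = g ^ j • a := by
      show g ^ j • e0.1.1 = _
      rw [he01]
    have h2 : (g ^ j • e0).1.2 = g ^ (j + 1) • a := by
      show g ^ j • e0.1.2 = _
      rw [he02, ← hga, ← mul_smul, ← pow_succ]
    rw [h1, h2]
  have hEq : (⨅ j ∈ Finset.range (n + 1), stabilizer G (g ^ j • a)) =
      ⨅ j ∈ Finset.range n, stabilizer G (g ^ j • e0) := by
    ext s
    simp only [Subgroup.mem_iInf, Finset.mem_range]
    constructor
    · intro hs j hj
      rw [key, Subgroup.mem_inf]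
      exact ⟨hs j (by omega), hs (j + 1) (by omega)⟩
    · intro hs j hj
      by_cases hjn : j < n
      · have h5 := hs j hjn
        rw [key] at h5
        exact h5.1
      · have hj' : j = (n - 1) + 1 := by omega
        have h5 := hs (n - 1) (by omega)
        rw [key] at h5
        rw [hj']
        exact h5.2
  rw [hEq]
  exact hR e0 g he' n hn1 hn2

end Cfsg.Agent.H20.Tt

example (hTwo : Cfsg.Agent.H64.Tt.TwoStmt.{u,v}) (hArcTwo : Cfsg.Agent.H64.Tt.ArcTwoStmt.{u,v})
    (hArcConn : Cfsg.Agent.H64.Tt.ArcConnStmt.{u,v}) (hReg : Cfsg.Agent.H64.Tt.RegStmt.{u,v}) :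
    Cfsg.Agent.H64.Tt.SeqStmt.{u,v} := Cfsg.Agent.H20.Tt.seq hTwo hArcTwo hArcConn hReg
#print axioms Cfsg.Agent.H20.Tt.seq
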