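import Mathlib
import Cfsg.Agent.H67.UmDefs

/-!
# Piece UM-J2 (for helper67, S2263): a unitary transvection of size two

`J = 1 + λ v v*` with `v = (1, s)`, `s ^ (q + 1) = -1`, `λ ^ q = -λ`, `λ ≠ 0`.
-/

set_option autoImplicit false

universe u

namespace Cfsg.Agent.H20.Um

open Matrix Cfsg.Agent.H67.Um

theorem q_eq_pow (F : Type u) [Field F] [Fintype F] (p q : ℕ) [CharP F p] (hp : p.Prime)
    (hF : Fintype.card F = q ^ 2) : ∃ k, q = p ^ k := by
  obtain ⟨n, -, hn2⟩ := FiniteField.card F p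
  have hdvd : q ∣ p ^ (n : ℕ) := by
    rw [← hn2, hF]
    exact dvd_pow_self q two_ne_zero
  obtain ⟨k, -, hk⟩ := (Nat.dvd_prime_pow hp).mp hdvd
  exact ⟨k, hk⟩

/-- existence of the parameters -/
theorem exists_params (F : Type u) [Field F] [Fintype F] (p q : ℕ) [CharP F p] (hp : p.Prime)
    (hF : Fintype.card F = q ^ 2) :
    ∃ l s : F, l ≠ 0 ∧ s ≠ 0 ∧ l ^ q = -l ∧ s ^ q * s = -1 := by
  by_cases h2 : p = 2
  · subst h2
    refine ⟨1, 1, one_ne_zero, one_ne_zero, ?_, ?_⟩
    · rw [one_pow]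
      exact (CharTwo.neg_eq (1 : F)).symm
    · rw [one_pow, one_mul]
      exact (CharTwo.neg_eq (1 : F)).symm
  · obtain ⟨k, hk⟩ := q_eq_pow F p q hp hF
    have hodd : Odd q := by
      rw [hk]
      exact Odd.pow (hp.odd_of_ne_two h2)
    have hq1 : q ≠ 1 := by
      intro h
      have h1 : 1 < Fintype.card F := Fintype.one_lt_card
      rw [hF, h] at h1
      norm_num at h1
    obtain ⟨m, hm⟩ := hodd
    have hm0 : 0 < m := by omega
    classical
    obtain ⟨g, hg⟩ := IsCyclic.exists_generator (α := Fˣ)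
    have hord : orderOf g = 2 * (2 * m ^ 2 + 2 * m) := by
      rw [orderOf_eq_card_of_forall_mem_zpowers hg, Nat.card_eq_fintype_card, Fintype.card_units,
        hF, hm]
      have e : (2 * m + 1) ^ 2 = 2 * (2 * m ^ 2 + 2 * m) + 1 := by ring
      rw [e]
      omega
    have hw1 : g ^ (2 * m ^ 2 + 2 * m) ≠ 1 := by
      apply pow_ne_one_of_lt_orderOf
      · have : 0 < m ^ 2 := by positivity
        omega
      · rw [hord]
        have : 0 < m ^ 2 := by positivity
        omega
    have hw2 : (g ^ (2 * m ^ 2 + 2 * m)) ^ 2 = 1 := by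
      rw [← pow_mul, mul_comm, ← hord, pow_orderOf_eq_one]
    have hw : (g : F) ^ (2 * m ^ 2 + 2 * m) = -1 := by
      have h1 : ((g : F) ^ (2 * m ^ 2 + 2 * m)) ^ 2 = 1 := by
        have := congrArg Units.val hw2
        simpa using this
      have h3 : (g : F) ^ (2 * m ^ 2 + 2 * m) ≠ 1 := by
        intro h
        apply hw1
        apply Units.ext
        simpa using h
      have h4 : ((g : F) ^ (2 * m ^ 2 + 2 * m) - 1) * ((g : F) ^ (2 * m ^ 2 + 2 * m) + 1) = 0 := by
        linear_combination h1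
      rcases mul_eq_zero.mp h4 with h5 | h5
      · exact absurd (sub_eq_zero.mp h5) h3
      · exact eq_neg_of_add_eq_zero_left h5
    refine ⟨(g : F) ^ (m + 1), (g : F) ^ m, pow_ne_zero _ g.ne_zero, pow_ne_zero _ g.ne_zero, ?_, ?_⟩
    · rw [← pow_mul, hm]
      have e : (m + 1) * (2 * m + 1) = (2 * m ^ 2 + 2 * m) + (m + 1) := by ring
      rw [e, pow_add, hw]
      ring
    · rw [← pow_mul, ← pow_add, hm]
      have e : m * (2 * m + 1) + m = 2 * m ^ 2 + 2 * m := by ring
      rw [e, hw]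

/-- piece UM-J2 -/
theorem j2 : StJ2.{u} := by
  intro F _ _ p q _ hp hF
  obtain ⟨l, s, hl0, hs0, hl, hs⟩ := exists_params F p q hp hF
  obtain ⟨k, hk⟩ := q_eq_pow F p q hp hF
  have : Fact p.Prime := ⟨hp⟩
  have hfrob : ∀ x y : F, (x + y) ^ q = x ^ q + y ^ q := by
    intro x y
    rw [hk]
    exact add_pow_char_pow x y p k
  have hqq : ∀ x : F, (x ^ q) ^ q = x := by
    intro x
    rw [← pow_mul, ← sq, ← hF, FiniteField.pow_card]
  have a1 : (1 + l) ^ q = 1 - l := by
    rw [hfrob, one_pow, hl]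
    ring
  have a2 : (1 - l) ^ q = 1 + l := by
    have h1l : 1 - l = 1 + l ^ q := by
      rw [hl]
      ring
    rw [h1l, hfrob, one_pow, hqq]
  have e0 : ∀ v0 v1 : F, ((1 + l) * v0 + l * s ^ q * v1) ^ q
      = (1 - l) * v0 ^ q - l * s * v1 ^ q := by
    intro v0 v1
    rw [hfrob]
    simp only [mul_pow]
    rw [a1, hl, hqq]
    ring
  have e1 : ∀ v0 v1 : F, (l * s * v0 + (1 - l) * v1) ^ q
      = -(l * s ^ q) * v0 ^ q + (1 + l) * v1 ^ q := by
    intro v0 v1
    rw [hfrob]
    simp only [mul_pow]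
    rw [a2, hl]
    ring
  have key : ∀ u0 u1 v0 v1 : F,
      ((1 + l) * u0 + l * s ^ q * u1) * ((1 + l) * v0 + l * s ^ q * v1) ^ q
        + (l * s * u0 + (1 - l) * u1) * (l * s * v0 + (1 - l) * v1) ^ q
        = u0 * v0 ^ q + u1 * v1 ^ q := by
    intro u0 u1 v0 v1
    rw [e0, e1]
    linear_combination (-(l ^ 2) * (u0 * v0 ^ q + u1 * v1 ^ q)) * hs
  have hpow : ∀ N : ℕ, (!![1 + l, l * s ^ q; l * s, 1 - l] : Matrix (Fin 2) (Fin 2) F) ^ N
      = !![1 + (N : F) * l, (N : F) * l * s ^ q; (N : F) * l * s, 1 - (N : F) * l] := by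
    intro N
    induction N with
    | zero => simp [Matrix.one_fin_two]
    | succ N ih =>
      rw [pow_succ, ih, Matrix.mul_fin_two]
      have h00 : (1 + (N : F) * l) * (1 + l) + (N : F) * l * s ^ q * (l * s)
          = 1 + ((N + 1 : ℕ) : F) * l := by
        push_cast
        linear_combination ((N : F) * l ^ 2) * hs
      have h01 : (1 + (N : F) * l) * (l * s ^ q) + (N : F) * l * s ^ q * (1 - l)
          = ((N + 1 : ℕ) : F) * l * s ^ q := by
        push_cast
        ring
      have h10 : (N : F) * l * s * (1 + l) + (1 - (N : F) * l) * (l * s)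
          = ((N + 1 : ℕ) : F) * l * s := by
        push_cast
        ring
      have h11 : (N : F) * l * s * (l * s ^ q) + (1 - (N : F) * l) * (1 - l)
          = 1 - ((N + 1 : ℕ) : F) * l := by
        push_cast
        linear_combination ((N : F) * l ^ 2) * hs
      rw [h00, h01, h10, h11]
  refine ⟨!![1 + l, l * s ^ q; l * s, 1 - l], ?_, ?_⟩
  · intro u v
    have h := key (u 0) (u 1) (v 0) (v 1)
    simpa [Cfsg.hermForm, Fin.sum_univ_two, Matrix.mulVec, dotProduct] using h
  · intro N c hNc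
    rw [hpow] at hNc
    have h10 : (N : F) * l * s = 0 := by
      have h := congrFun (congrFun hNc 1) 0
      simpa using h
    have h00 : 1 + (N : F) * l = c := by
      have h := congrFun (congrFun hNc 0) 0
      simpa using h
    have hN : (N : F) = 0 := by
      rcases mul_eq_zero.mp h10 with h | h
      · rcases mul_eq_zero.mp h with h' | h'
        · exact h'
        · exact absurd h' hl0
      · exact absurd h hs0
    refine ⟨(CharP.cast_eq_zero_iff F p N).mp hN, ?_⟩
    rw [← h00, hN]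
    ring

example : Cfsg.Agent.H67.Um.StJ2.{u} := j2

end Cfsg.Agent.H20.Um

#print axioms Cfsg.Agent.H20.Um.j2
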